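import Cfsg.Agent.Lib.Recognition.ExtraspecialThirtyTwo.AltCase.Eight

/-!
# The two cases put together
-/

set_option autoImplicit false
set_option linter.unusedSectionVars false

namespace CfsgLib.Recognition.ExtraspecialThirtyTwo.AltCase

open Subgroup

/-- A simple group has a subgroup isomorphic to the alternating group of degree eight and two classes of
involutions. -/
theorem exists_data {G : Type*} [Group G] [Finite G] [IsSimpleGroup G] (S : St G) :
    ∃ B : Subgroup G, Nonempty (B ≃* alternatingGroup (Fin 8)) ∧ centralizer ({S.s} : Set G) ≤ B ∧ NN S ≤ B ∧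
      ∃ u : G, orderOf u = 2 ∧ ¬ IsConj S.s u := by
  obtain ⟨KK, O⟩ := exists_oddPart S
  obtain ⟨i, u, hu, hus, hc⟩ := exists_fused_plane S
  have hi : Fix S KK i := fix_of_conj S O hu hus hc
  by_cases hj : ∃ j, j ≠ i ∧ Fix S KK j
  swap
  · push Not at hj
    exact (one_plane_false S O hi hj).elim
  obtain ⟨j, hji, hj⟩ := hj
  obtain ⟨⟨k, hk, l, hl, hkE, hlE, hkc, hlc, hcomm, hcover⟩, hlast⟩ := two_fix S O (Ne.symm hji) hi hj
  have T : Two S KK i j k l := ⟨Ne.symm hji, ⟨hk, hkE, hkc⟩, ⟨hl, hlE, hlc⟩, hcomm⟩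
  obtain ⟨B, hB, hLB, hNB⟩ := exists_eight S O T hcover
  obtain ⟨r, hri, hrj⟩ := (show ∀ i j : Fin 3, ∃ r : Fin 3, r ≠ i ∧ r ≠ j by decide) i j
  exact ⟨B, hB, hLB, hNB, pw' S r,
    CfsgLib.Involution.Dihedral.orderOf_eq_two (EE_sq S (w_mem_EE S r)) (w_ne S r).1,
    fun h => hlast r hri hrj (fix_of_conj S O (w_mem_PP S r) (w_ne S r).2 h)⟩

end CfsgLib.Recognition.ExtraspecialThirtyTwo.AltCase
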