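import Cfsg.Agent.Lib.Recognition.ExtraspecialThirtyTwo.Setting

/-!
# The centraliser of order 192 of the alternating groups of degree eight and nine

Facts on the subgroup `E` of order 16, on the Sylow subgroup containing it and on the three planes.
-/

set_option autoImplicit false
set_option linter.unusedSectionVars false
set_option linter.style.haveILetI false
set_option linter.unusedVariables false
set_option maxRecDepth 40000

namespace CfsgLib.Recognition.ExtraspecialThirtyTwo.AltCase

open Subgroup Code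

/-- Conjugation of codes. -/
abbrev cj (a k : ℕ) : ℕ := conjC false false a k

/-- The product of codes. -/
abbrev mu (a k : ℕ) : ℕ := mulC false false a k

/-- The codes of the Sylow subgroup. -/
def inS (k : ℕ) : Bool := Nat.beq (k / 32 % 3) 0

/-- The codes of the elementary abelian subgroup of order sixteen. -/
def inE (k : ℕ) : Bool := inS k && (Nat.beq (k % 32 / 4 % 2) 0 && Nat.beq (k % 32 / 16) 0)

/-- A Boolean test of all codes. -/
def allC (f : ℕ → Bool) : Prop := ∀ k < 192, f k = true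

theorem e_check : ∀ k < 192, inE k = true → inE (invC false false k) = true ∧ mu k k = 0 := by decide +kernel

theorem e_mul : ∀ k < 192, inE k = true → ∀ l < 192, inE l = true →
    inE (mu k l) = true ∧ mu k l = mu l k := by decide +kernel

theorem s_mul : ∀ k < 192, inS k = true → ∀ l < 192, inS l = true → inS (mu k l) = true := by decide +kernel

theorem s_inv : ∀ k < 192, inS k = true → inS (invC false false k) = true := by decide +kernel

theorem e_self : ∀ k < 192,
    ((List.range 192).all fun l => !inE l || Nat.beq (cj k l) l) = true → inE k = true := by decide +kernel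

theorem e_norm : ∀ k < 192,
    ((List.range 192).all fun l => !inE l || inE (cj k l)) = inS k := by decide +kernel

theorem s_cent : ∀ k < 192, inS k = true →
    ((List.range 192).all fun l => !inS l || commC false false k l) = true → k < 2 := by decide +kernel

theorem e_count : ∀ g < 192, inS g = true → inE g = false → mu g g = 0 →
    ((List.range 192).filter fun h => inS h && Nat.beq (mu h h) 0 && commC false false g h).length = 12 := by
  decide +kernel

theorem e_fuse : ∀ k < 192, mu k k = 0 →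
    ((List.range 192).any fun l => inE (cj l k)) = true := by decide +kernel

variable {G : Type*} [Group G]

/-- A centraliser with the coordinates of the first type. -/
abbrev St (G : Type*) [Group G] := Setting G false false

variable (S : St G)

/-- The subgroup of elements with codes satisfying a test closed under products and inverses. -/
def codeSub (f : ℕ → Bool) (h1 : f 0 = true) (hm : ∀ k < 192, f k = true → ∀ l < 192, f l = true → f (mu k l) = true)
    (hi : ∀ k < 192, f k = true → f (invC false false k) = true) : Subgroup G where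
  carrier := {u | ∃ k < 192, f k = true ∧ S.el k = u}
  one_mem' := ⟨0, by norm_num, h1, S.el_zero⟩
  mul_mem' := by
    rintro _ _ ⟨k, hk, fk, rfl⟩ ⟨l, hl, fl, rfl⟩
    exact ⟨_, mulC_lt _ _ k hk l hl, hm k hk fk l hl fl, S.el_mul hk hl⟩
  inv_mem' := by
    rintro _ ⟨k, hk, fk, rfl⟩
    exact ⟨_, (invC_check _ _ k hk).1, hi k hk fk, S.el_invC hk⟩

/-- The Sylow subgroup. -/
def SS : Subgroup G := codeSub S inS (by decide) s_mul s_inv

/-- The elementary abelian subgroup of order sixteen. -/
def EE : Subgroup G := codeSub S inE (by decide) (fun k hk fk l hl fl => (e_mul k hk fk l hl fl).1)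
  (fun k hk fk => (e_check k hk fk).1)

theorem card_codeSub (f : ℕ → Bool) (h1 hm hi) :
    Nat.card (codeSub S f h1 hm hi) = ((List.range 192).filter f).length := by
  classical
  rw [← List.toFinset_card_of_nodup (List.nodup_range.filter _), ← Nat.card_eq_finsetCard]
  refine (Nat.card_eq_of_bijective (fun k => (⟨S.el k.1, k.1, ?_, ?_, rfl⟩ : codeSub S f h1 hm hi)) ⟨?_, ?_⟩).symm
  · have := List.mem_toFinset.1 k.2
    simp only [List.mem_filter, List.mem_range] at this
    exact this.1
  · have := List.mem_toFinset.1 k.2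
    simp only [List.mem_filter, List.mem_range] at this
    exact this.2
  · rintro ⟨k, hk⟩ ⟨l, hl⟩ e
    have hk' := List.mem_toFinset.1 hk
    have hl' := List.mem_toFinset.1 hl
    simp only [List.mem_filter, List.mem_range] at hk' hl'
    exact Subtype.ext ((S.el_inj hk'.1 hl'.1).1 (congrArg Subtype.val e))
  · rintro ⟨_, k, hk, fk, rfl⟩
    exact ⟨⟨k, by simp [hk, fk]⟩, rfl⟩

theorem card_SS : Nat.card (SS S) = 64 := by
  exact (card_codeSub S _ _ _ _).trans (by decide +kernel)

theorem card_EE : Nat.card (EE S) = 16 := by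
  exact (card_codeSub S _ _ _ _).trans (by decide +kernel)

theorem el_mem_codeSub {f : ℕ → Bool} {h1 hm hi} {k : ℕ} (hk : k < 192) :
    S.el k ∈ codeSub S f h1 hm hi ↔ f k = true :=
  ⟨fun ⟨l, hl, fl, e⟩ => (S.el_inj hl hk).1 e ▸ fl, fun h => ⟨k, hk, h, rfl⟩⟩

theorem el_mem_SS {k : ℕ} (hk : k < 192) : S.el k ∈ SS S ↔ inS k = true := el_mem_codeSub S hk

theorem el_mem_EE {k : ℕ} (hk : k < 192) : S.el k ∈ EE S ↔ inE k = true := el_mem_codeSub S hk

theorem EE_le : EE S ≤ SS S := by
  rintro _ ⟨k, hk, fk, rfl⟩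
  refine (el_mem_SS S hk).2 ?_
  simp only [inE, Bool.and_eq_true] at fk
  exact fk.1

theorem SS_le : SS S ≤ centralizer ({S.s} : Set G) := by
  rintro _ ⟨k, hk, -, rfl⟩
  exact S.el_mem hk

theorem s_mem_EE : S.s ∈ EE S := S.el_one ▸ (el_mem_EE S (by norm_num)).2 (by decide +kernel)

theorem EE_comm {u v : G} (hu : u ∈ EE S) (hv : v ∈ EE S) : Commute u v := by
  obtain ⟨k, hk, fk, rfl⟩ := hu
  obtain ⟨l, hl, fl, rfl⟩ := hv
  show S.el k * S.el l = S.el l * S.el k
  rw [← S.el_mul hk hl, ← S.el_mul hl hk]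
  exact congrArg S.el (e_mul k hk fk l hl fl).2

theorem EE_sq {u : G} (hu : u ∈ EE S) : u * u = 1 := by
  obtain ⟨k, hk, fk, rfl⟩ := hu
  rw [← S.el_mul hk hk, ← S.el_zero]
  exact congrArg S.el (e_check k hk fk).2

theorem EE_cent {u : G} (hu : ∀ v ∈ EE S, Commute u v) : u ∈ EE S := by
  obtain ⟨k, hk, rfl⟩ := S.exists_el (hu _ (s_mem_EE S))
  refine (el_mem_EE S hk).2 (e_self k hk ?_)
  refine List.all_eq_true.2 fun l hl => ?_
  rw [List.mem_range] at hl
  cases fl : inE l
  · rfl
  · simp only [Bool.not_true, Bool.false_or, Nat.beq_eq]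
    refine (S.el_inj (conjC_lt _ _ hk hl) hl).1 ?_
    rw [S.el_conjC hk hl, (hu _ ((el_mem_EE S hl).2 fl)).eq, mul_inv_cancel_right]

/-- An element fixing `s` and normalising `E` lies in the Sylow subgroup. -/
theorem mem_SS {u : G} (hu : Commute u S.s) (hE : ∀ v ∈ EE S, u * v * u⁻¹ ∈ EE S) : u ∈ SS S := by
  obtain ⟨k, hk, rfl⟩ := S.exists_el hu
  refine (el_mem_SS S hk).2 ?_
  rw [← e_norm k hk]
  refine List.all_eq_true.2 fun l hl => ?_
  rw [List.mem_range] at hl
  cases fl : inE l
  · rfl
  · simp only [Bool.not_true, Bool.false_or]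
    refine (el_mem_EE S (conjC_lt _ _ hk hl)).1 ?_
    rw [S.el_conjC hk hl]
    exact hE _ ((el_mem_EE S hl).2 fl)

theorem SS_norm {u v : G} (hu : u ∈ SS S) (hv : v ∈ EE S) : u * v * u⁻¹ ∈ EE S := by
  obtain ⟨k, hk, fk, rfl⟩ := hu
  obtain ⟨l, hl, fl, rfl⟩ := hv
  rw [← S.el_conjC hk hl]
  refine (el_mem_EE S (conjC_lt _ _ hk hl)).2 ?_
  have h := e_norm k hk
  rw [fk, List.all_eq_true] at h
  simpa [fl] using h l (List.mem_range.2 hl)

theorem SS_centre {u : G} (hu : u ∈ SS S) (hc : ∀ v ∈ SS S, Commute u v) : u = 1 ∨ u = S.s := by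
  obtain ⟨k, hk, fk, rfl⟩ := hu
  have h2 : k < 2 := by
    refine s_cent k hk fk (List.all_eq_true.2 fun l hl => ?_)
    rw [List.mem_range] at hl
    cases fl : inS l
    · rfl
    · simp only [Bool.not_true, Bool.false_or]
      exact (S.commute_el_iff hk hl).1 (hc _ ((el_mem_SS S hl).2 fl))
  interval_cases k
  · exact Or.inl S.el_zero
  · exact Or.inr S.el_one

theorem isPGroup_SS : IsPGroup 2 (SS S) := IsPGroup.of_card (n := 6) (by rw [card_SS]; norm_num)

/-- The Sylow subgroup. -/
theorem exists_sylow [Finite G] : ∃ P : Sylow 2 G, (P : Subgroup G) = SS S := by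
  haveI : Fact (Nat.Prime 2) := ⟨Nat.prime_two⟩
  obtain ⟨P, hP⟩ := (isPGroup_SS S).exists_le_sylow
  refine ⟨P, le_antisymm ?_ hP⟩
  by_contra hle
  haveI : Group.IsNilpotent (P : Subgroup G) := P.2.isNilpotent
  have hlt : (SS S).subgroupOf P < ⊤ :=
    lt_top_iff_ne_top.2 fun e => hle (Subgroup.subgroupOf_eq_top.1 e)
  obtain ⟨n, hnN, hn⟩ := SetLike.exists_of_lt (Group.normalizerCondition_of_isNilpotent _ hlt)
  refine hn (mem_subgroupOf.2 ?_)
  have hconj : ∀ v : G, v ∈ SS S → (n : G) * v * (n : G)⁻¹ ∈ SS S := fun v hv =>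
    mem_subgroupOf.1 ((mem_normalizer_iff.1 hnN ⟨v, hP hv⟩).1 (mem_subgroupOf.2 hv))
  have hback : ∀ v : G, v ∈ SS S → (n : G)⁻¹ * v * n ∈ SS S := fun v hv => by
    have := mem_subgroupOf.1 ((mem_normalizer_iff.1 (inv_mem hnN) ⟨v, hP hv⟩).1 (mem_subgroupOf.2 hv))
    simpa using this
  have hs : Commute (n : G) S.s := by
    rcases SS_centre S (hconj _ (EE_le S (s_mem_EE S))) fun v hv => by
      obtain ⟨k, hk, -, e⟩ := hback v hv
      have hc := S.commute_el hk
      rw [e] at hc
      have h2 := hc.map (MulAut.conj (n : G)).toMonoidHom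
      simpa [mul_assoc] using h2.symm with h | h
    · exact absurd (conj_eq_one_iff.1 h) S.s_ne_one
    · exact mul_inv_eq_iff_eq_mul.1 h
  obtain ⟨k, hk, e⟩ := S.exists_el hs
  rw [← e]
  refine (el_mem_SS S hk).2 ?_
  by_contra hb
  have hpow : ∃ j, (n : G) ^ 2 ^ j = 1 := by
    obtain ⟨j, hj⟩ := P.2 n
    exact ⟨j, congrArg Subtype.val hj⟩
  obtain ⟨j, hj⟩ := hpow
  have hK : closure (insert (n : G) (SS S : Set G)) ≤ (P : Subgroup G) ⊓ centralizer ({S.s} : Set G) :=
    (closure_le _).2 (Set.insert_subset ⟨n.2, mem_centralizer_singleton_iff.2 hs.eq⟩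
      fun v hv => ⟨hP hv, SS_le S hv⟩)
  obtain ⟨m, hm⟩ := IsPGroup.iff_card.1
    (P.2.to_le (le_inf_iff.1 hK).1 : IsPGroup 2 ↥(closure (insert (n : G) (SS S : Set G))))
  have hlt' : SS S < closure (insert (n : G) (SS S : Set G)) :=
    lt_of_le_of_ne (fun v hv => subset_closure (Set.mem_insert_of_mem _ hv)) fun he => hb (by
      have hnm : (n : G) ∈ SS S := he ▸ subset_closure (Set.mem_insert _ _)
      rw [← e] at hnm
      exact (el_mem_SS S hk).1 hnm)
  have h1 := Subgroup.card_dvd_of_le (le_inf_iff.1 hK).2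
  rw [hm, S.card_cent] at h1
  have h2 : m ≤ 6 := by
    by_contra h
    exact absurd (dvd_trans (pow_dvd_pow 2 (by omega : 7 ≤ m)) h1) (by norm_num)
  have h3 := Set.ncard_lt_ncard hlt' (Set.toFinite _)
  rw [← Nat.card_coe_set_eq, ← Nat.card_coe_set_eq] at h3
  change Nat.card (SS S) < Nat.card (closure (insert (n : G) (SS S : Set G))) at h3
  rw [card_SS, hm] at h3
  have : 2 ^ m ≤ 2 ^ 6 := Nat.pow_le_pow_right (by norm_num) h2
  omega

/-- `E` is the only elementary abelian subgroup of order sixteen of the Sylow subgroup. -/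
theorem eq_EE {F : Subgroup G} (hF : F ≤ SS S) (hcard : Nat.card F = 16) (hsq : ∀ u ∈ F, u * u = 1)
    (hcomm : ∀ u ∈ F, ∀ v ∈ F, Commute u v) : F = EE S := by
  classical
  haveI : Finite (EE S) := Nat.finite_of_card_ne_zero (by rw [card_EE]; norm_num)
  refine Subgroup.eq_of_le_of_card_ge ?_ (by rw [hcard, card_EE])
  intro g hg
  obtain ⟨k, hk, fk, rfl⟩ := hF hg
  refine (el_mem_EE S hk).2 (by_contra fun hE => ?_)
  have hkk : mu k k = 0 := (S.el_inj (mulC_lt _ _ k hk k hk) (by norm_num)).1 (by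
    rw [S.el_mul hk hk, hsq _ hg, S.el_zero])
  set l := (List.range 192).filter fun h => inS h && Nat.beq (mu h h) 0 && commC false false k h with hl
  have hlen : l.length = 12 := e_count k hk fk (by simpa using hE) hkk
  have hsub : (F : Set G) ⊆ S.el '' ↑l.toFinset := by
    intro v hv
    obtain ⟨j, hj, fj, rfl⟩ := hF hv
    refine ⟨j, ?_, rfl⟩
    simp only [Finset.mem_coe, List.mem_toFinset, hl, List.mem_filter, List.mem_range, Bool.and_eq_true,
      Nat.beq_eq]
    refine ⟨hj, ⟨fj, (S.el_inj (mulC_lt _ _ j hj j hj) (by norm_num)).1 ?_⟩,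
      (S.commute_el_iff hk hj).1 (hcomm _ hg _ hv)⟩
    rw [S.el_mul hj hj, hsq _ hv, S.el_zero]
  have h := (Set.ncard_le_ncard hsub (Set.toFinite _)).trans (Set.ncard_image_le (Set.toFinite _))
  rw [Set.ncard_coe_finset] at h
  have h' := List.toFinset_card_le l
  rw [← Nat.card_coe_set_eq] at h
  change Nat.card F ≤ _ at h
  omega

/-- Every involution commuting with `s` is conjugate there into `E`. -/
theorem exists_conj_EE {u : G} (hu : Commute u S.s) (h2 : u * u = 1) :
    ∃ g, Commute g S.s ∧ g * u * g⁻¹ ∈ EE S := by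
  obtain ⟨k, hk, rfl⟩ := S.exists_el hu
  have hkk : mu k k = 0 := (S.el_inj (mulC_lt _ _ k hk k hk) (by norm_num)).1 (by
    rw [S.el_mul hk hk, h2, S.el_zero])
  obtain ⟨l, hl, hm⟩ := List.any_eq_true.1 (e_fuse k hk hkk)
  rw [List.mem_range] at hl
  refine ⟨S.el l, S.commute_el hl, ?_⟩
  rw [← S.el_conjC hl hk]
  exact (el_mem_EE S (conjC_lt _ _ hl hk)).2 hm

end CfsgLib.Recognition.ExtraspecialThirtyTwo.AltCase
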