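import Cfsg.Agent.Lib.Recognition.ExtraspecialThirtyTwo.AltCase.Pair
import Cfsg.Agent.S3705
import Cfsg.Agent.S0256

/-!
# The subgroup isomorphic to the alternating group of degree eight

The subgroup generated by the normalisers of two fused planes is doubly transitive on fifteen points.
-/

set_option autoImplicit false
set_option linter.unusedSectionVars false
set_option linter.unusedVariables false
set_option linter.style.haveILetI false
set_option maxRecDepth 40000

namespace CfsgLib.Recognition.ExtraspecialThirtyTwo.AltCase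

open Subgroup Code MulAction

variable {G : Type*} [Group G] [Finite G] (S : St G) {KK : Subgroup G} (O : OddPart S KK)
  {i j : Fin 3} {k l : G}
include O

/-- The element moving one line is inverted, in the sense needed. -/
theorem v_not_fix (T : Two S KK i j k l) : l⁻¹ * pv S i * l ∉ MM S i := by
  intro hM
  have hl := T.right
  have hv := v_mem_SS S i
  set u := pv S i * l * (pv S i)⁻¹ with hu
  have huK : u ∈ KK := O.conj _ hv l hl.mem
  obtain ⟨hp, hp1, hps⟩ := hl.image S O
  obtain ⟨hq, hq1, hqs⟩ := (hl.sq S O).image S O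
  have hmove : u * S.s * u⁻¹ = S.s * (l * S.s * l⁻¹) := by
    have e0 : u * S.s * u⁻¹ = pv S i * (l * S.s * l⁻¹) * (pv S i)⁻¹ := by
      rw [hu]
      calc pv S i * l * (pv S i)⁻¹ * S.s * (pv S i * l * (pv S i)⁻¹)⁻¹
          = pv S i * (l * ((pv S i)⁻¹ * S.s * pv S i) * l⁻¹) * (pv S i)⁻¹ := by group
        _ = _ := by rw [(el_comm_s S (inv_mem hv)).eq, inv_mul_cancel_right]
    rw [e0]
    have hi' := (p_gens i).2.2.2.2.2.2.2.1
    have hj' := (p_gens j).2.2.2.2.2.2.1
    have hw : pv S i * pw' S j * (pv S i)⁻¹ = S.s * pw' S j := by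
      have h := congrArg S.el (v_swap i j T.ne)
      rwa [S.el_conjC hi' hj', S.el_mul (by norm_num) hj', S.el_one] at h
    rcases hp with e | e | e | e
    · exact absurd e hp1
    · exact absurd e hps
    · rw [e, hw]
    · rw [e, show pv S i * (S.s * pw' S j) * (pv S i)⁻¹ =
        pv S i * S.s * (pv S i)⁻¹ * (pv S i * pw' S j * (pv S i)⁻¹) by group,
        (el_comm_s S hv).eq, mul_inv_cancel_right, hw]
  have hsame : (l * l)⁻¹ * u ∈ EE S := by
    refine eq_of_same S O huK (mul_mem hl.mem hl.mem) ?_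
    rw [hmove]
    have hne := hl.image_ne S O
    have key : ∀ {a : G}, InW S j a → a ≠ 1 → a ≠ S.s → a = pw' S j ∨ a = S.s * pw' S j := fun {a} h h1 h2 => by
      rcases h with e | e | e | e
      · exact absurd e h1
      · exact absurd e h2
      · exact Or.inl e
      · exact Or.inr e
    rcases key hp hp1 hps with e | e <;> rcases key hq hq1 hqs with e' | e'
    · exact absurd (e'.trans e.symm) hne
    · rw [e, e']
    · rw [e, e', ← mul_assoc, S.ss, one_mul]
    · exact absurd (e'.trans e.symm) hne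
  set f := (l * l)⁻¹ * u with hf
  have hL : Commute (f * pv S i) S.s := (el_comm_s S (EE_le S hsame)).mul_left (el_comm_s S hv)
  have hlM : l ∈ MM S i := by
    have e : l⁻¹ * pv S i * l = l * (f * pv S i) := by rw [hf, hu]; group
    rw [e] at hM
    simpa [mul_assoc] using mul_mem hM (inv_mem (L_le_MM S i hL))
  exact hl.out (s_of_cent S O hl.mem (inter_MM S T.ne hlM (hl.mem_MM S O)))

set_option maxHeartbeats 1000000 in
/-- The two normalisers generate an alternating group of degree eight containing the centraliser of `s`. -/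
theorem exists_eight (T : Two S KK i j k l) (hcover : ∀ u ∈ KK, u ∈ EE S ⊔ zpowers k ⊔ zpowers l) :
    ∃ B : Subgroup G, Nonempty (B ≃* alternatingGroup (Fin 8)) ∧ centralizer ({S.s} : Set G) ≤ B ∧ NN S ≤ B := by
  classical
  haveI : Fact (Nat.Prime 2) := ⟨Nat.prime_two⟩
  obtain ⟨B, hBU, hiB, hjB⟩ := exists_gen S O T
  have hcM : ∀ m : Fin 3, centralizer ({S.s} : Set G) ≤ MM S m := fun m g hg =>
    L_le_MM S m (mem_centralizer_singleton_iff.1 hg)
  have hSB : SS S ≤ B := fun g hg => hiB (hcM i (SS_le S hg))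
  have hlB : l ∈ B := hjB (T.right.mem_MM S O)
  have hkB : k ∈ B := hiB (T.left.mem_MM S O)
  refine ⟨B, ?_, fun g hg => hiB (hcM i hg), fun n hn => ?_⟩
  swap
  · obtain ⟨u, hu, σ, hσ, rfl⟩ := O.cover n hn
    exact mul_mem ((sup_le (sup_le ((EE_le S).trans hSB) (zpowers_le.2 hkB)) (zpowers_le.2 hlB)) (hcover u hu))
      (hSB hσ)
  have hMi : Nat.card (MM S i) = 1344 := T.left.card_MM S O
  have hMj : Nat.card (MM S j) = 1344 := T.right.card_MM S O
  set H : Subgroup B := (MM S i).subgroupOf B with hH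
  have hHc : Nat.card H = 1344 := by rw [hH, Nat.card_congr (subgroupOfEquivOfLe hiB).toEquiv, hMi]
  let e0 : B ⧸ H := QuotientGroup.mk (1 : B)
  let q0 : B ⧸ H := QuotientGroup.mk (⟨l, hlB⟩ : B)
  have mk_iff : ∀ a b : B, (QuotientGroup.mk a : B ⧸ H) = QuotientGroup.mk b ↔ (a : G)⁻¹ * b ∈ MM S i := fun a b => by
    rw [QuotientGroup.eq, hH, mem_subgroupOf]
    simp
  have hne : e0 ≠ q0 := fun e => by
    have h := (mk_iff _ _).1 e
    simp only [OneMemClass.coe_one, inv_one, one_mul] at h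
    exact T.right.out (s_of_cent S O T.right.mem (inter_MM S T.ne h (T.right.mem_MM S O)))
  -- two transitivity
  have hpts : ∀ x : B ⧸ H, x = e0 ∨ ∃ g : B, g • e0 = e0 ∧ g • q0 = x := by
    intro x
    obtain ⟨g, rfl⟩ := QuotientGroup.mk_surjective x
    rcases (show (g : G) ∈ UU S i l from hBU ▸ g.2) with h | ⟨a, ha, b, hb, e⟩
    · left
      exact (mk_iff _ _).2 (by simpa using h)
    · refine Or.inr ⟨⟨a, hiB ha⟩, ?_, ?_⟩
      · exact (mk_iff _ _).2 (by simpa using ha)
      · refine (mk_iff _ _).2 ?_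
        show (a * l)⁻¹ * (g : G) ∈ MM S i
        rw [e, show (a * l)⁻¹ * (a * l * b) = b by group]
        exact hb
  have h2 : IsMultiplyPretransitive B (B ⧸ H) 2 := by
    rw [is_two_pretransitive_iff]
    have key : ∀ {a b : B ⧸ H}, a ≠ b → ∃ g : B, g • e0 = a ∧ g • q0 = b := by
      intro a b hab
      obtain ⟨g, hg⟩ : ∃ g : B, g • e0 = a := MulAction.exists_smul_eq B e0 a
      rcases hpts (g⁻¹ • b) with e | ⟨m, hm, hm'⟩
      · exact absurd (by rw [← hg, ← e, smul_inv_smul]) hab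
      · exact ⟨g * m, by rw [mul_smul, hm, hg], by rw [mul_smul, hm', smul_inv_smul]⟩
    intro a b c d hab hcd
    obtain ⟨g, hga, hgb⟩ := key hab
    obtain ⟨h, hhc, hhd⟩ := key hcd
    exact ⟨h * g⁻¹, by rw [mul_smul, ← hga, inv_smul_smul, hhc], by rw [mul_smul, ← hgb, inv_smul_smul, hhd]⟩
  -- the stabiliser of two points
  have hst : ∀ m : B, m • e0 = e0 ↔ (m : G) ∈ MM S i := fun m => by
    show (QuotientGroup.mk (m * 1) : B ⧸ H) = QuotientGroup.mk 1 ↔ _
    rw [mk_iff]; simp
  have hstq : ∀ m : B, m • q0 = q0 ↔ l⁻¹ * (m : G) * l ∈ MM S i := fun m => by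
    show (QuotientGroup.mk (m * ⟨l, hlB⟩) : B ⧸ H) = QuotientGroup.mk ⟨l, hlB⟩ ↔ _
    rw [mk_iff, Subgroup.coe_mul]
    constructor <;> intro h
    · simpa [mul_assoc] using inv_mem h
    · simpa [mul_assoc] using inv_mem h
  haveI hfaith : FaithfulSMul B (B ⧸ H) := by
    refine ⟨fun {a b} hab => ?_⟩
    set x := b⁻¹ * a with hx
    have hfix : ∀ p : B ⧸ H, x • p = p := fun p => by rw [hx, mul_smul, hab p, inv_smul_smul]
    suffices h : (x : G) = 1 by
      have h1 : b⁻¹ * a = 1 := Subtype.ext h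
      exact (inv_mul_eq_one.1 h1).symm
    let N : Subgroup B := (MulAction.toPermHom B (B ⧸ H)).ker
    have hN : ∀ y : B, y ∈ N ↔ ∀ p : B ⧸ H, y • p = p := fun y => by
      rw [MonoidHom.mem_ker, Equiv.ext_iff]
      rfl
    have hNM : ∀ y ∈ N, (y : G) ∈ MM S i := fun y hy => (hst y).1 ((hN y).1 hy e0)
    have hPB : PP S i ≤ B := fun p hp => hiB (mem_MM S fun u hu =>
      by rw [(PP_comm S i hp hu).eq, mul_inv_cancel_right]; exact hu)
    have hnot : ∀ p : B, (p : G) ∈ PP S i → p ∈ N → p = 1 := by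
      intro p hp hpN
      by_contra hp1
      have hp1' : (p : G) ≠ 1 := fun e => hp1 (Subtype.ext e)
      obtain ⟨g, hg, hgp⟩ := T.left.orbit S O hp hp1'
      have hv1 : pv S i ≠ 1 := fun e => v_not_mem_EE S i (e ▸ one_mem _)
      obtain ⟨g', hg', hgv⟩ := T.left.orbit S O (v_mem_PP S i) hv1
      have hvN : (⟨pv S i, hPB (v_mem_PP S i)⟩ : B) ∈ N := by
        have hc := (inferInstance : N.Normal).conj_mem p hpN
          ⟨g' * g⁻¹, hiB (mul_mem hg' (inv_mem hg))⟩
        convert hc using 1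
        refine Subtype.ext ?_
        show pv S i = g' * g⁻¹ * (p : G) * (g' * g⁻¹)⁻¹
        rw [← hgp, ← hgv]; group
      exact v_not_fix S O T ((hstq _).1 ((hN _).1 hvN q0))
    have hxN : x ∈ N := (hN x).2 hfix
    have hxP : (x : G) ∈ PP S i := by
      refine PP_cent S i fun u hu => ?_
      have hP : (x : G) * u * (x : G)⁻¹ * u⁻¹ ∈ PP S i :=
        mul_mem (conj_mem_PP S (hNM x hxN) hu) (inv_mem hu)
      have hc : x * (⟨u, hPB hu⟩ * x⁻¹ * ⟨u, hPB hu⟩⁻¹) ∈ N :=
        mul_mem hxN ((inferInstance : N.Normal).conj_mem _ (inv_mem hxN) _)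
      have h1 := hnot (x * (⟨u, hPB hu⟩ * x⁻¹ * ⟨u, hPB hu⟩⁻¹)) (by simpa [mul_assoc] using hP) hc
      have h2 : (x : G) * u * (x : G)⁻¹ * u⁻¹ = 1 := by
        have := congrArg Subtype.val h1
        simpa [mul_assoc] using this
      exact mul_inv_eq_iff_eq_mul.1 (mul_inv_eq_one.1 h2)
    exact congrArg Subtype.val (hnot x hxP hxN)
  -- fifteen points
  set K2 : Subgroup H := (stabilizer B q0).subgroupOf H with hK2
  have hmem2 : ∀ g : G, (hg : g ∈ MM S i) → l⁻¹ * g * l ∈ MM S i →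
      (⟨⟨g, hiB hg⟩, mem_subgroupOf.2 hg⟩ : H) ∈ K2 := fun g hg h =>
    mem_subgroupOf.2 (mem_stabilizer_iff.2 ((hstq _).2 h))
  have hcardQ : Nat.card (B ⧸ H) = 1 + K2.index := by
    have horb : orbit H q0 = {x : B ⧸ H | x ≠ e0} := by
      ext x
      constructor
      · rintro ⟨m, rfl⟩ e
        refine hne ?_
        have hme : (m : B) • e0 = e0 := (hst _).2 (mem_subgroupOf.1 m.2)
        exact smul_left_cancel (m : B) (hme.trans e.symm)
      · intro hx
        rcases hpts x with e | ⟨g, hg, hgx⟩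
        · exact absurd e hx
        · exact ⟨⟨g, mem_subgroupOf.2 ((hst g).1 hg)⟩, hgx⟩
    have hstab : stabilizer H q0 = K2 := rfl
    rw [← hstab, MulAction.index_stabilizer, horb, show {x : B ⧸ H | x ≠ e0} = {e0}ᶜ from rfl,
      Set.ncard_compl, Set.ncard_singleton]
    have : 0 < Nat.card (B ⧸ H) := Nat.card_pos
    omega
  obtain ⟨hRep1, hRep2⟩ := (⟨T.left, T.right⟩ : Rep S KK i k ∧ Rep S KK j l)
  have hKE : ∀ e ∈ EE S, ∃ h : e ∈ MM S i, (⟨⟨e, hiB h⟩, mem_subgroupOf.2 h⟩ : H) ∈ K2 := fun e he =>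
    ⟨EE_le_MM S i he, hmem2 e (EE_le_MM S i he) (EE_le_MM S i (by simpa using EE_norm_KK S O (inv_mem hRep2.mem) he))⟩
  have hKk : ∃ h : k ∈ MM S i, (⟨⟨k, hiB h⟩, mem_subgroupOf.2 h⟩ : H) ∈ K2 := by
    refine ⟨hRep1.mem_MM S O, hmem2 k (hRep1.mem_MM S O) ?_⟩
    have := conj_into S O T (Or.inr rfl : l⁻¹ = l ∨ l⁻¹ = l⁻¹) (Or.inr (Or.inl rfl) : k = 1 ∨ k = k ∨ k = k * k)
    simpa using this
  have hKv : ∃ h : pv S j ∈ MM S i, (⟨⟨pv S j, hiB h⟩, mem_subgroupOf.2 h⟩ : H) ∈ K2 := by
    have hvM : pv S j ∈ MM S i := L_le_MM S i (el_comm_s S (v_mem_SS S j))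
    refine ⟨hvM, hmem2 _ hvM ?_⟩
    have h := EE_norm_KK S O (inv_mem hRep2.mem) hRep2.comm
    have := mul_mem (EE_le_MM S i h) hvM
    simpa [mul_assoc] using this
  have h32 : 32 ∣ Nat.card K2 := by
    set R : Subgroup G := EE S ⊔ zpowers (pv S j) with hR
    have hRS : R ≤ SS S := sup_le (EE_le S) (zpowers_le.2 (v_mem_SS S j))
    have hRlt : EE S < R := lt_of_le_of_ne le_sup_left fun e => v_not_mem_EE S j (by
      rw [e]; exact mem_sup_right (mem_zpowers _))
    have hlt := Set.ncard_lt_ncard hRlt (Set.toFinite _)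
    rw [← Nat.card_coe_set_eq, ← Nat.card_coe_set_eq] at hlt
    change Nat.card (EE S) < Nat.card R at hlt
    rw [card_EE] at hlt
    have hd := card_dvd_of_le hRS
    rw [card_SS, show (64 : ℕ) = 2 ^ 6 by norm_num, Nat.dvd_prime_pow Nat.prime_two] at hd
    obtain ⟨m, -, hm⟩ := hd
    have h5 : 5 ≤ m := by
      by_contra h
      have : 2 ^ m ≤ 2 ^ 4 := Nat.pow_le_pow_right (by norm_num) (by omega)
      omega
    have hRK : R ≤ (K2.map H.subtype).map B.subtype := by
      refine sup_le (fun e he => ?_) (zpowers_le.2 ?_)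
      · obtain ⟨h, h'⟩ := hKE e he
        exact ⟨_, ⟨_, h', rfl⟩, rfl⟩
      · obtain ⟨h, h'⟩ := hKv
        exact ⟨_, ⟨_, h', rfl⟩, rfl⟩
    have h1 := card_dvd_of_le hRK
    rw [hm, Nat.card_congr (Subgroup.equivMapOfInjective _ _ B.subtype_injective).toEquiv.symm,
      Nat.card_congr (Subgroup.equivMapOfInjective _ _ H.subtype_injective).toEquiv.symm] at h1
    exact dvd_trans (show (32 : ℕ) ∣ 2 ^ m from pow_dvd_pow 2 h5) h1
  have h3 : 3 ∣ Nat.card K2 := by
    obtain ⟨h, h'⟩ := hKk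
    have hcube := hRep1.cube S O
    have h6 : orderOf k ∣ 6 := orderOf_dvd_of_pow_eq_one (by
      rw [show 6 = 3 * 2 by norm_num, pow_mul, pow_two]; exact EE_sq S hcube)
    have hn2 : ¬ orderOf k ∣ 2 := fun hd => hRep1.sq_out S O (by
      rw [← pow_two, orderOf_dvd_iff_pow_eq_one.1 hd]; exact one_mem _)
    have h3k : 3 ∣ orderOf k := by
      by_contra h3
      exact hn2 ((Nat.Prime.coprime_iff_not_dvd Nat.prime_three).2 h3 |>.symm.dvd_of_dvd_mul_left h6)
    refine h3k.trans ?_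
    have := K2.orderOf_dvd_natCard h'
    rwa [← Subgroup.orderOf_coe, ← Subgroup.orderOf_coe] at this
  have h96 : 96 ∣ Nat.card K2 := Nat.Coprime.mul_dvd_of_dvd_of_dvd (by norm_num : Nat.Coprime 32 3) h32 h3
  have hprod : Nat.card K2 * K2.index = 1344 := by rw [K2.card_mul_index, hHc]
  have hd14 : K2.index ∣ 14 := by
    obtain ⟨m, hm⟩ := h96
    rw [hm, mul_assoc] at hprod
    exact ⟨m, by linarith⟩
  have hodd15 : ¬ 2 ∣ Nat.card (B ⧸ H) := by
    intro h
    refine not_two_dvd_index_SS S (h.trans ?_)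
    have hSM : SS S ≤ MM S i := fun g hg => hcM i (SS_le S hg)
    have e1 := relIndex_mul_relIndex (SS S) (MM S i) B hSM hiB
    have e2 := relIndex_mul_index hSB
    rw [show Nat.card (B ⧸ H) = (MM S i).relIndex B from rfl, ← e2, ← e1]
    exact dvd_mul_of_dvd_left (dvd_mul_left _ _) _
  have hidx : K2.index = 14 := by
    have h2 : 2 ∣ K2.index := by omega
    have hle := Nat.le_of_dvd (by norm_num) hd14
    have : K2.index = 2 ∨ K2.index = 14 := by interval_cases (K2.index) <;> omega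
    refine this.resolve_left fun h2' => ?_
    set x := S.el 32 with hx
    have hx3 : x * x * x = 1 := by
      have h := congrArg S.el x_order
      rw [S.el_mul (by norm_num) (mulC_lt _ _ 32 (by norm_num) 32 (by norm_num)),
        S.el_mul (by norm_num) (by norm_num), S.el_zero] at h
      rw [mul_assoc]; exact h
    have hxs : Commute x S.s := S.commute_el (by norm_num)
    have hxM : x ∈ MM S i := L_le_MM S i hxs
    let xH : H := ⟨⟨x, hiB hxM⟩, mem_subgroupOf.2 hxM⟩
    have hxK : xH ∈ K2 := by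
      have e : xH = (xH * xH) * (xH * xH) := Subtype.ext (Subtype.ext (by
        show x = x * x * (x * x)
        rw [← mul_assoc, hx3, one_mul]))
      rw [e]
      exact mul_mem (Subgroup.mul_self_mem_of_index_two h2' _) (Subgroup.mul_self_mem_of_index_two h2' _)
    have hc : l⁻¹ * x * l ∈ MM S i := (hstq _).1 (mem_stabilizer_iff.1 (mem_subgroupOf.1 hxK))
    have hlj := hRep2.mem_MM S O
    have hcs := inter_MM S T.ne hc (mul_mem (mul_mem (inv_mem hlj) (L_le_MM S j hxs)) hlj)
    obtain ⟨hp, hp1, hps⟩ := hRep2.image S O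
    have hxc : Commute x (l * S.s * l⁻¹) := by
      show x * (l * S.s * l⁻¹) = l * S.s * l⁻¹ * x
      calc x * (l * S.s * l⁻¹) = l * (l⁻¹ * x * l * S.s) * l⁻¹ := by group
        _ = l * (S.s * (l⁻¹ * x * l)) * l⁻¹ := by rw [hcs.eq]
        _ = _ := by group
    rcases x_fix S j (InW.mem S j hp).1 hxc with e | e
    · exact hp1 e
    · exact hps e
  have h15 : Nat.card (B ⧸ H) = 15 := by omega
  have hcardB : Nat.card B = 20160 := by
    rw [← H.card_mul_index, hHc, Subgroup.index_eq_card, show Nat.card (B ⧸ H) = 15 from h15]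
  -- the second subgroup
  set H' : Subgroup B := (MM S j).subgroupOf B with hH'
  have hH'c : Nat.card H' = 1344 := by rw [hH', Nat.card_congr (subgroupOfEquivOfLe hjB).toEquiv, hMj]
  have hidx' : H'.index = Nat.card (B ⧸ H) := by
    have := H'.card_mul_index
    rw [hH'c, hcardB] at this
    omega
  have hnt : ¬ IsPretransitive H' (B ⧸ H) := by
    intro hp
    have h := MulAction.index_stabilizer_of_transitive H' e0
    have hd : (stabilizer H' e0).index ∣ Nat.card H' := Subgroup.index_dvd_card _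
    rw [h, h15, hH'c] at hd
    norm_num at hd
  have hfixpt : ∀ a : B ⧸ H, ∃ h : H', h • a ≠ a := by
    intro a
    by_contra hc
    push Not at hc
    have hle : H' ≤ stabilizer B a := fun h hh => mem_stabilizer_iff.2 (hc ⟨h, hh⟩)
    haveI : IsPretransitive B (B ⧸ H) := inferInstance
    have hcs : Nat.card (stabilizer B a) = 1344 := by
      have := (stabilizer B a).card_mul_index
      rw [MulAction.index_stabilizer_of_transitive, h15, hcardB] at this
      omega
    have heq : H' = stabilizer B a := Subgroup.eq_of_le_of_card_ge hle (by rw [hcs, hH'c])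
    have hae : a ≠ e0 := fun e => by
      have : l ∈ MM S i := (hst ⟨l, hlB⟩).1 (mem_stabilizer_iff.1 (e ▸ heq ▸ mem_subgroupOf.2 (hRep2.mem_MM S O)))
      exact hRep2.out (s_of_cent S O hRep2.mem (inter_MM S T.ne this (hRep2.mem_MM S O)))
    have horb : orbit H a = {x : B ⧸ H | x ≠ e0} := by
      ext x
      constructor
      · rintro ⟨m, rfl⟩ e
        refine hae ?_
        have hme : (m : B) • e0 = e0 := (hst _).2 (mem_subgroupOf.1 m.2)
        exact smul_left_cancel (m : B) (e.trans hme.symm)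
      · intro hx
        obtain ⟨g, hg0, hga⟩ := is_two_pretransitive_iff.1 h2 (Ne.symm hae) (Ne.symm hx)
        exact ⟨⟨g, mem_subgroupOf.2 ((hst g).1 hg0)⟩, hga⟩
    have hstabA : Nat.card (stabilizer H a) = 192 := by
      have e : (stabilizer H a).map H.subtype = H ⊓ H' := by
        ext y
        rw [mem_map, mem_inf, heq]
        exact ⟨fun ⟨z, hz, hzy⟩ => hzy ▸ ⟨z.2, hz⟩, fun ⟨h1, h2⟩ => ⟨⟨y, h1⟩, h2, rfl⟩⟩
      have e2 : (H ⊓ H' : Subgroup B).map B.subtype = centralizer ({S.s} : Set G) := by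
        ext y
        constructor
        · rintro ⟨z, ⟨h1, h2⟩, rfl⟩
          exact mem_centralizer_singleton_iff.2 (inter_MM S T.ne h1 h2).eq
        · intro hy
          exact ⟨⟨y, hiB (hcM i hy)⟩, ⟨hcM i hy, hcM j hy⟩, rfl⟩
      rw [Nat.card_congr (Subgroup.equivMapOfInjective _ _ H.subtype_injective).toEquiv, e,
        Nat.card_congr (Subgroup.equivMapOfInjective _ _ B.subtype_injective).toEquiv, e2, S.card_cent]
    have h14 := (stabilizer H a).card_mul_index
    rw [hstabA, MulAction.index_stabilizer, horb, show {x : B ⧸ H | x ≠ e0} = {e0}ᶜ from rfl, Set.ncard_compl,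
      Set.ncard_singleton, h15, hHc] at h14
    omega
  -- the solvable normal subgroup
  let N : Subgroup H' := ((PP S j).subgroupOf B).subgroupOf H'
  have hPBj : PP S j ≤ B := fun p hp => hjB (mem_MM S fun u hu =>
    by rw [(PP_comm S j hp hu).eq, mul_inv_cancel_right]; exact hu)
  have hNn : N.Normal := ⟨fun x hx g => mem_subgroupOf.2 (mem_subgroupOf.2 (conj_mem_PP S (g.2 : ((g : B) : G) ∈ MM S j)
    (mem_subgroupOf.1 (mem_subgroupOf.1 hx))))⟩
  have hN1 : N ≠ ⊥ := fun e => by
    have hs' : S.s ∈ MM S j := L_le_MM S j (Commute.refl _)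
    have : (⟨⟨S.s, hjB hs'⟩, mem_subgroupOf.2 hs'⟩ : H') ∈ N := mem_subgroupOf.2 (mem_subgroupOf.2 (s_mem_PP S j))
    rw [e, mem_bot] at this
    exact S.s_ne_one (congrArg (fun h : H' => ((h : B) : G)) this)
  have hsol : Group.IsSolvable N := Group.isSolvable_of_comm fun a b => Subtype.ext (Subtype.ext (Subtype.ext
    (PP_comm S j (mem_subgroupOf.1 (mem_subgroupOf.1 a.2)) (mem_subgroupOf.1 (mem_subgroupOf.1 b.2))).eq))
  have hNfix : ∃ a : B ⧸ H, ∀ x ∈ N, x • a = a := ⟨e0, fun x hx => (hst (x : B)).2 (L_le_MM S i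
    (PP_comm S j (mem_subgroupOf.1 (mem_subgroupOf.1 hx)) (s_mem_PP S j)))⟩
  obtain ⟨m, F, _, _, hm2, heq15, N', hN', ⟨f⟩, -⟩ :=
    Cfsg.Agent.S3705.result h2 H' hidx' hnt hfixpt N hNn hN1 hsol hNfix
  rw [h15] at heq15
  have hq2 : 2 ≤ Fintype.card F := Fintype.one_lt_card
  obtain ⟨hq, rfl⟩ : Fintype.card F = 2 ∧ m = 3 := by
    set q := Fintype.card F
    have hgeo : ∀ n, (∑ t ∈ Finset.range n, q ^ t) = (q ^ n - 1) / (q - 1) := fun n => Nat.geomSum_eq hq2 n
    rw [← hgeo] at heq15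
    have hqle : q ≤ 3 := by
      by_contra h
      have h1 : ∑ t ∈ Finset.range 3, q ^ t ≤ ∑ t ∈ Finset.range (m + 1), q ^ t :=
        Finset.sum_le_sum_of_subset (Finset.range_subset_range.2 (by omega))
      have hq4 : 4 ≤ q := by omega
      rw [← heq15] at h1
      simp [Finset.sum_range_succ] at h1
      nlinarith
    have hmle : m ≤ 3 := by
      by_contra h
      have h1 : ∑ t ∈ Finset.range 5, 2 ^ t ≤ ∑ t ∈ Finset.range (m + 1), q ^ t :=
        le_trans (Finset.sum_le_sum fun t _ => Nat.pow_le_pow_left hq2 t)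
          (Finset.sum_le_sum_of_subset (Finset.range_subset_range.2 (by omega)))
      rw [← heq15] at h1
      norm_num [Finset.sum_range_succ] at h1
    have hcase : ∀ a ∈ ({2, 3} : Finset ℕ), ∀ b ∈ ({2, 3} : Finset ℕ),
        15 = ∑ t ∈ Finset.range (b + 1), a ^ t → a = 2 ∧ b = 3 := by decide
    exact hcase q (by simp; omega) m (by simp; omega) heq15
  obtain ⟨g⟩ := Cfsg.Agent.S0256.result hq
  have hN'top : N' = ⊤ := by
    refine Subgroup.eq_top_of_card_eq N' ?_
    rw [hcardB, Nat.card_congr (f.trans g).toEquiv, nat_card_alternatingGroup, Nat.card_fin]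
    rfl
  exact ⟨(topEquiv.symm.trans ((MulEquiv.subgroupCongr hN'top).symm)).trans (f.trans g)⟩

end CfsgLib.Recognition.ExtraspecialThirtyTwo.AltCase
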