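import Cfsg.Agent.Lib.Recognition.ExtraspecialThirtyTwo.AltCase.FinalCount

/-!
# The alternating groups of degree eight and nine
-/

set_option autoImplicit false
set_option linter.unusedSectionVars false
set_option linter.style.haveILetI false
set_option maxRecDepth 20000

namespace CfsgLib.Recognition.ExtraspecialThirtyTwo.AltCase

open Subgroup Equiv.Perm

namespace Final

attribute [local irreducible] pe nfix mu0 mu1 bt0 bt1 gm tau sg enc e8 around

theorem e8_zero : e8 0 = 1 := by decide +kernel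

theorem mu0_sq : mu0 * mu0 = 1 := by decide +kernel

theorem card_class : Nat.card {π : P8 | IsConj mu0 π} = 210 := by
  have hct : mu0.cycleType = Multiset.replicate 2 2 := by
    haveI : Fact (Nat.Prime 2) := ⟨Nat.prime_two⟩
    have h := Equiv.Perm.cycleType_of_pow_prime_eq_one (σ := mu0) (p := 2) (by rw [pow_two, mu0_sq])
    have hs : mu0.cycleType.sum = 4 := by rw [Equiv.Perm.sum_cycleType]; decide +kernel
    rw [h, Multiset.sum_replicate, smul_eq_mul] at hs
    rw [h, show mu0.cycleType.card = 2 by omega]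
  rw [Equiv.Perm.card_isConj_eq, hct]
  decide +kernel

namespace Model

variable {G : Type*} [Group G] [Finite G] {S : St G} (M : Model S)

theorem sq_of_conj_u {q : G} (hq : IsConj M.u q) : q * q = 1 ∧ q ≠ 1 := by
  obtain ⟨g, rfl⟩ := isConj_iff.1 hq
  refine ⟨?_, by rw [ne_eq, conj_eq_one_iff]; exact M.u_ne⟩
  rw [show g * M.u * g⁻¹ * (g * M.u * g⁻¹) = g * (M.u * M.u) * g⁻¹ by group, M.uu]; group

theorem eight_dvd : M.G0.index % 8 = 1 := by
  classical
  let χ : Multiplicative (Fin 2 × Fin 2 × Fin 2) →* G :=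
    MonoidHom.mk' (fun a => M.E (e8 a.toAdd)) (fun a b => by
      have hs : ∀ c : Fin 2 × Fin 2 × Fin 2, sign (e8 c) = 1 := fun c => by
        by_cases hc : c = 0
        · rw [hc, e8_zero, _root_.map_one]
        · exact (e8_ne c hc).2.2
      rw [← M.map_mul (hs _) (hs _), e8_mul]
      rfl)
  letI : MulAction (Multiplicative (Fin 2 × Fin 2 × Fin 2)) (G ⧸ M.G0) := MulAction.compHom _ χ
  have hsmul : ∀ (a : Multiplicative (Fin 2 × Fin 2 × Fin 2)) (ω : G ⧸ M.G0), a • ω = χ a • ω := fun a ω => rfl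
  have hfix : ∀ a : Multiplicative (Fin 2 × Fin 2 × Fin 2), a • M.o = M.o := fun a => by
    rw [hsmul, M.fix_o]
    by_cases ha : a.toAdd = 0
    · show M.E (e8 a.toAdd) ∈ M.G0
      rw [ha, e8_zero, M.E_one]; exact one_mem _
    · exact M.E_mem (e8_ne _ ha).2.2
  have hfree : ∀ ω : G ⧸ M.G0, ω ≠ M.o →
      Nat.card (MulAction.orbit (Multiplicative (Fin 2 × Fin 2 × Fin 2)) ω) = 8 := by
    intro ω hω
    have hinj : Function.Injective fun a : Multiplicative (Fin 2 × Fin 2 × Fin 2) => a • ω := by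
      intro a b e
      have e1 : (a⁻¹ * b) • ω = ω := by
        have h := congrArg (fun x => a⁻¹ • x) e
        simpa [mul_smul] using h.symm
      by_contra hne
      have hc : (a⁻¹ * b).toAdd ≠ 0 := fun h => hne (inv_mul_eq_one.1 (toAdd_eq_zero.1 h))
      exact hω (M.sigma_fix (e8_ne _ hc).2.1 (e8_ne _ hc).1 e1)
    show Nat.card ↥(Set.range fun a : Multiplicative (Fin 2 × Fin 2 × Fin 2) => a • ω) = 8
    rw [Nat.card_range_of_injective hinj, Nat.card_congr Multiplicative.toAdd, Nat.card_prod, Nat.card_prod,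
      Nat.card_fin]
  haveI : Fintype (MulAction.orbitRel.Quotient (Multiplicative (Fin 2 × Fin 2 × Fin 2)) (G ⧸ M.G0)) :=
    Fintype.ofFinite _
  rw [Subgroup.index, Nat.card_congr (MulAction.selfEquivSigmaOrbits (Multiplicative (Fin 2 × Fin 2 × Fin 2)) (G ⧸ M.G0)),
    Nat.card_sigma, Fintype.sum_eq_add_sum_compl (Quotient.mk'' M.o)]
  have h1 : Nat.card (MulAction.orbit (Multiplicative (Fin 2 × Fin 2 × Fin 2))
      ((Quotient.mk'' M.o : MulAction.orbitRel.Quotient (Multiplicative (Fin 2 × Fin 2 × Fin 2)) (G ⧸ M.G0)).out)) = 1 := by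
    have hmem : (Quotient.mk'' M.o :
        MulAction.orbitRel.Quotient (Multiplicative (Fin 2 × Fin 2 × Fin 2)) (G ⧸ M.G0)).out = M.o := by
      obtain ⟨a, ha⟩ := MulAction.orbitRel_apply.1 (Quotient.exact' (Quotient.out_eq' (Quotient.mk'' M.o :
        MulAction.orbitRel.Quotient (Multiplicative (Fin 2 × Fin 2 × Fin 2)) (G ⧸ M.G0))))
      rw [← ha]; exact hfix a
    rw [hmem, Nat.card_eq_one_iff_unique]
    exact ⟨⟨fun ⟨_, a, ha⟩ ⟨_, b, hb⟩ => Subtype.ext (ha.symm.trans ((hfix a).trans ((hfix b).symm.trans hb)))⟩,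
      ⟨⟨M.o, MulAction.mem_orbit_self _⟩⟩⟩
  rw [h1, Finset.sum_eq_card_nsmul (b := 8) fun q hq => hfree _ fun e => by
    rw [Finset.mem_compl, Finset.mem_singleton] at hq
    exact hq ((Quotient.out_eq' q).symm.trans (congrArg _ e)), smul_eq_mul]
  omega

theorem card_class_mul : Nat.card {q : G | IsConj M.u q} * Nat.card M.H = Nat.card G := by
  let f : G ⧸ M.H → G := fun x => Quotient.liftOn' x (fun g => g * M.u * g⁻¹) (fun a b h => by
    have hc : Commute (a⁻¹ * b) M.u := M.mem_H.1 (QuotientGroup.leftRel_apply.1 h)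
    calc a * M.u * a⁻¹ = a * (a⁻¹ * b * M.u * (a⁻¹ * b)⁻¹) * a⁻¹ := by rw [hc.eq, mul_inv_cancel_right]
      _ = b * M.u * b⁻¹ := by group)
  have hf : Function.Injective f := fun x y => by
    induction x using QuotientGroup.induction_on with
    | H a => induction y using QuotientGroup.induction_on with
      | H b =>
        intro h
        change a * M.u * a⁻¹ = b * M.u * b⁻¹ at h
        refine QuotientGroup.eq.2 (M.mem_H.2 ?_)
        show a⁻¹ * b * M.u = M.u * (a⁻¹ * b)
        calc a⁻¹ * b * M.u = a⁻¹ * (b * M.u * b⁻¹) * b := by group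
          _ = M.u * (a⁻¹ * b) := by rw [← h]; group
  have hr : Set.range f = {q : G | IsConj M.u q} := by
    ext q
    constructor
    · rintro ⟨x, rfl⟩
      induction x using QuotientGroup.induction_on with
      | H a => exact isConj_iff.2 ⟨a, rfl⟩
    · intro hq
      obtain ⟨g, rfl⟩ := isConj_iff.1 hq
      exact ⟨(g : G ⧸ M.H), rfl⟩
  rw [← hr, Nat.card_range_of_injective hf]
  exact M.H.index_mul_card

/-- Every conjugate of `u` outside the subgroup commutes with one of the involutions moving four points that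
commute with `s`. -/
theorem exists_around {q : G} (hq : IsConj M.u q) (hout : q ∉ M.G0) :
    ∃ π : P8, π * π = 1 ∧ nfix π = 4 ∧ π * sg = sg * π ∧ Commute q (M.E π) := by
  obtain ⟨hqq, hq1⟩ := Model.sq_of_conj_u M hq
  have hqo : orderOf q = 2 := orderOf_eq_prime (by rw [pow_two, hqq]) hq1
  have heven := CfsgLib.Involution.Dihedral.even_of_not_isConj S.orderOf_s hqo
    fun h => M.notconj (h.trans hq.symm)
  have hwo := CfsgLib.Involution.Dihedral.half_orderOf heven
  have hws := CfsgLib.Involution.Dihedral.half_commute_left S.orderOf_s hqo heven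
  have hwq := CfsgLib.Involution.Dihedral.half_commute_right S.orderOf_s hqo heven
  set w := (S.s * q) ^ (orderOf (S.s * q) / 2)
  obtain ⟨π, hπ, hπw⟩ := M.cent w hws
  obtain ⟨h2, h⟩ := M.cases_involution hπ
    (by rw [hπw, ← pow_two, ← hwo, pow_orderOf_eq_one])
    (fun e => by rw [← hπw, e, orderOf_one] at hwo; omega)
  rcases h with h4 | h0
  · exact ⟨π, h2, h4, (M.E_commute_iff hπ mu_facts.2.2.2.2.1).1 (by rw [hπw, M.s_eq]; exact hws),
      hπw ▸ hwq.symm⟩
  · exact absurd (M.mem_of_zero h2 h0 (hπw ▸ hwq.symm)) hout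

/-- The centraliser of order 96 forces the group to be `A8`. -/
theorem eq_top_of_small [IsSimpleGroup G] (h96 : Nat.card M.H = 96) : M.G0 = ⊤ := by
  have hH : M.H ≤ M.G0 := by
    have hsub : M.G0 ⊓ M.H ≤ M.H := inf_le_right
    have hc : Nat.card (M.G0 ⊓ M.H : Subgroup G) = 96 :=
      (M.card_codes (M.G0 ⊓ M.H) (fun _ => true) fun x => ⟨fun ⟨h1, h2⟩ => by
        obtain ⟨k, hk, hke⟩ := M.exists_el h1 (M.mem_H.1 h2)
        exact ⟨k, hk, rfl, hke⟩, fun ⟨k, hk, _, hke⟩ => hke ▸ ⟨M.el_mem hk, M.el_mem_H hk⟩⟩).trans count_all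
    have := Subgroup.eq_of_le_of_card_ge hsub (by rw [hc, h96])
    exact this ▸ inf_le_left
  have hall : ∀ q : G, IsConj M.u q → q ∈ M.G0 := by
    intro q hq
    by_contra hout
    obtain ⟨π, h2, h4, -, hc⟩ := Model.exists_around M hq hout
    obtain ⟨a, ha, hae⟩ := M.exists_of_four h2 h4
    have h : a⁻¹ * q * a ∈ M.G0 := hH (M.mem_H.2 (by
      rw [← hae] at hc
      have := hc.map (MulAut.conj a⁻¹).toMonoidHom
      simpa [mul_assoc] using this))
    refine hout ?_
    have := mul_mem (mul_mem ha h) (inv_mem ha)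
    simpa [mul_assoc] using this
  have hle : Subgroup.normalClosure {M.u} ≤ M.G0 := by
    refine (Subgroup.closure_le _).2 fun q hq => hall q ?_
    obtain ⟨x, hx, hxq⟩ := Group.mem_conjugatesOfSet_iff.1 hq
    rw [Set.mem_singleton_iff] at hx
    exact hx ▸ hxq
  rcases IsSimpleGroup.eq_bot_or_eq_top_of_normal (Subgroup.normalClosure {M.u}) inferInstance with h | h
  · exact absurd ((Subgroup.mem_bot).1 (h ▸ Subgroup.subset_normalClosure (Set.mem_singleton _))) M.u_ne
  · exact top_le_iff.1 (h ▸ hle)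

/-- The centraliser of order 480 forces index nine. -/
theorem index_nine (h480 : Nat.card M.H = 480) : M.G0.index = 9 := by
  classical
  haveI := Fintype.ofFinite G
  have h5 : Nat.card M.X ≤ Nat.card (G ⧸ M.G0) := Nat.card_le_card_of_injective _ Subtype.val_injective
  have hX := M.card_X
  rw [← Subgroup.index] at h5
  have hmod := Model.eight_dvd M
  have hC := Model.card_class_mul M
  rw [← M.G0.card_mul_index, M.card_G0, h480] at hC
  set C := {q : G | IsConj M.u q} with hCdef
  have hin : (C ∩ (M.G0 : Set G)).ncard ≤ 210 := by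
    rw [← card_class]
    refine (Set.ncard_le_ncard (t := M.E '' {π : P8 | IsConj mu0 π}) ?_ (Set.toFinite _)).trans
      (Set.ncard_image_le (Set.toFinite _))
    rintro q ⟨hq, hqG⟩
    obtain ⟨π, hπ, rfl⟩ := hqG
    obtain ⟨g, hg⟩ := isConj_iff.1 hq
    obtain ⟨h2, h4⟩ := M.nfix_of_conj_u hπ hg
    obtain ⟨a, -, ha⟩ := exists_conj_mu h2 h4
    exact ⟨π, isConj_iff.2 ⟨a, ha⟩, rfl⟩
  set P : Finset P8 := Finset.univ.filter fun π => π * π = 1 ∧ nfix π = 4 ∧ π * sg = sg * π
  have hP : P.card ≤ 18 := by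
    refine (Finset.card_le_card_of_injOn enc (t := around.toFinset) ?_ (enc_injective.injOn)).trans
      ((List.toFinset_card_le _).trans_eq around_len)
    intro π hπ
    obtain ⟨-, h2, h4, hc⟩ := Finset.mem_filter.1 hπ
    exact List.mem_toFinset.2 (mem_around h2 h4 hc)
  have hout : (C \ (M.G0 : Set G)).ncard ≤ 360 := by
    have hsub : (C \ (M.G0 : Set G)).toFinset ⊆ P.biUnion fun π => (M.U (M.E π)).toFinset := by
      intro q hq
      rw [Set.mem_toFinset] at hq
      obtain ⟨π, h2, h4, hc, hcq⟩ := Model.exists_around M hq.1 hq.2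
      exact Finset.mem_biUnion.2 ⟨π, Finset.mem_filter.2 ⟨Finset.mem_univ _, h2, h4, hc⟩,
        Set.mem_toFinset.2 ⟨hq.1, hcq, hq.2⟩⟩
    rw [Set.ncard_eq_toFinset_card']
    refine (Finset.card_le_card hsub).trans ((Finset.card_biUnion_le_card_mul _ _ 20 fun π hπ => ?_).trans ?_)
    · obtain ⟨-, h2, h4, -⟩ := Finset.mem_filter.1 hπ
      rw [← Set.ncard_eq_toFinset_card']
      exact M.card_U_mu h480 h2 h4
    · omega
  have htot := Set.ncard_inter_add_ncard_sdiff_eq_ncard C (M.G0 : Set G) (Set.toFinite _)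
  rw [Nat.card_coe_set_eq] at hC
  omega

end Model

end Final

open Final in
/-- A simple group containing `A8` with the centraliser of `s` inside is `A8` or `A9`. -/
theorem final {G : Type*} [Group G] [Finite G] [IsSimpleGroup G] (S : St G) (G0 : Subgroup G)
    (e : G0 ≃* alternatingGroup (Fin 8)) (hL : centralizer ({S.s} : Set G) ≤ G0)
    (hu : ∃ u : G, orderOf u = 2 ∧ ¬ IsConj S.s u) :
    Nonempty (G ≃* alternatingGroup (Fin 8)) ∨ Nonempty (G ≃* alternatingGroup (Fin 9)) := by
  classical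
  obtain ⟨M, hM⟩ := exists_model G0 e hL hu
  have hG0 : G0 = M.G0 := SetLike.ext fun x => hM x
  rcases M.card_H with h96 | h480
  · left
    have htop : G0 = ⊤ := hG0.trans (Model.eq_top_of_small M h96)
    exact ⟨(Subgroup.topEquiv.symm.trans (MulEquiv.subgroupCongr htop.symm)).trans e⟩
  · right
    have h9 := Model.index_nine M h480
    have hcard : Nat.card G = 181440 := by rw [← M.G0.card_mul_index, M.card_G0, h9]
    haveI := Fintype.ofFinite (G ⧸ M.G0)
    let ι : (G ⧸ M.G0) ≃ Fin 9 := Finite.equivFinOfCardEq h9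
    let ρ : G →* Equiv.Perm (Fin 9) := ι.permCongrHom.toMonoidHom.comp (MulAction.toPermHom G (G ⧸ M.G0))
    have hinj : Function.Injective ρ := by
      rw [← MonoidHom.ker_eq_bot_iff]
      refine (IsSimpleGroup.eq_bot_or_eq_top_of_normal ρ.ker inferInstance).resolve_right fun h => ?_
      have htop : M.G0 = ⊤ := eq_top_iff.2 fun g _ => by
        have hg : ρ g = 1 := (h ▸ Subgroup.mem_top g : g ∈ ρ.ker)
        have h1 : MulAction.toPermHom G (G ⧸ M.G0) g = 1 :=
          ι.permCongrHom.injective (hg.trans (_root_.map_one _).symm)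
        exact (M.fix_o g).1 (Equiv.Perm.ext_iff.1 h1 M.o)
      rw [htop, Subgroup.index_top] at h9
      omega
    have hsign : ∀ g, sign (ρ g) = 1 := by
      rcases IsSimpleGroup.eq_bot_or_eq_top_of_normal ((sign.comp ρ).ker) inferInstance with h | h
      · have := Nat.card_le_card_of_injective _ ((MonoidHom.ker_eq_bot_iff _).1 h)
        rw [hcard, Nat.card_eq_fintype_card (α := ℤˣ), Fintype.card_units_int] at this
        omega
      · exact fun g => (h ▸ Subgroup.mem_top g : g ∈ (sign.comp ρ).ker)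
    let σ : G →* alternatingGroup (Fin 9) := ρ.codRestrict _ fun g => Equiv.Perm.mem_alternatingGroup.2 (hsign g)
    have hσ : Function.Bijective σ := (Nat.bijective_iff_injective_and_card σ).2
      ⟨fun a b hab => hinj (congrArg Subtype.val hab), by
        rw [hcard, nat_card_alternatingGroup, Nat.card_fin]; decide⟩
    exact ⟨MulEquiv.ofBijective σ hσ⟩

end CfsgLib.Recognition.ExtraspecialThirtyTwo.AltCase
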