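import Cfsg.Agent.Lib.Recognition.ExtraspecialThirtyTwo.AltCase.FinalSetup
import Cfsg.Agent.Lib.Involution.SylowFusionTools
import Cfsg.Agent.Lib.KGroups.M12TwoCentral.FourSylow

/-!
# The centraliser of the second involution has order 96 or 480
-/

set_option autoImplicit false
set_option linter.unusedSectionVars false
set_option linter.style.haveILetI false
set_option maxRecDepth 20000

namespace CfsgLib.Recognition.ExtraspecialThirtyTwo.AltCase.Final

open Subgroup Equiv.Perm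

attribute [local irreducible] pe nfix mu0 mu1 bt0 bt1 gm tau sg

theorem pe_two : pe 2 = mu1 := by decide +kernel

theorem two_exp : ∀ a : Multiplicative (ZMod 2 × ZMod 2), a * a = 1 := by decide +kernel

theorem count_R : ((List.range 96).filter fun k => decide (k / 16 % 3 = 0)).length = 32 := by decide +kernel

theorem count_W : ((List.range 96).filter fun k => decide (k < 16)).length = 16 := by decide +kernel

theorem count_B : ((List.range 96).filter fun k => decide (k < 16) && decide (k % 4 = 0)).length = 4 := by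
  decide +kernel

namespace Model

variable {G : Type*} [Group G] [Finite G] {S : St G} (M : Model S)

theorem E_gm : M.el 16 = M.E gm := by rw [el, gm_tau.1]

theorem E_tau : M.el 48 = M.E tau := by rw [el, gm_tau.2.1]

theorem el_one_eq : M.el 1 = M.u := by rw [el, gm_tau.2.2.1, u]

theorem el_five : M.el 5 = S.s := by rw [el, gm_tau.2.2.2.1, M.s_eq]

theorem el_zero' : M.el 0 = 1 := by
  rw [el, show pe 0 = 1 by decide +kernel, M.E_one]

theorem el_commute_iff {k l : ℕ} (hk : k < 96) (hl : l < 96) :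
    Commute (M.el k) (M.el l) ↔ pe k * pe l = pe l * pe k := M.E_commute_iff (pe_sign k hk) (pe_sign l hl)

theorem el_mul_eq {k l m : ℕ} (hk : k < 96) (hl : l < 96) (hm : m < 96) :
    M.el k * M.el l = M.el m ↔ pe k * pe l = pe m := by
  rw [el, el, el, ← M.map_mul (pe_sign k hk) (pe_sign l hl)]
  exact ⟨M.inj (by simp [pe_sign k hk, pe_sign l hl]) (pe_sign m hm), fun h => by rw [h]⟩

theorem el_conj {k l : ℕ} (hk : k < 96) (hl : l < 96) :
    M.el k * M.el l * (M.el k)⁻¹ = M.E (pe k * pe l * (pe k)⁻¹) :=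
  (M.E_conj (pe_sign k hk) (pe_sign l hl)).symm

/-- The centraliser of the second involution. -/
def H : Subgroup G := centralizer {M.u}

/-- The Sylow subgroup of that centraliser. -/
def R : Subgroup G := centralizer {M.u} ⊓ centralizer {S.s}

/-- The elementary abelian subgroup of order sixteen. -/
def W : Subgroup G := centralizer {S.s, M.u, M.el 2, M.el 4, M.el 8}

theorem mem_H {x : G} : x ∈ M.H ↔ Commute x M.u := mem_centralizer_singleton_iff

theorem el_mem_H {k : ℕ} (hk : k < 96) : M.el k ∈ M.H := M.mem_H.2 (M.el_commute_u hk)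

theorem mem_R (x : G) : x ∈ M.R ↔ ∃ k < 96, decide (k / 16 % 3 = 0) = true ∧ M.el k = x := by
  constructor
  · rintro ⟨h1, h2⟩
    have hs : Commute x S.s := mem_centralizer_singleton_iff.1 h2
    obtain ⟨k, hk, rfl⟩ := M.exists_el (M.mem_G0_of_commute hs) (mem_centralizer_singleton_iff.1 h1)
    exact ⟨k, hk, decide_eq_true ((M.el_commute_s hk).1 hs), rfl⟩
  · rintro ⟨k, hk, fk, rfl⟩
    exact ⟨M.el_mem_H hk, mem_centralizer_singleton_iff.2 ((M.el_commute_s hk).2 (of_decide_eq_true fk)).eq⟩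

theorem mem_W (x : G) : x ∈ M.W ↔ ∃ k < 96, decide (k < 16) = true ∧ M.el k = x := by
  constructor
  · intro hx
    rw [W, mem_centralizer_iff] at hx
    have hs : Commute x S.s := (hx S.s (by simp)).symm
    obtain ⟨k, hk, rfl⟩ := M.exists_el (M.mem_G0_of_commute hs) (hx M.u (by simp)).symm
    refine ⟨k, hk, decide_eq_true ((pe_w k hk).1 ⟨?_, ?_, ?_⟩), rfl⟩
    · rw [← pe_two]; exact (M.el_commute_iff hk (by norm_num)).1 (hx (M.el 2) (by simp)).symm
    · rw [← gm_tau.2.2.2.2.1]; exact (M.el_commute_iff hk (by norm_num)).1 (hx (M.el 4) (by simp)).symm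
    · rw [← gm_tau.2.2.2.2.2.1]; exact (M.el_commute_iff hk (by norm_num)).1 (hx (M.el 8) (by simp)).symm
  · rintro ⟨k, hk, fk, rfl⟩
    have h16 : k < 16 := of_decide_eq_true fk
    rw [W, mem_centralizer_iff]
    rintro v (rfl | rfl | rfl | rfl | rfl)
    · exact ((M.el_commute_s hk).2 (by omega)).symm
    · exact (M.el_commute_u hk).symm
    · exact ((M.el_commute_iff hk (by norm_num)).2 ((w_check k h16).2 2 (by norm_num))).symm
    · exact ((M.el_commute_iff hk (by norm_num)).2 ((w_check k h16).2 4 (by norm_num))).symm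
    · exact ((M.el_commute_iff hk (by norm_num)).2 ((w_check k h16).2 8 (by norm_num))).symm

theorem el_mem_R {k : ℕ} (hk : k < 96) : M.el k ∈ M.R ↔ k / 16 % 3 = 0 :=
  ⟨fun h => by
      obtain ⟨l, hl, fl, e⟩ := (M.mem_R _).1 h
      exact M.el_inj hl hk e ▸ of_decide_eq_true fl,
    fun h => (M.mem_R _).2 ⟨k, hk, decide_eq_true h, rfl⟩⟩

theorem el_mem_W {k : ℕ} (hk : k < 96) : M.el k ∈ M.W ↔ k < 16 :=
  ⟨fun h => by
      obtain ⟨l, hl, fl, e⟩ := (M.mem_W _).1 h
      exact M.el_inj hl hk e ▸ of_decide_eq_true fl,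
    fun h => (M.mem_W _).2 ⟨k, hk, decide_eq_true h, rfl⟩⟩

theorem W_le_R : M.W ≤ M.R := fun x hx => by
  obtain ⟨k, hk, fk, rfl⟩ := (M.mem_W x).1 hx
  exact (M.el_mem_R hk).2 (by have := of_decide_eq_true fk; omega)

theorem R_le_H : M.R ≤ M.H := inf_le_left

theorem card_R : Nat.card M.R = 32 := (M.card_codes _ _ M.mem_R).trans count_R

theorem card_W : Nat.card M.W = 16 := (M.card_codes _ _ M.mem_W).trans count_W

/-- A 2-subgroup of the centraliser has order at most 32. -/
theorem two_group_le {K : Subgroup G} (hK : IsPGroup 2 K) (hKH : K ≤ M.H) : Nat.card K ≤ 32 := by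
  haveI : Fact (Nat.Prime 2) := ⟨Nat.prime_two⟩
  by_contra hlt
  have hz : IsPGroup 2 (zpowers M.u) := IsPGroup.of_card (n := 1) (by rw [Nat.card_zpowers, M.order_u, pow_one])
  have hn : K ≤ normalizer (zpowers M.u : Set G) := fun x hx => by
    have hc : Commute x M.u := M.mem_H.1 (hKH hx)
    rw [mem_normalizer_iff]
    intro v
    constructor
    · rintro ⟨i, rfl⟩
      exact ⟨i, by simp [(hc.zpow_right i).eq]⟩
    · rintro ⟨i, hi⟩
      refine ⟨i, ?_⟩
      simp only at hi ⊢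
      calc M.u ^ i = x⁻¹ * (M.u ^ i) * x := by rw [mul_assoc, ← (hc.zpow_right i).eq, inv_mul_cancel_left]
        _ = x⁻¹ * (x * v * x⁻¹) * x := by rw [hi]
        _ = v := by group
  obtain ⟨Q, hQ⟩ := (IsPGroup.to_sup_of_normal_right' hK hz hn).exists_le_sylow
  obtain ⟨P, hP⟩ := exists_sylow S
  obtain ⟨g, hg⟩ := MulAction.exists_smul_eq G Q P
  set K' := K ⊔ zpowers M.u
  have hle : K'.map (MulAut.conj g).toMonoidHom ≤ SS S := by
    rintro _ ⟨x, hx, rfl⟩
    rw [← hP, ← hg]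
    exact ⟨x, hQ hx, rfl⟩
  have hcard : Nat.card (K'.map (MulAut.conj g).toMonoidHom) = Nat.card K' :=
    (Nat.card_congr (Subgroup.equivMapOfInjective _ _ (MulEquiv.injective _)).toEquiv).symm
  have hge : 64 ≤ Nat.card K' := by
    obtain ⟨m, hm⟩ := IsPGroup.iff_card.1 hK
    have h1 : Nat.card K ≤ Nat.card K' := Subgroup.card_le_of_le le_sup_left
    rw [hm] at h1 hlt
    have : 6 ≤ m := by
      by_contra h6
      exact hlt ((Nat.pow_le_pow_right (by norm_num) (show m ≤ 5 by omega)).trans (by norm_num))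
    exact le_trans (le_trans (by norm_num) (Nat.pow_le_pow_right (show 0 < 2 by norm_num) this)) h1
  have heq : K'.map (MulAut.conj g).toMonoidHom = SS S :=
    Subgroup.eq_of_le_of_card_ge hle (by rw [hcard, card_SS]; exact hge)
  have hu' : g * M.u * g⁻¹ ∈ SS S := heq ▸ ⟨M.u, mem_sup_right (mem_zpowers _), rfl⟩
  have hcent : K' ≤ M.H := sup_le hKH (zpowers_le.2 (M.mem_H.2 (Commute.refl _)))
  rcases SS_centre S hu' (fun v hv => by
    rw [← heq] at hv
    obtain ⟨x, hx, rfl⟩ := hv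
    exact ((M.mem_H.1 (hcent hx)).map (MulAut.conj g).toMonoidHom).symm) with h | h
  · exact M.u_ne (conj_eq_one_iff.1 h)
  · exact M.notconj (isConj_iff.2 ⟨g, h⟩).symm

theorem not_dvd_H : ¬ 64 ∣ Nat.card M.H := fun h => by
  haveI : Fact (Nat.Prime 2) := ⟨Nat.prime_two⟩
  obtain ⟨K, hK⟩ := Sylow.exists_subgroup_card_pow_prime (G := M.H) 2 (n := 6) (by norm_num; exact h)
  have := M.two_group_le ((IsPGroup.of_card hK).map M.H.subtype) (map_subtype_le K)
  rw [Subgroup.card_subtype, hK] at this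
  omega

/-- The mixed involution is not conjugate into the elementary subgroup. -/
theorem tau_not_conj {x h : G} (hx : x ∈ M.W) (hh : h ∈ M.H) : h * x * h⁻¹ ≠ M.el 48 := by
  haveI : Fact (Nat.Prime 2) := ⟨Nat.prime_two⟩
  intro he
  set C2 : Subgroup G := centralizer {M.u} ⊓ centralizer {M.el 48} with hC2
  set A : Subgroup G := C2 ⊓ centralizer {S.s} with hA
  have hmemA : ∀ y : G, y ∈ A ↔ ∃ k < 96,
      (decide (pe k * tau = tau * pe k) && decide (pe k * sg = sg * pe k)) = true ∧ M.el k = y := by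
    intro y
    constructor
    · rintro ⟨⟨h1, h2⟩, h3⟩
      obtain ⟨k, hk, rfl⟩ := M.exists_el (M.mem_G0_of_commute (mem_centralizer_singleton_iff.1 h3))
        (mem_centralizer_singleton_iff.1 h1)
      refine ⟨k, hk, ?_, rfl⟩
      rw [Bool.and_eq_true, decide_eq_true_iff, decide_eq_true_iff, ← gm_tau.2.1, ← gm_tau.2.2.2.1]
      refine ⟨(M.el_commute_iff hk (by norm_num)).1 (mem_centralizer_singleton_iff.1 h2),
        (M.el_commute_iff hk (by norm_num)).1 ?_⟩
      rw [M.el_five]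
      exact mem_centralizer_singleton_iff.1 h3
    · rintro ⟨k, hk, fk, rfl⟩
      rw [Bool.and_eq_true, decide_eq_true_iff, decide_eq_true_iff, ← gm_tau.2.1, ← gm_tau.2.2.2.1] at fk
      refine ⟨⟨M.el_mem_H hk, mem_centralizer_singleton_iff.2 ((M.el_commute_iff hk (by norm_num)).2 fk.1).eq⟩,
        mem_centralizer_singleton_iff.2 ?_⟩
      rw [← M.el_five]
      exact ((M.el_commute_iff hk (by norm_num)).2 fk.2).eq
  have hA8 : Nat.card A = 8 := (M.card_codes _ _ hmemA).trans a_count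
  have hAp : IsPGroup 2 (A.subgroupOf C2) := IsPGroup.of_card (n := 3) (by
    rw [Nat.card_congr (Subgroup.subgroupOfEquivOfLe inf_le_left).toEquiv, hA8]; norm_num)
  obtain ⟨Q, hQ⟩ := hAp.exists_le_sylow
  have hQeq : A.subgroupOf C2 = (Q : Subgroup C2) := by
    by_contra hne
    haveI : Group.IsNilpotent (Q : Subgroup C2) := Q.2.isNilpotent
    have hlt : (A.subgroupOf C2).subgroupOf (Q : Subgroup C2) < ⊤ :=
      lt_top_iff_ne_top.2 fun e => hne (le_antisymm hQ (Subgroup.subgroupOf_eq_top.1 e))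
    obtain ⟨n, hnN, hn⟩ := SetLike.exists_of_lt (Group.normalizerCondition_of_isNilpotent _ hlt)
    have hsA : S.s ∈ A := (hmemA _).2 ⟨5, by norm_num, by decide +kernel, M.el_five⟩
    have hconj : ((n : C2) : G) * S.s * ((n : C2) : G)⁻¹ ∈ A := by
      have h1 := (mem_normalizer_iff.1 hnN ⟨⟨S.s, hsA.1⟩, hQ (mem_subgroupOf.2 hsA)⟩).1
        (mem_subgroupOf.2 (mem_subgroupOf.2 hsA))
      exact mem_subgroupOf.1 (mem_subgroupOf.1 h1)
    obtain ⟨k, hk, fk, hke⟩ := (hmemA _).1 hconj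
    rw [Bool.and_eq_true, decide_eq_true_iff, decide_eq_true_iff] at fk
    obtain ⟨h2, h0⟩ := a_check k hk fk.1 fk.2
    have h1 : pe k ≠ 1 := fun e1 => by
      have : M.el k = 1 := by rw [el, e1, M.E_one]
      rw [this] at hke
      exact S.s_ne_one (conj_eq_one_iff.1 hke.symm)
    rcases even_involution h2 h1 (pe_sign k hk) with h4 | hz
    · obtain ⟨a, -, ha⟩ := M.exists_of_four h2 h4
      exact M.notconj ((isConj_iff.2 ⟨_, hke.symm⟩).trans (isConj_iff.2 ⟨a, ha⟩).symm)
    · have hs : Commute ((n : C2) : G) S.s := by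
        refine mul_inv_eq_iff_eq_mul.1 ?_
        rw [← hke, el, h0 hz, M.s_eq]
      exact hn (mem_subgroupOf.2 (mem_subgroupOf.2 ⟨(n : C2).2, mem_centralizer_singleton_iff.2 hs.eq⟩))
  set K : Subgroup G := M.W.map (MulAut.conj h).toMonoidHom
  have hKC : K ≤ C2 := by
    rintro _ ⟨w, hw, rfl⟩
    have hwu : Commute w M.u := M.mem_H.1 (M.R_le_H (M.W_le_R hw))
    have hwx : Commute w x := by
      obtain ⟨k, hk, fk, rfl⟩ := (M.mem_W w).1 hw
      obtain ⟨l, hl, fl, rfl⟩ := (M.mem_W x).1 hx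
      exact (M.el_commute_iff hk hl).2 ((w_check k (of_decide_eq_true fk)).2 l (of_decide_eq_true fl))
    refine ⟨M.mem_H.2 ?_, mem_centralizer_singleton_iff.2 ?_⟩
    · have h1 := hwu.map (MulAut.conj h).toMonoidHom
      simp only [MulEquiv.coe_toMonoidHom, MulAut.conj_apply] at h1 ⊢
      rwa [show h * M.u * h⁻¹ = M.u by rw [(M.mem_H.1 hh).eq, mul_inv_cancel_right]] at h1
    · have h1 := hwx.map (MulAut.conj h).toMonoidHom
      simp only [MulEquiv.coe_toMonoidHom, MulAut.conj_apply] at h1 ⊢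
      rw [he] at h1
      exact h1.eq
  have hK16 : Nat.card (K.subgroupOf C2) = 16 := by
    rw [Nat.card_congr (Subgroup.subgroupOfEquivOfLe hKC).toEquiv,
      ← Nat.card_congr (Subgroup.equivMapOfInjective _ _ (MulEquiv.injective _)).toEquiv, M.card_W]
  obtain ⟨Q', hQ'⟩ := (IsPGroup.of_card (n := 4) (by rw [hK16]; norm_num) :
    IsPGroup 2 (K.subgroupOf C2)).exists_le_sylow
  have h1 := Subgroup.card_le_of_le hQ'
  rw [hK16, Sylow.card_eq_multiplicity, ← Q.card_eq_multiplicity, ← hQeq,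
    Nat.card_congr (Subgroup.subgroupOfEquivOfLe inf_le_left).toEquiv, hA8] at h1
  omega

/-- A subgroup of index two. -/
theorem exists_half : ∃ N : Subgroup G, N ≤ M.H ∧ Nat.card N * 2 = Nat.card M.H ∧
    ∀ k < 96, (M.el k ∈ N ↔ k < 48) := by
  classical
  haveI : Fact (Nat.Prime 2) := ⟨Nat.prime_two⟩
  set R' := M.R.subgroupOf M.H
  set W' := M.W.subgroupOf M.H
  have hcR : Nat.card R' = 32 := by
    rw [Nat.card_congr (Subgroup.subgroupOfEquivOfLe M.R_le_H).toEquiv, M.card_R]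
  have hcW : Nat.card W' = 16 := by
    rw [Nat.card_congr (Subgroup.subgroupOfEquivOfLe (M.W_le_R.trans M.R_le_H)).toEquiv, M.card_W]
  have hidx : ¬ 2 ∣ R'.index := fun h => M.not_dvd_H (by
    rw [← R'.card_mul_index, hcR]; exact Nat.mul_dvd_mul_left 32 h)
  let P : Sylow 2 M.H := (IsPGroup.of_card (n := 5) (by rw [hcR]; norm_num) : IsPGroup 2 R').toSylow hidx
  have hWR : W' ≤ (P : Subgroup M.H) := Subgroup.comap_mono M.W_le_R
  have hrel : W'.relIndex (P : Subgroup M.H) = 2 := by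
    have h := (W'.subgroupOf (P : Subgroup M.H)).card_mul_index
    rw [Nat.card_congr (Subgroup.subgroupOfEquivOfLe hWR).toEquiv, hcW, show Nat.card (P : Subgroup M.H) = 32 from hcR] at h
    change (W'.subgroupOf (P : Subgroup M.H)).index = 2
    omega
  have hsep : ∀ a b h : G, a ∈ M.W → b ∈ M.R → b ∉ M.W → h ∈ M.H → h * a * h⁻¹ ≠ b := by
    intro a b h ha hb hbW hh hab
    obtain ⟨k, hk, fk, rfl⟩ := (M.mem_R b).1 hb
    have hk16 : 16 ≤ k := by
      by_contra hc
      exact hbW ((M.el_mem_W hk).2 (by omega))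
    obtain ⟨l, hl, fl, hla⟩ := (M.mem_W a).1 ha
    have hbb : M.el k * M.el k = 1 := by
      have haa : a * a = 1 := by
        rw [← hla, el, ← M.map_mul (pe_sign l hl) (pe_sign l hl), (w_check l (of_decide_eq_true fl)).1, M.E_one]
      rw [← hab, show h * a * h⁻¹ * (h * a * h⁻¹) = h * (a * a) * h⁻¹ by group, haa]; group
    have hsq : pe k * pe k = 1 := M.E_eq_one (by simp [pe_sign k hk])
      (by rw [M.map_mul (pe_sign k hk) (pe_sign k hk)]; exact hbb)
    obtain ⟨r, hr, hrc⟩ := List.any_eq_true.1 (r_conj k hk hk16 (of_decide_eq_true fk) hsq)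
    rw [List.mem_range] at hr
    simp only [Bool.and_eq_true, decide_eq_true_iff] at hrc
    refine M.tau_not_conj ha (mul_mem (inv_mem (M.el_mem_H hr)) hh) ?_
    have hbe : M.el k = M.el r * M.el 48 * (M.el r)⁻¹ := by
      rw [M.el_conj hr (by norm_num), gm_tau.2.1, hrc.2, el]
    calc (M.el r)⁻¹ * h * a * ((M.el r)⁻¹ * h)⁻¹ = (M.el r)⁻¹ * (h * a * h⁻¹) * M.el r := by group
      _ = M.el 48 := by rw [hab, hbe]; group
  have hinv : ∀ a ∈ (P : Subgroup M.H), ∀ g : M.H, g * a * g⁻¹ ∈ (P : Subgroup M.H) →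
      (a ∈ W' ↔ g * a * g⁻¹ ∈ W') := by
    intro a ha g hga
    constructor
    · intro h
      by_contra hb
      exact hsep a.1 _ g.1 h hga hb g.2 rfl
    · intro h
      by_contra hb
      refine hsep _ a.1 (g.1)⁻¹ h ha hb (inv_mem g.2) ?_
      show (g.1)⁻¹ * (g.1 * a.1 * (g.1)⁻¹) * (g.1)⁻¹⁻¹ = a.1
      group
  obtain ⟨N, hNn, hN2, hNP⟩ := CfsgLib.Involution.SylowFusionTools.exists_index_two P hWR hrel hinv
  refine ⟨N.map M.H.subtype, map_subtype_le N, ?_, ?_⟩
  · rw [Subgroup.card_subtype, ← N.card_mul_index, hN2]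
  have hmem : ∀ (k : ℕ) (hk : k < 96), M.el k ∈ N.map M.H.subtype ↔ (⟨M.el k, M.el_mem_H hk⟩ : M.H) ∈ N :=
    fun k hk => ⟨fun ⟨y, hy, e⟩ => (show y = ⟨M.el k, M.el_mem_H hk⟩ from Subtype.ext e) ▸ hy, fun h => ⟨_, h, rfl⟩⟩
  have hW : ∀ k < 16, M.el k ∈ N.map M.H.subtype := fun k hk => (hmem k (by omega)).2 (by
    have : (⟨M.el k, M.el_mem_H (by omega)⟩ : M.H) ∈ W' := mem_subgroupOf.2 ((M.el_mem_W (by omega)).2 hk)
    rw [← hNP] at this
    exact this.1)
  have hg : M.el 16 ∈ N.map M.H.subtype := (hmem 16 (by norm_num)).2 (by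
    set γ : M.H := ⟨M.el 16, M.el_mem_H (by norm_num)⟩
    have h3 : γ ^ 3 = 1 := Subtype.ext (by
      rw [SubgroupClass.coe_pow, Subgroup.coe_one, show (γ : G) = M.E gm from M.E_gm, pow_three,
        ← M.map_mul (gm_tau.1 ▸ pe_sign 16 (by norm_num)) (gm_tau.1 ▸ pe_sign 16 (by norm_num)),
        ← M.map_mul (gm_tau.1 ▸ pe_sign 16 (by norm_num))
          (by simp [gm_tau.1 ▸ pe_sign 16 (by norm_num)]),
        ← pow_three, tau_facts.2.2.1, M.E_one])
    have h4 : (γ * γ) * (γ * γ) = γ := by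
      rw [← mul_assoc, show γ * γ * γ = γ ^ 3 by rw [pow_succ, pow_two], h3, one_mul]
    rw [← h4]
    exact mul_mem (Subgroup.mul_self_mem_of_index_two hN2 γ) (Subgroup.mul_self_mem_of_index_two hN2 γ))
  have hlow : ∀ k < 48, M.el k ∈ N.map M.H.subtype := by
    intro k hk
    have hgs : sign gm = 1 := gm_tau.1 ▸ pe_sign 16 (by norm_num)
    have hp : ∀ i : ℕ, M.E (gm ^ i) = M.el 16 ^ i := by
      intro i
      induction i with
      | zero => rw [pow_zero, pow_zero, M.E_one]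
      | succ i ih => rw [pow_succ, M.map_mul (by simp [hgs]) hgs, ih, pow_succ, M.E_gm]
    have : M.el k = M.el (k % 16) * M.el 16 ^ (k / 16) := by
      show M.E (pe k) = _
      rw [low_gen k hk, M.map_mul (pe_sign _ (by omega)) (by simp [hgs]), hp]
      rfl
    rw [this]
    exact mul_mem (hW _ (by omega)) (pow_mem hg _)
  have htau : M.el 48 ∉ N.map M.H.subtype := by
    intro h
    have h1 := (hmem 48 (by norm_num)).1 h
    have h2 : (⟨M.el 48, M.el_mem_H (by norm_num)⟩ : M.H) ∈ (P : Subgroup M.H) :=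
      mem_subgroupOf.2 ((M.el_mem_R (by norm_num)).2 (by norm_num))
    have h3 : (⟨M.el 48, M.el_mem_H (by norm_num)⟩ : M.H) ∈ W' := hNP ▸ ⟨h1, h2⟩
    have := (M.el_mem_W (by norm_num)).1 (mem_subgroupOf.1 h3)
    omega
  intro k hk
  constructor
  · intro h
    by_contra hc
    have hk2 : k - 48 < 48 := by omega
    have e : M.el k = M.el (k - 48) * M.el 48 := by
      refine ((M.el_mul_eq (by omega) (by norm_num) hk).2 ?_).symm
      rw [gm_tau.2.1, ← high_gen _ hk2, Nat.sub_add_cancel (by omega)]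
    refine htau ?_
    have := mul_mem (inv_mem (hlow _ hk2)) h
    rwa [e, inv_mul_cancel_left] at this
  · exact hlow k

theorem exists_code (x : G) (hx : x ∈ M.W) : ∃ k < 16, M.el k = x := by
  obtain ⟨k, -, fk, h⟩ := (M.mem_W x).1 hx
  exact ⟨k, of_decide_eq_true fk, h⟩

/-- The order of the centraliser. -/
theorem card_H : Nat.card M.H = 96 ∨ Nat.card M.H = 480 := by
  classical
  haveI : Fact (Nat.Prime 2) := ⟨Nat.prime_two⟩
  obtain ⟨N, hNH, hNc, hNel⟩ := M.exists_half
  have hWN : M.W ≤ N := fun x hx => by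
    obtain ⟨k, hk, rfl⟩ := M.exists_code x hx
    exact (hNel k (by omega)).2 (by omega)
  set W' := M.W.subgroupOf N
  have hcW : Nat.card W' = 16 := by
    rw [Nat.card_congr (Subgroup.subgroupOfEquivOfLe hWN).toEquiv, M.card_W]
  have hidx : ¬ 2 ∣ W'.index := fun h => M.not_dvd_H (by
    rw [← hNc, ← W'.card_mul_index, hcW, show 64 = 16 * 2 * 2 by norm_num]
    exact Nat.mul_dvd_mul_right (Nat.mul_dvd_mul_left 16 h) 2)
  let P : Sylow 2 N := (IsPGroup.of_card (n := 4) (by rw [hcW]; norm_num) : IsPGroup 2 W').toSylow hidx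
  have hPc : IsMulCommutative (P : Subgroup N) := ⟨⟨fun x y => by
    obtain ⟨k, hk, hkx⟩ := M.exists_code _ (mem_subgroupOf.1 x.2)
    obtain ⟨l, hl, hly⟩ := M.exists_code _ (mem_subgroupOf.1 y.2)
    refine Subtype.ext (Subtype.ext ?_)
    show ((x : N) : G) * ((y : N) : G) = ((y : N) : G) * ((x : N) : G)
    rw [← hkx, ← hly]
    exact ((M.el_commute_iff (by omega) (by omega)).2 ((w_check k hk).2 l hl)).eq⟩⟩
  choose code hcode hcode' using fun x : W' => M.exists_code _ (mem_subgroupOf.1 x.2)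
  let φ : W' →* Multiplicative (ZMod 2 × ZMod 2) := MonoidHom.mk' (fun x => proj (pe (code x))) (fun x y => by
    rw [← proj_mul _ (hcode x) _ (hcode y)]
    congr 1
    have hx := hcode x
    have hy := hcode y
    have hxy := hcode (x * y)
    refine ((M.el_mul_eq (by omega) (by omega) (by omega)).1 ?_).symm
    rw [hcode', hcode', hcode']
    rfl)
  have hφ : ∀ (k : ℕ) (hk : k < 16) (x : W'), ((x : N) : G) = M.el k → φ x = proj (pe k) := by
    intro k hk x hx
    have := hcode x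
    show proj (pe (code x)) = _
    rw [M.el_inj (by omega) (by omega) ((hcode' x).trans hx)]
  have key : ∀ (x : W') (g : N) (hg : g⁻¹ * (x : N) * g ∈ W'), φ ⟨_, hg⟩ = φ x := by
    intro x g hg
    obtain ⟨n, hn, hne⟩ := CfsgLib.Fusion.Transfer.controls_normalizer_of_comm P hPc (x : N) x.2 g⁻¹
      (by rw [inv_inv]; exact hg)
    rw [inv_inv] at hne
    have hsW : (⟨S.s, hWN ((M.mem_W _).2 ⟨5, by norm_num, rfl, M.el_five⟩)⟩ : N) ∈ (P : Subgroup N) :=
      mem_subgroupOf.2 ((M.mem_W _).2 ⟨5, by norm_num, rfl, M.el_five⟩)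
    have hns : ((n : N) : G) * S.s * ((n : N) : G)⁻¹ ∈ M.W :=
      mem_subgroupOf.1 ((mem_normalizer_iff.1 hn _).1 hsW)
    obtain ⟨c, hc, hce⟩ := M.exists_code _ hns
    have hnG : (n : G) ∈ M.G0 := M.key (hce ▸ M.el_mem (by omega))
    obtain ⟨k, hk, hke⟩ := M.exists_el hnG (M.mem_H.1 (hNH n.2))
    have hk48 : k < 48 := (hNel k hk).1 (hke ▸ n.2)
    obtain ⟨l, hl, hle⟩ := M.exists_code _ (mem_subgroupOf.1 x.2)
    obtain ⟨m, hm, hme⟩ := M.exists_code _ (mem_subgroupOf.1 hg)
    rw [hφ l hl x hle.symm, hφ m hm _ hme.symm, ← proj_inv k hk48 l hl]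
    refine congrArg proj (M.inj (pe_sign m (by omega)) (by simp [pe_sign k hk, pe_sign l (show l < 96 by omega)]) ?_)
    rw [← M.el_conj hk (by omega), hke, hle]
    show M.el m = _
    rw [hme]
    exact (congrArg Subtype.val hne).symm
  set T := MonoidHom.transfer φ
  have hodd : Odd W'.index := Nat.odd_iff.2 (by omega)
  have hexp := two_exp
  have hT : ∀ x : W', T (x : N) = φ x := by
    intro x
    rw [CfsgLib.Fusion.Transfer.transfer_eq_pow_of_invariant φ key x]
    obtain ⟨j, hj⟩ := hodd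
    rw [hj, pow_succ, pow_mul, pow_two, hexp, one_pow, one_mul]
  have hTtop : T.range = ⊤ := by
    refine eq_top_iff.2 fun a _ => ?_
    obtain ⟨k, hk⟩ := proj_onto a.toAdd
    have hkW : M.el k.1 ∈ M.W := (M.el_mem_W (by omega)).2 (by omega)
    exact ⟨⟨M.el k.1, hWN hkW⟩, (hT ⟨⟨M.el k.1, hWN hkW⟩, mem_subgroupOf.2 hkW⟩).trans
      ((hφ k.1 (by omega) _ rfl).trans hk)⟩
  set K3 := T.ker
  have hK3 : Nat.card K3 * 4 = Nat.card N := by
    rw [← K3.card_mul_index, Subgroup.index_ker, hTtop, Subgroup.card_top,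
      Nat.card_eq_fintype_card (α := Multiplicative (ZMod 2 × ZMod 2))]
    rfl
  have hTW : ∀ (k : ℕ) (hk : k < 16), T ⟨M.el k, hWN ((M.el_mem_W (by omega)).2 hk)⟩ = 1 ↔ k % 4 = 0 := by
    intro k hk
    rw [← proj_one k hk, ← hφ k hk ⟨⟨M.el k, hWN ((M.el_mem_W (by omega)).2 hk)⟩,
      mem_subgroupOf.2 ((M.el_mem_W (by omega)).2 hk)⟩ rfl, ← hT]
  set B : Subgroup K3 := W'.subgroupOf K3
  have hmemB : ∀ x : G, x ∈ (B.map K3.subtype).map N.subtype ↔
      ∃ k < 96, (decide (k < 16) && decide (k % 4 = 0)) = true ∧ M.el k = x := by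
    intro x
    constructor
    · rintro ⟨_, ⟨y, hy, rfl⟩, rfl⟩
      obtain ⟨k, hk, hke⟩ := M.exists_code _ (mem_subgroupOf.1 (mem_subgroupOf.1 hy))
      refine ⟨k, by omega, ?_, hke⟩
      rw [Bool.and_eq_true, decide_eq_true_iff, decide_eq_true_iff]
      refine ⟨hk, (hTW k hk).1 ?_⟩
      have hy2 : T (y : N) = 1 := y.2
      exact (congrArg T (Subtype.ext hke)).trans hy2
    · rintro ⟨k, hk, fk, rfl⟩
      rw [Bool.and_eq_true, decide_eq_true_iff, decide_eq_true_iff] at fk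
      exact ⟨_, ⟨⟨⟨M.el k, hWN ((M.el_mem_W hk).2 fk.1)⟩, (hTW k fk.1).2 fk.2⟩,
        mem_subgroupOf.2 (mem_subgroupOf.2 ((M.el_mem_W hk).2 fk.1)), rfl⟩, rfl⟩
  have hB4 : Nat.card B = 4 := by
    rw [← Subgroup.card_subtype K3 B, ← Subgroup.card_subtype N (B.map K3.subtype)]
    exact (M.card_codes _ _ hmemB).trans count_B
  have hK8 : ¬ 8 ∣ Nat.card K3 := fun h => M.not_dvd_H (by
    rw [← hNc, ← hK3, show 64 = 8 * 4 * 2 by norm_num]
    exact Nat.mul_dvd_mul_right (Nat.mul_dvd_mul_right h 4) 2)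
  let P3 : Sylow 2 K3 := (IsPGroup.of_card (n := 2) (by rw [hB4]; norm_num) : IsPGroup 2 B).toSylow (fun h => hK8 (by
    rw [← B.card_mul_index, hB4, show 8 = 4 * 2 by norm_num]; exact Nat.mul_dvd_mul_left 4 h))
  have hBsq : ∀ b ∈ B, b * b = 1 := fun b hb => by
    obtain ⟨k, hk, hke⟩ := M.exists_code _ (mem_subgroupOf.1 (mem_subgroupOf.1 hb))
    refine Subtype.ext (Subtype.ext ?_)
    show ((b : N) : G) * ((b : N) : G) = 1
    rw [← hke, el, ← M.map_mul (pe_sign k (by omega)) (pe_sign k (by omega)), (w_check k hk).1, M.E_one]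
  have hklein : IsKleinFour (P3 : Subgroup K3) := by
    refine ⟨hB4, ?_⟩
    have h2 : ∀ b : (P3 : Subgroup K3), b ^ 2 = 1 := fun b => by
      rw [pow_two]; exact Subtype.ext (hBsq _ b.2)
    rcases (Nat.dvd_prime Nat.prime_two).1 (Monoid.exponent_dvd_of_forall_pow_eq_one h2) with h1 | h1
    · have hsub := Monoid.exp_eq_one_iff.1 h1
      have := Finite.card_le_one_iff_subsingleton.2 hsub
      rw [show Nat.card (P3 : Subgroup K3) = 4 from hB4] at this
      omega
    · exact h1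
  have hb0 : M.el 4 ∈ (B.map K3.subtype).map N.subtype := (hmemB _).2 ⟨4, by norm_num, rfl, rfl⟩
  obtain ⟨β', ⟨β, hβB, rfl⟩, hβ⟩ := hb0
  have hgK : ∃ γ : K3, ((γ : N) : G) = M.el 16 := by
    refine ⟨⟨⟨M.el 16, (hNel 16 (by norm_num)).2 (by norm_num)⟩, ?_⟩, rfl⟩
    show T _ = 1
    set γ : N := ⟨M.el 16, (hNel 16 (by norm_num)).2 (by norm_num)⟩
    have hgs : sign gm = 1 := gm_tau.1 ▸ pe_sign 16 (by norm_num)
    have h3 : γ ^ 3 = 1 := Subtype.ext (by
      rw [SubgroupClass.coe_pow, Subgroup.coe_one, show (γ : G) = M.E gm from M.E_gm, pow_three,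
        ← M.map_mul hgs hgs, ← M.map_mul hgs (by simp [hgs]), ← pow_three, tau_facts.2.2.1, M.E_one])
    have h4 : γ = (γ * γ) * (γ * γ) := by
      rw [← mul_assoc, show γ * γ * γ = γ ^ 3 by rw [pow_succ, pow_two], h3, one_mul]
    rw [h4, _root_.map_mul, hexp]
  obtain ⟨γ, hγ⟩ := hgK
  have hC : Nat.card (centralizer ({β} : Set K3)) = 4 := by
    rw [← hB4]
    refine congrArg (fun X : Subgroup K3 => Nat.card X) (SetLike.ext fun x => ⟨fun hx => ?_, fun hx => ?_⟩)
    · have hxc : Commute ((x : N) : G) (M.el 4) := hβ ▸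
        (show Commute ((x : N) : G) ((β : N) : G) from
          congrArg (fun y : K3 => ((y : N) : G)) (mem_centralizer_singleton_iff.1 hx))
      have hxu : Commute ((x : N) : G) M.u := M.mem_H.1 (hNH (x : N).2)
      have hsb : M.u * M.el 4 = S.s := by
        rw [← M.el_one_eq, ← M.el_five]
        refine (M.el_mul_eq (by norm_num) (by norm_num) (by norm_num)).2 ?_
        decide +kernel
      have hxs : Commute ((x : N) : G) S.s := hsb ▸ hxu.mul_right hxc
      obtain ⟨k, hk, hke⟩ := M.exists_el (M.mem_G0_of_commute hxs) hxu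
      have hk48 : k < 48 := (hNel k hk).1 (hke ▸ (x : N).2)
      have hk3 : k / 16 % 3 = 0 := (M.el_commute_s hk).1 (hke ▸ hxs)
      exact mem_subgroupOf.2 (mem_subgroupOf.2 (hke ▸ (M.el_mem_W hk).2 (by omega)))
    · refine mem_centralizer_singleton_iff.2 (Subtype.ext ?_)
      exact congrArg (fun y : (P : Subgroup N) => (y : N)) (hPc.is_comm.comm ⟨(x : N), hx⟩ ⟨(β : N), hβB⟩)
  have hnc : ¬ Cfsg.HasNormalPComplement 2 K3 := by
    rintro ⟨Q, D, hD, hcompl⟩
    haveI := hD
    have hQ4 : Nat.card (Q : Subgroup K3) = 4 := by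
      rw [Sylow.card_eq_multiplicity, ← P3.card_eq_multiplicity]; exact hB4
    have hD4 : Nat.card D * 4 = Nat.card K3 := by rw [← hQ4]; exact hcompl.card_mul_card
    have hidx : D.index = 4 := by
      have h := D.card_mul_index
      rw [← hD4] at h
      exact Nat.eq_of_mul_eq_mul_left Nat.card_pos h
    have hγ3 : γ ^ 3 = 1 := Subtype.ext (Subtype.ext (by
      have hgs : sign gm = 1 := gm_tau.1 ▸ pe_sign 16 (by norm_num)
      rw [SubgroupClass.coe_pow, SubgroupClass.coe_pow, hγ, M.E_gm, pow_three,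
        ← M.map_mul hgs hgs, ← M.map_mul hgs (by simp [hgs]), ← pow_three, tau_facts.2.2.1, M.E_one]
      rfl))
    have hγD : γ ∈ D := by
      have h := D.pow_index_mem γ
      rwa [hidx, pow_succ, hγ3, one_mul] at h
    set c := β * γ * β⁻¹ * γ⁻¹ with hc
    have hcD : c ∈ D := mul_mem (hD.conj_mem γ hγD β) (inv_mem hγD)
    have hcB : c ∈ B := by
      have hi : β⁻¹ ∈ B := inv_mem hβB
      have hconj : γ * β⁻¹ * γ⁻¹ ∈ B := by
        refine mem_subgroupOf.2 (mem_subgroupOf.2 ?_)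
        show ((γ : N) : G) * ((β : N) : G)⁻¹ * ((γ : N) : G)⁻¹ ∈ M.W
        rw [hγ, show ((β : N) : G) = M.el 4 from hβ]
        have h44 : (M.el 4)⁻¹ = M.el 4 := inv_eq_of_mul_eq_one_right (by
          rw [el, ← M.map_mul (pe_sign 4 (by norm_num)) (pe_sign 4 (by norm_num)),
            (w_check 4 (by norm_num)).1, M.E_one])
        obtain ⟨b', hb'⟩ := b_normal 16 (by norm_num) 1
        rw [h44, M.el_conj (by norm_num) (by norm_num), show pe 4 = pe (4 * (1 : Fin 4).1) from rfl, hb']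
        exact (M.el_mem_W (by omega)).2 (by omega)
      have : c = β * (γ * β⁻¹ * γ⁻¹) := by rw [hc]; group
      rw [this]
      exact mul_mem hβB hconj
    have hc1 : c = 1 := by
      refine orderOf_eq_one_iff.1 (Nat.eq_one_of_dvd_coprimes ?_ (orderOf_dvd_of_pow_eq_one
        (by rw [pow_two, hBsq c hcB])) (Subgroup.orderOf_dvd_natCard D hcD))
      refine (Nat.prime_two.coprime_iff_not_dvd).2 fun h2 => hK8 ?_
      rw [← hD4, show 8 = 2 * 4 by norm_num]
      exact Nat.mul_dvd_mul_right h2 4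
    have hcomm : Commute (M.el 16) (M.el 4) := by
      have h1 : γ * β = β * γ := by
        rw [hc, mul_inv_eq_one, mul_inv_eq_iff_eq_mul] at hc1
        exact hc1.symm
      have h2 := congrArg (fun y : K3 => ((y : N) : G)) h1
      simp only [Subgroup.coe_mul, hγ, show ((β : N) : G) = M.el 4 from hβ] at h2
      exact h2
    refine (b_check 0).2.2.2 ?_
    rw [← gm_tau.1]
    exact (M.el_commute_iff (by norm_num) (by norm_num)).1 hcomm
  have hβo : orderOf β = 2 := by
    refine orderOf_eq_prime (by rw [pow_two, hBsq β hβB]) fun h => ?_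
    have : M.el 4 = M.el 0 := by rw [M.el_zero', ← hβ, h]; rfl
    exact absurd (M.el_inj (by norm_num) (by norm_num) this) (by norm_num)
  rcases CfsgLib.KGroups.M12TwoCentral.FourSylow.card_cases P3 hklein hβo hβB hC hnc with h | h
  · left; rw [← hNc, ← hK3, h]
  · right; rw [← hNc, ← hK3, h]

end Model

end CfsgLib.Recognition.ExtraspecialThirtyTwo.AltCase.Final
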