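import Cfsg.Agent.Lib.Recognition.ExtraspecialThirtyTwo.AltCase.FinalCent

/-!
# The cosets of the subgroup of type `A8` fixed by the second involution
-/

set_option autoImplicit false
set_option linter.unusedSectionVars false
set_option linter.style.haveILetI false
set_option maxRecDepth 20000

namespace CfsgLib.Recognition.ExtraspecialThirtyTwo.AltCase.Final

open Subgroup Equiv.Perm

attribute [local irreducible] pe nfix mu0 mu1 bt0 bt1 gm tau sg enc e8

theorem b_zero : ∀ a b : Fin 4, pe (4 * a.1) * pe (4 * b.1) = 1 → a = b := by decide +kernel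

theorem ub_facts : ∀ b : Fin 4, b ≠ 0 →
    nfix (mu0 * pe (4 * b.1)) = 0 ∧ mu0 * pe (4 * b.1) * (mu0 * pe (4 * b.1)) = 1 := by decide +kernel

theorem b_gm : ∀ b : Fin 4, b ≠ 0 → pe 16 * pe (4 * b.1) ≠ pe (4 * b.1) * pe 16 := by decide +kernel

theorem w_split : ∀ k < 16, pe k = pe (k % 4) * pe (4 * (k / 4)) := by decide +kernel

theorem f_comm : ∀ f < 4, pe f * pe 16 = pe 16 * pe f ∧ ∀ b : Fin 4, pe f * pe (4 * b.1) = pe (4 * b.1) * pe f := by
  decide +kernel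

theorem tau_comm : pe 48 * pe 4 = pe 4 * pe 48 ∧ pe 48 * pe 16 * pe 48 = (pe 16)⁻¹ ∧ pe 48 * pe 48 = 1 ∧
    pe 16 * pe 16 * pe 16 = 1 := by decide +kernel

theorem pe_zero' : pe 0 = 1 := by decide +kernel

theorem three_on_five : ∀ p : Equiv.Perm (Fin 5), p * p * p = 1 → p 0 = 0 → ∃ i : Fin 5, i ≠ 0 ∧ p i = i := by
  decide +kernel

theorem two_on_five : ∀ p : Equiv.Perm (Fin 5), p * p = 1 → ∃ i : Fin 5, p i = i := by decide +kernel

/-- The bound for the number of preimages. -/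
def bound (p : Equiv.Perm (Fin 5)) : ℕ := if p.support.card = 4 then 1 else 2

theorem bound_sum : ((Finset.univ : Finset (Equiv.Perm (Fin 5))).filter fun p => p * p = 1 ∧ p 0 ≠ 0).sum bound = 20 := by
  decide +kernel

theorem count_all : ((List.range 96).filter fun _ => true).length = 96 := by decide +kernel

namespace Model

variable {G : Type*} [Group G] [Finite G] {S : St G} (M : Model S)

/-- The coset of the subgroup itself. -/
def o : G ⧸ M.G0 := ((1 : G) : G ⧸ M.G0)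

theorem smul_o (g : G) : g • M.o = ((g : G) : G ⧸ M.G0) := by
  rw [o, MulAction.Quotient.smul_coe, smul_eq_mul, mul_one]

theorem fix_o (g : G) : g • M.o = M.o ↔ g ∈ M.G0 := by
  rw [smul_o, o, QuotientGroup.eq, mul_one, inv_mem_iff]

theorem fix_coe (a g : G) : a • ((g : G) : G ⧸ M.G0) = ((g : G) : G ⧸ M.G0) ↔ g⁻¹ * a * g ∈ M.G0 := by
  rw [MulAction.Quotient.smul_coe, smul_eq_mul, QuotientGroup.eq, ← inv_mem_iff]
  simp [mul_assoc]

/-- An involution moving eight points fixes only the coset of the subgroup. -/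
theorem sigma_fix {π : P8} (h2 : π * π = 1) (h0 : nfix π = 0) {ω : G ⧸ M.G0} (h : M.E π • ω = ω) : ω = M.o := by
  induction ω using QuotientGroup.induction_on with
  | H g =>
    rw [M.fix_coe] at h
    obtain ⟨a, ha, hae⟩ := M.exists_of_zero h2 h0
    have h1 : g⁻¹ * a ∈ M.G0 := M.key (by
      rw [show g⁻¹ * a * S.s * (g⁻¹ * a)⁻¹ = g⁻¹ * (a * S.s * a⁻¹) * g by group, hae]; exact h)
    have h2 : g⁻¹ ∈ M.G0 := by have := mul_mem h1 (inv_mem ha); rwa [mul_inv_cancel_right] at this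
    rw [← M.smul_o, M.fix_o]
    exact inv_mem_iff.1 h2

/-- The cosets fixed by `u`. -/
abbrev X : Set (G ⧸ M.G0) := MulAction.orbit M.H M.o

theorem fix_u (ω : G ⧸ M.G0) : M.u • ω = ω ↔ ω ∈ M.X := by
  constructor
  · induction ω using QuotientGroup.induction_on with
    | H g =>
      intro h
      obtain ⟨π, hπ, he⟩ := (M.fix_coe _ _).1 h
      obtain ⟨h2, h4⟩ := M.nfix_of_conj_u hπ (g := g⁻¹) (by rw [he, inv_inv])
      obtain ⟨a, ha, hae⟩ := M.exists_of_four h2 h4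
      have hga : g * a ∈ M.H := M.mem_H.2 (by
        show g * a * M.u = M.u * (g * a)
        calc g * a * M.u = g * (a * M.u * a⁻¹) * a := by group
          _ = g * (g⁻¹ * M.u * g) * a := by rw [hae, he]
          _ = M.u * (g * a) := by group)
      refine ⟨⟨g * a, hga⟩, ?_⟩
      show (g * a) • M.o = _
      rw [mul_smul, (M.fix_o a).2 ha, M.smul_o]
  · rintro ⟨h, rfl⟩
    show M.u • ((h : G) • M.o) = (h : G) • M.o
    rw [← mul_smul, ← (M.mem_H.1 h.2).eq, mul_smul, (M.fix_o M.u).2 M.u_mem]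

theorem card_X : Nat.card M.X * 96 = Nat.card M.H := by
  have hstab : MulAction.stabilizer M.H M.o = M.G0.subgroupOf M.H := by
    ext h
    exact M.fix_o (h : G)
  have hcard : Nat.card (M.G0.subgroupOf M.H) = 96 := by
    rw [← Subgroup.card_subtype M.H, ← Subgroup.inf_subgroupOf_right,
      Subgroup.map_subgroupOf_eq_of_le inf_le_right]
    exact (M.card_codes (M.G0 ⊓ M.H) (fun _ => true) fun x => ⟨fun ⟨h1, h2⟩ => by
      obtain ⟨k, hk, hke⟩ := M.exists_el h1 (M.mem_H.1 h2)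
      exact ⟨k, hk, rfl, hke⟩, fun ⟨k, hk, _, hke⟩ => hke ▸ ⟨M.el_mem hk, M.el_mem_H hk⟩⟩).trans count_all
  have h := (MulAction.stabilizer M.H M.o).card_mul_index
  rw [hstab, hcard, ← hstab, MulAction.index_stabilizer] at h
  rw [← h, X, ← Nat.card_coe_set_eq, mul_comm]

theorem mem_X_smul {g : G} (hg : g ∈ M.H) {ω : G ⧸ M.G0} (hω : ω ∈ M.X) : g • ω ∈ M.X := by
  obtain ⟨h, rfl⟩ := hω
  exact ⟨⟨g, hg⟩ * h, mul_smul g (h : G) M.o⟩

theorem o_mem_X : M.o ∈ M.X := MulAction.mem_orbit_self _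

theorem bb (b : Fin 4) : M.el (4 * b.1) * M.el (4 * b.1) = 1 := by
  rw [el, ← M.map_mul (pe_sign _ (by omega)) (pe_sign _ (by omega)), (w_check _ (by omega)).1, M.E_one]

theorem b_free {ω : G ⧸ M.G0} (hω : ω ∈ M.X) (hne : ω ≠ M.o) {b : Fin 4} (h : M.el (4 * b.1) • ω = ω) : b = 0 := by
  by_contra hb
  refine hne (M.sigma_fix (ub_facts b hb).2 (ub_facts b hb).1 ?_)
  rw [M.map_mul mu_facts.2.2.2.1 (pe_sign _ (by omega)), mul_smul]
  show M.u • M.el (4 * b.1) • ω = ω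
  rw [h, (M.fix_u ω).2 hω]

theorem b_inj {ω : G ⧸ M.G0} (hω : ω ∈ M.X) (hne : ω ≠ M.o) {a b : Fin 4}
    (h : M.el (4 * a.1) • ω = M.el (4 * b.1) • ω) : a = b := by
  obtain ⟨c, hc⟩ := b_closed b a
  have hcc : M.el (4 * b.1) * M.el (4 * a.1) = M.el (4 * c.1) :=
    (M.el_mul_eq (by omega) (by omega) (by omega)).2 hc
  have hc0 : c = 0 := M.b_free hω hne (by rw [← hcc, mul_smul, h, ← mul_smul, M.bb, one_smul])
  refine (b_zero b a ?_).symm
  rw [hc, hc0]
  exact pe_zero'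

/-- The action of the centraliser of `u` on its five cosets. -/
theorem exists_psi (h480 : Nat.card M.H = 480) : ∃ ψ : M.H →* Equiv.Perm (Fin 5),
    (∀ h : M.H, ψ h 0 = 0 ↔ (h : G) ∈ M.G0) ∧ (∀ i, ∃ h : M.H, ψ h 0 = i) ∧
    (∀ h : M.H, ψ h = 1 → ∃ f < 4, M.el f = h) ∧
    (∀ (k : ℕ) (hk : k < 96), isMu (pe k) = true → 16 ≤ k → (ψ ⟨M.el k, M.el_mem_H hk⟩).support.card ≤ 2) ∧
    (∀ (k : ℕ) (hk : k < 4), ψ ⟨M.el k, M.el_mem_H (by omega)⟩ = 1) := by
  classical
  have hX5 : Nat.card M.X = 5 := by have := M.card_X; omega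
  obtain ⟨ι, hι⟩ : ∃ ι : M.X ≃ Fin 5, ι ⟨M.o, M.o_mem_X⟩ = 0 := by
    let ι := Finite.equivFinOfCardEq hX5
    exact ⟨ι.trans (Equiv.swap (ι ⟨M.o, M.o_mem_X⟩) 0), Equiv.swap_apply_left _ _⟩
  let ψ : M.H →* Equiv.Perm (Fin 5) :=
    ι.permCongrHom.toMonoidHom.comp (MulAction.toPermHom M.H (MulAction.orbit M.H M.o))
  have hψ : ∀ (h : M.H) (x : M.X), ψ h (ι x) = ι ⟨(h : G) • x.1, M.mem_X_smul h.2 x.2⟩ := by
    intro h x
    show ι.permCongr (MulAction.toPerm h) (ι x) = _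
    rw [Equiv.permCongr_apply, Equiv.symm_apply_apply]
    rfl
  have hfix : ∀ (h : M.H) (x : M.X), ψ h (ι x) = ι x ↔ (h : G) • x.1 = x.1 := by
    intro h x
    rw [hψ, EmbeddingLike.apply_eq_iff_eq]
    exact Subtype.ext_iff
  have h0 : ∀ h : M.H, ψ h 0 = 0 ↔ (h : G) ∈ M.G0 := fun h => by rw [← hι, hfix, M.fix_o]
  obtain ⟨ω1, hω1, hω1o, hγω1⟩ : ∃ ω ∈ M.X, ω ≠ M.o ∧ M.el 16 • ω = ω := by
    set γ : M.H := ⟨M.el 16, M.el_mem_H (by norm_num)⟩
    have h3 : γ * γ * γ = 1 := Subtype.ext (by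
      show M.el 16 * M.el 16 * M.el 16 = 1
      rw [el, ← M.map_mul (pe_sign 16 (by norm_num)) (pe_sign 16 (by norm_num)),
        ← M.map_mul (by simp [pe_sign 16 (by norm_num)]) (pe_sign 16 (by norm_num)), tau_comm.2.2.2, M.E_one])
    obtain ⟨i, hi0, hi⟩ := three_on_five (ψ γ) (by rw [← _root_.map_mul ψ, ← _root_.map_mul ψ, h3, _root_.map_one])
      ((h0 γ).2 (M.el_mem (by norm_num)))
    refine ⟨(ι.symm i).1, (ι.symm i).2, fun e => hi0 ?_, ?_⟩
    · rw [← hι, ← ι.apply_symm_apply i]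
      exact congrArg ι (Subtype.ext e)
    · have := (hfix γ (ι.symm i)).1 (by rw [Equiv.apply_symm_apply]; exact hi)
      exact this
  have hb_ne : ∀ b : Fin 4, M.el (4 * b.1) • ω1 ≠ M.o := fun b e => hω1o (by
    calc ω1 = M.el (4 * b.1) • M.el (4 * b.1) • ω1 := by rw [← mul_smul, M.bb, one_smul]
      _ = M.o := by rw [e, (M.fix_o _).2 (M.el_mem (by omega))])
  have hcover : ∀ ω ∈ M.X, ω ≠ M.o → ∃ b : Fin 4, M.el (4 * b.1) • ω1 = ω := by
    let F : Option (Fin 4) → M.X := fun o' => o'.elim ⟨M.o, M.o_mem_X⟩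
      fun b => ⟨M.el (4 * b.1) • ω1, M.mem_X_smul (M.el_mem_H (by omega)) hω1⟩
    have hinj : Function.Injective F := by
      intro a b e
      have e' := congrArg Subtype.val e
      cases a <;> cases b
      · rfl
      · exact absurd e'.symm (hb_ne _)
      · exact absurd e' (hb_ne _)
      · exact congrArg some (M.b_inj hω1 hω1o e')
    have hbij : Function.Bijective F := (Nat.bijective_iff_injective_and_card F).2
      ⟨hinj, by rw [hX5, Finite.card_option, Nat.card_fin]⟩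
    intro ω hω hne
    obtain ⟨a, ha⟩ := hbij.2 ⟨ω, hω⟩
    cases a
    · exact absurd (congrArg Subtype.val ha).symm hne
    · exact ⟨_, congrArg Subtype.val ha⟩
  have huniq : ∀ b : Fin 4, M.el 16 • M.el (4 * b.1) • ω1 = M.el (4 * b.1) • ω1 → b = 0 := by
    intro b e
    obtain ⟨b', hb'⟩ := b_normal 16 (by norm_num) b
    have h1 : M.el 16 * M.el (4 * b.1) * (M.el 16)⁻¹ = M.el (4 * b'.1) := by
      rw [M.el_conj (by norm_num) (by omega), hb']; rfl
    have h2 : M.el (4 * b'.1) • ω1 = M.el (4 * b.1) • ω1 := by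
      rw [← h1, mul_smul, mul_smul, show (M.el 16)⁻¹ • ω1 = ω1 by rw [inv_smul_eq_iff, hγω1], e]
    by_contra hb
    refine b_gm b hb ?_
    rw [← M.b_inj hω1 hω1o h2.symm] at hb'
    exact mul_inv_eq_iff_eq_mul.1 hb'
  have hF : ∀ f < 4, ∀ ω ∈ M.X, M.el f • ω = ω := by
    intro f hf
    have hcomm : ∀ b : Fin 4, M.el f * M.el (4 * b.1) = M.el (4 * b.1) * M.el f := fun b =>
      ((M.el_commute_iff (by omega) (by omega)).2 ((f_comm f hf).2 b)).eq
    have hfm : M.el f • ω1 ∈ M.X := M.mem_X_smul (M.el_mem_H (by omega)) hω1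
    have hfo : M.el f • ω1 ≠ M.o := fun e => hω1o (by
      rwa [← (M.fix_o (M.el f)).2 (M.el_mem (by omega)), smul_left_cancel_iff] at e)
    obtain ⟨b, hb⟩ := hcover _ hfm hfo
    have hb0 : b = 0 := huniq b (by
      rw [hb, ← mul_smul, ((M.el_commute_iff (by norm_num) (by omega)).2 (f_comm f hf).1.symm).eq, mul_smul, hγω1])
    have h1 : M.el f • ω1 = ω1 := by
      rw [← hb, hb0, show M.el (4 * (0 : Fin 4).1) = 1 from M.el_zero', one_smul]
    intro ω hω
    by_cases hne : ω = M.o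
    · rw [hne, M.fix_o]; exact M.el_mem (by omega)
    · obtain ⟨b', rfl⟩ := hcover ω hω hne
      rw [← mul_smul, hcomm, mul_smul, h1]
  refine ⟨ψ, h0, ?_, ?_, ?_, ?_⟩
  · intro i
    obtain ⟨h, hh⟩ := (ι.symm i).2
    refine ⟨h, ?_⟩
    rw [← hι, hψ, ← ι.apply_symm_apply i]
    exact congrArg ι (Subtype.ext hh)
  · intro h hh
    have hfx : ∀ ω ∈ M.X, (h : G) • ω = ω := fun ω hω => by
      have := (hfix h ⟨ω, hω⟩).1 (by rw [hh]; rfl)
      exact this
    obtain ⟨k, hk, hke⟩ := M.exists_el ((M.fix_o _).1 (hfx _ M.o_mem_X)) (M.mem_H.1 h.2)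
    rw [← hke] at hfx
    have hfix' : ∀ b : Fin 4, pe k * pe (4 * b.1) = pe (4 * b.1) * pe k := by
      intro b
      obtain ⟨b', hb'⟩ := b_normal k hk b
      have h1 : M.el k * M.el (4 * b.1) * (M.el k)⁻¹ = M.el (4 * b'.1) := by
        rw [M.el_conj hk (by omega), hb']; rfl
      have hbX : M.el (4 * b.1) • ω1 ∈ M.X := M.mem_X_smul (M.el_mem_H (by omega)) hω1
      have h2 : M.el (4 * b'.1) • ω1 = M.el (4 * b.1) • ω1 := by
        rw [← h1, mul_smul, mul_smul, show (M.el k)⁻¹ • ω1 = ω1 by rw [inv_smul_eq_iff, hfx _ hω1],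
          hfx _ hbX]
      rw [← M.b_inj hω1 hω1o h2.symm] at hb'
      exact mul_inv_eq_iff_eq_mul.1 hb'
    have hk16 : k < 16 := pe_bottom k hk
      ⟨gm_tau.2.2.2.2.1 ▸ hfix' 1, gm_tau.2.2.2.2.2.1 ▸ hfix' 2⟩
    have hsplit : M.el k = M.el (k % 4) * M.el (4 * (k / 4)) :=
      ((M.el_mul_eq (by omega) (by omega) hk).2 (w_split k hk16).symm).symm
    have hb : (⟨k / 4, by omega⟩ : Fin 4) = 0 := M.b_free hω1 hω1o (by
      have := hfx ω1 hω1
      rw [hsplit, mul_smul] at this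
      rwa [hF _ (by omega) _ (M.mem_X_smul (M.el_mem_H (by omega)) hω1)] at this)
    exact ⟨k, by have := congrArg Fin.val hb; simp at this; omega, hke⟩
  · intro k hk hmu hk16
    obtain ⟨c, f, hcf⟩ := tau_class k hk hmu hk16
    have hk' : M.el k = M.el c.1 * M.el 48 * (M.el c.1)⁻¹ * M.el f.1 := by
      rw [M.el_conj c.2 (by norm_num), el, el, hcf, gm_tau.2.1,
        M.map_mul (by simp [gm_tau.2.1 ▸ pe_sign 48 (by norm_num)]) (pe_sign _ (by omega))]
    have hτ : M.el 48 • ω1 = ω1 := by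
      have hτX : M.el 48 • ω1 ∈ M.X := M.mem_X_smul (M.el_mem_H (by norm_num)) hω1
      have hτo : M.el 48 • ω1 ≠ M.o := fun e => hω1o (by
        rwa [← (M.fix_o (M.el 48)).2 (M.el_mem (by norm_num)), smul_left_cancel_iff] at e)
      have hττ : M.el 48 * M.el 48 = 1 := by
        rw [el, ← M.map_mul (pe_sign 48 (by norm_num)) (pe_sign 48 (by norm_num)), tau_comm.2.2.1, M.E_one]
      have hinv : M.el 48 * M.el 16 * M.el 48 = (M.el 16)⁻¹ := by
        rw [el, el, ← M.map_mul (pe_sign 48 (by norm_num)) (pe_sign 16 (by norm_num)),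
          ← M.map_mul (by simp [pe_sign 48 (by norm_num), pe_sign 16 (by norm_num)]) (pe_sign 48 (by norm_num)),
          tau_comm.2.1, M.E_inv (pe_sign 16 (by norm_num))]
      obtain ⟨b, hb⟩ := hcover _ hτX hτo
      have hb0 : b = 0 := huniq b (by
        rw [hb, ← mul_smul]
        calc (M.el 16 * M.el 48) • ω1 = (M.el 48 * (M.el 48 * M.el 16 * M.el 48)) • ω1 := by
              rw [← mul_assoc, ← mul_assoc, hττ, one_mul]
          _ = M.el 48 • ω1 := by rw [hinv, mul_smul, show (M.el 16)⁻¹ • ω1 = ω1 by rw [inv_smul_eq_iff, hγω1]])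
      rw [← hb, hb0, show M.el (4 * (0 : Fin 4).1) = 1 from M.el_zero', one_smul]
    have hβ : M.el 48 • M.el (4 * (1 : Fin 4).1) • ω1 = M.el (4 * (1 : Fin 4).1) • ω1 := by
      rw [← mul_smul, show M.el 48 * M.el (4 * (1 : Fin 4).1) = M.el (4 * (1 : Fin 4).1) * M.el 48 from
        ((M.el_commute_iff (by norm_num) (by norm_num)).2 tau_comm.1).eq, mul_smul, hτ]
    have hτfix : ∀ ω ∈ ({M.o, ω1, M.el (4 * (1 : Fin 4).1) • ω1} : Set (G ⧸ M.G0)),
        ω ∈ M.X ∧ M.el 48 • ω = ω := by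
      rintro ω (rfl | rfl | rfl)
      · exact ⟨M.o_mem_X, (M.fix_o _).2 (M.el_mem (by norm_num))⟩
      · exact ⟨hω1, hτ⟩
      · exact ⟨M.mem_X_smul (M.el_mem_H (by norm_num)) hω1, hβ⟩
    let P : Fin 3 → G ⧸ M.G0 := ![M.o, ω1, M.el (4 * (1 : Fin 4).1) • ω1]
    have hP : ∀ i, P i ∈ ({M.o, ω1, M.el (4 * (1 : Fin 4).1) • ω1} : Set (G ⧸ M.G0)) := fun i => by
      fin_cases i <;> simp [P]
    have hcX : ∀ i, M.el c.1 • P i ∈ M.X := fun i => M.mem_X_smul (M.el_mem_H c.2) (hτfix _ (hP i)).1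
    let T : Fin 3 → Fin 5 := fun i => ι ⟨M.el c.1 • P i, hcX i⟩
    have hT : ∀ i, ψ ⟨M.el k, M.el_mem_H hk⟩ (T i) = T i := fun i => (hfix _ _).2 (by
      show M.el k • M.el c.1 • P i = M.el c.1 • P i
      rw [hk', mul_smul, hF _ f.2 _ (hcX i), ← mul_smul, inv_mul_cancel_right, mul_smul, (hτfix _ (hP i)).2])
    have hTinj : Function.Injective T := by
      intro i j e
      have e' : P i = P j := smul_left_cancel _ (congrArg Subtype.val (ι.injective e))
      have h01 : M.o ≠ ω1 := Ne.symm hω1o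
      have h02 : M.o ≠ M.el (4 * (1 : Fin 4).1) • ω1 := (hb_ne 1).symm
      have h12 : ω1 ≠ M.el (4 * (1 : Fin 4).1) • ω1 := fun h => absurd (M.b_free hω1 hω1o h.symm) (by decide)
      fin_cases i <;> fin_cases j <;> first | rfl | (exfalso; simp [P] at e' <;>
        first | exact h01 e' | exact h01 e'.symm | exact h02 e' | exact h02 e'.symm | exact h12 e' | exact h12 e'.symm)
    have hle : (ψ ⟨M.el k, M.el_mem_H hk⟩).support ⊆ Finset.univ \ Finset.univ.image T := by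
      intro x hx
      simp only [Finset.mem_sdiff, Finset.mem_univ, true_and, Finset.mem_image, not_exists]
      intro i hi
      exact (Equiv.Perm.mem_support.1 hx) (hi ▸ hT i)
    refine (Finset.card_le_card hle).trans ?_
    rw [Finset.card_univ_sdiff, Finset.card_image_of_injective _ hTinj, Finset.card_fin, Fintype.card_fin]
  · intro k hk
    refine Equiv.ext fun i => ?_
    rw [← ι.apply_symm_apply i, Equiv.Perm.one_apply]
    exact (hfix _ _).2 (hF k hk _ (ι.symm i).2)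

/-- The conjugates of `u` outside the subgroup commuting with a given element. -/
def U (v : G) : Set G := {q | IsConj M.u q ∧ Commute q v ∧ q ∉ M.G0}

/-- There are at most twenty conjugates of `u` outside the subgroup commuting with `u`. -/
theorem card_U (h480 : Nat.card M.H = 480) : (M.U M.u).ncard ≤ 20 := by
  classical
  haveI := Fintype.ofFinite G
  obtain ⟨ψ, h0, htr, hker, hthree, hlow⟩ := M.exists_psi h480
  let p : G → Equiv.Perm (Fin 5) := fun q => if h : q ∈ M.H then ψ ⟨q, h⟩ else 1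
  have hp : ∀ q (h : q ∈ M.H), p q = ψ ⟨q, h⟩ := fun q h => by simp only [p, dif_pos h]
  have hmemU : ∀ q ∈ (M.U M.u).toFinset, q ∈ M.H ∧ IsConj M.u q ∧ q ∉ M.G0 ∧ q * q = 1 := by
    intro q hq
    obtain ⟨h1, h2, h3⟩ := Set.mem_toFinset.1 hq
    obtain ⟨g, hg⟩ := isConj_iff.1 h1
    refine ⟨M.mem_H.2 h2, h1, h3, ?_⟩
    rw [← hg, show g * M.u * g⁻¹ * (g * M.u * g⁻¹) = g * (M.u * M.u) * g⁻¹ by group, M.uu]; group
  set T := (Finset.univ : Finset (Equiv.Perm (Fin 5))).filter fun p => p * p = 1 ∧ p 0 ≠ 0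
  have hmaps : Set.MapsTo p ↑(M.U M.u).toFinset ↑T := by
    intro q hq
    obtain ⟨hH, -, hn, hqq⟩ := hmemU q hq
    rw [Finset.mem_coe, Finset.mem_filter, hp q hH]
    refine ⟨Finset.mem_univ _, ?_, fun e => hn ((h0 _).1 e)⟩
    rw [← _root_.map_mul, show (⟨q, hH⟩ : M.H) * ⟨q, hH⟩ = 1 from Subtype.ext hqq, _root_.map_one]
  rw [Set.ncard_eq_toFinset_card', Finset.card_eq_sum_card_fiberwise hmaps, ← bound_sum]
  refine Finset.sum_le_sum fun π hπ => ?_
  obtain ⟨-, hπ2, hπ0⟩ := Finset.mem_filter.1 hπ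
  rcases Finset.eq_empty_or_nonempty ((M.U M.u).toFinset.filter fun q => p q = π) with he | ⟨q0, hq0⟩
  · rw [he]; simp
  obtain ⟨hq0U, hq0π⟩ := Finset.mem_filter.1 hq0
  obtain ⟨hq0H, hq0c, -, hq0q⟩ := hmemU q0 hq0U
  obtain ⟨i, hi⟩ := two_on_five π hπ2
  obtain ⟨h, hh⟩ := htr i
  set Q0 : M.H := h⁻¹ * ⟨q0, hq0H⟩ * h with hQ0
  have hψQ : ψ Q0 = (ψ h)⁻¹ * π * ψ h := by rw [hQ0, _root_.map_mul, _root_.map_mul, _root_.map_inv, ← hp q0 hq0H, hq0π]
  have hQG : (Q0 : G) ∈ M.G0 := (h0 Q0).1 (by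
    rw [hψQ, Equiv.Perm.mul_apply, Equiv.Perm.mul_apply, hh, hi, ← hh]
    exact (ψ h).symm_apply_apply 0)
  obtain ⟨k, hk, hke⟩ := M.exists_el hQG (M.mem_H.1 Q0.2)
  have hkQ : (⟨M.el k, M.el_mem_H hk⟩ : M.H) = Q0 := Subtype.ext hke
  obtain ⟨g0, hg0⟩ := isConj_iff.1 hq0c
  have hmu : isMu (pe k) = true := by
    obtain ⟨h2, h4⟩ := M.nfix_of_conj_u (pe_sign k hk) (g := (h : G)⁻¹ * g0) (by
      show _ = M.el k
      rw [hke, hQ0, Subgroup.coe_mul, Subgroup.coe_mul, Subgroup.coe_inv]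
      show _ = (h : G)⁻¹ * q0 * (h : G)
      rw [← hg0]; group)
    simp [isMu, h2, h4]
  have hk4 : 4 ≤ k := by
    by_contra hc
    have h1 : ψ Q0 = 1 := hkQ ▸ hlow k (by omega)
    rw [hψQ] at h1
    have h2 : π = 1 := by
      calc π = ψ h * ((ψ h)⁻¹ * π * ψ h) * (ψ h)⁻¹ := by group
        _ = 1 := by rw [h1]; group
    exact hπ0 (by rw [h2]; rfl)
  let L := (List.range 4).filter fun f => isMu (pe k * pe f)
  have hsub : ((M.U M.u).toFinset.filter fun q => p q = π) ⊆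
      L.toFinset.image fun f => (h : G) * (M.el k * M.el f) * (h : G)⁻¹ := by
    intro q hq
    obtain ⟨hqU, hqπ⟩ := Finset.mem_filter.1 hq
    obtain ⟨hqH, hqc, -, -⟩ := hmemU q hqU
    obtain ⟨f, hf, hfe⟩ := hker (Q0⁻¹ * (h⁻¹ * ⟨q, hqH⟩ * h)) (by
      rw [_root_.map_mul, _root_.map_inv, hψQ, _root_.map_mul, _root_.map_mul, _root_.map_inv, ← hp q hqH, hqπ]; group)
    have hqe : q = (h : G) * (M.el k * M.el f) * (h : G)⁻¹ := by
      rw [hfe, hke]
      simp only [Subgroup.coe_mul, Subgroup.coe_inv]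
      group
    refine Finset.mem_image.2 ⟨f, List.mem_toFinset.2 (List.mem_filter.2 ⟨List.mem_range.2 hf, ?_⟩), hqe.symm⟩
    obtain ⟨g, hg⟩ := isConj_iff.1 hqc
    have hs : sign (pe k * pe f) = 1 := by simp [pe_sign k hk, pe_sign f (show f < 96 by omega)]
    obtain ⟨h2, h4⟩ := M.nfix_of_conj_u hs (g := (h : G)⁻¹ * g) (by
      rw [M.map_mul (pe_sign k hk) (pe_sign f (by omega))]
      show _ = M.el k * M.el f
      calc (h : G)⁻¹ * g * M.u * ((h : G)⁻¹ * g)⁻¹ = (h : G)⁻¹ * (g * M.u * g⁻¹) * (h : G) := by group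
        _ = M.el k * M.el f := by rw [hg, hqe]; group)
    simp [isMu, h2, h4]
  refine (Finset.card_le_card hsub).trans (Finset.card_image_le.trans ((List.toFinset_card_le L).trans
    ((fibre k hk hmu hk4).trans ?_)))
  unfold bound
  by_cases h16 : k < 16
  · rw [if_pos h16]; split_ifs <;> omega
  · have hs := hthree k hk hmu (by omega)
    rw [hkQ, hψQ] at hs
    have hc : ((ψ h)⁻¹ * π * ψ h).support.card = π.support.card := by
      conv_lhs => rw [show ψ h = ((ψ h)⁻¹)⁻¹ from (inv_inv _).symm, inv_inv ((ψ h)⁻¹)]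
      exact Equiv.Perm.card_support_conj
    rw [hc] at hs
    rw [if_neg h16, if_neg (by omega)]

/-- The bound holds for every conjugate of `u` in the subgroup. -/
theorem card_U_mu (h480 : Nat.card M.H = 480) {π : P8} (h2 : π * π = 1) (h4 : nfix π = 4) :
    (M.U (M.E π)).ncard ≤ 20 := by
  obtain ⟨a, ha, hae⟩ := M.exists_of_four h2 h4
  have hsub : M.U (M.E π) ⊆ (fun q => a * q * a⁻¹) '' M.U M.u := by
    rintro q ⟨h1, h2', h3⟩
    refine ⟨a⁻¹ * q * a, ⟨h1.trans (isConj_iff.2 ⟨a⁻¹, by rw [inv_inv]⟩), ?_, fun h => h3 ?_⟩, by group⟩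
    · rw [← hae] at h2'
      have := h2'.map (MulAut.conj a⁻¹).toMonoidHom
      simpa [mul_assoc] using this
    · have := mul_mem (mul_mem ha h) (inv_mem ha)
      simpa [mul_assoc] using this
  exact (Set.ncard_le_ncard hsub (Set.toFinite _)).trans
    ((Set.ncard_image_le (Set.toFinite _)).trans (M.card_U h480))

end Model

end CfsgLib.Recognition.ExtraspecialThirtyTwo.AltCase.Final
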