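import Mathlib

/-!
# The centraliser of `(01)(23)` in the alternating group of degree eight
-/

set_option autoImplicit false
set_option maxRecDepth 40000
set_option linter.unusedVariables false
set_option linter.style.haveILetI false

namespace CfsgLib.Recognition.ExtraspecialThirtyTwo.AltCase.Final

open Equiv Equiv.Perm

/-- Permutations of eight points. -/
abbrev P8 := Equiv.Perm (Fin 8)

/-- The involution moving four points. -/
def mu0 : P8 := swap 0 1 * swap 2 3

/-- Its companion on the same points. -/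
def mu1 : P8 := swap 0 2 * swap 1 3

/-- The first involution on the other points. -/
def bt0 : P8 := swap 4 5 * swap 6 7

/-- The second one. -/
def bt1 : P8 := swap 4 6 * swap 5 7

/-- The element of order three. -/
def gm : P8 := swap 4 5 * swap 5 6

/-- The mixed involution. -/
def tau : P8 := swap 2 3 * swap 4 5

/-- The involution without fixed points. -/
def sg : P8 := mu0 * bt0

/-- A power with exponent zero or one. -/
def pb (b : Bool) (π : P8) : P8 := bif b then π else 1

/-- The elements of the centraliser. -/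
def pe (k : ℕ) : P8 :=
  pb (k.testBit 0) mu0 * pb (k.testBit 1) mu1 * pb (k.testBit 2) bt0 * pb (k.testBit 3) bt1 *
    gm ^ (k / 16 % 3) * pb (decide (48 ≤ k)) tau

/-- A number for a permutation. -/
def enc (π : P8) : ℕ :=
  (π 0).val + 8 * ((π 1).val + 8 * ((π 2).val + 8 * ((π 3).val + 8 * ((π 4).val +
    8 * ((π 5).val + 8 * ((π 6).val + 8 * (π 7).val))))))

/-- The number of fixed points. -/
def nfix (π : P8) : ℕ := (List.finRange 8).countP fun i => decide (π i = i)

/-- Whether the involution moves four points. -/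
def isMu (π : P8) : Bool := Nat.beq (nfix π) 4 && decide (π * π = 1)

theorem pe_comm : ∀ k < 96, pe k * mu0 = mu0 * pe k := by decide +kernel

theorem pe_sign : ∀ k < 96, Equiv.Perm.sign (pe k) = 1 := by decide +kernel

theorem pe_enc : ((List.range 96).map fun k => enc (pe k)).Nodup := by decide +kernel

theorem pe_sigma : ∀ k < 96, (pe k * sg = sg * pe k ↔ k / 16 % 3 = 0) := by decide +kernel

theorem pe_w : ∀ k < 96,
    (pe k * mu1 = mu1 * pe k ∧ pe k * bt0 = bt0 * pe k ∧ pe k * bt1 = bt1 * pe k) ↔ k < 16 := by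
  decide +kernel

theorem pe_bottom : ∀ k < 96, (pe k * bt0 = bt0 * pe k ∧ pe k * bt1 = bt1 * pe k → k < 16) := by decide +kernel

theorem w_check : ∀ k < 16, pe k * pe k = 1 ∧ ∀ l < 16, pe k * pe l = pe l * pe k := by decide +kernel

/-- The projection of the elementary group of order sixteen to its part on the first four points. -/
def proj (π : P8) : Multiplicative (ZMod 2 × ZMod 2) :=
  Multiplicative.ofAdd ((if (π 0).val % 2 = 1 then 1 else 0), (if (π 0).val / 2 = 1 then 1 else 0))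

theorem proj_mul : ∀ k < 16, ∀ l < 16, proj (pe k * pe l) = proj (pe k) * proj (pe l) := by decide +kernel

theorem proj_inv : ∀ k < 48, ∀ l < 16, proj (pe k * pe l * (pe k)⁻¹) = proj (pe l) := by decide +kernel

theorem proj_one : ∀ k < 16, (proj (pe k) = 1 ↔ k % 4 = 0) := by decide +kernel

theorem proj_onto : ∀ a : ZMod 2 × ZMod 2, ∃ k : Fin 4, proj (pe k.1) = Multiplicative.ofAdd a := by decide +kernel

theorem low_gen : ∀ k < 48, pe k = pe (k % 16) * gm ^ (k / 16) := by decide +kernel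

theorem high_gen : ∀ k < 48, pe (k + 48) = pe k * tau := by decide +kernel

theorem gm_tau : pe 16 = gm ∧ pe 48 = tau ∧ pe 1 = mu0 ∧ pe 5 = sg ∧ pe 4 = bt0 ∧ pe 8 = bt1 ∧ pe 12 = bt0 * bt1 := by
  decide +kernel

theorem r_conj : ∀ k < 96, 16 ≤ k → k / 16 % 3 = 0 → pe k * pe k = 1 →
    ((List.range 96).any fun r => Nat.beq (r / 16 % 3) 0 && decide (pe r * tau * (pe r)⁻¹ = pe k)) = true := by
  decide +kernel

theorem a_check : ∀ k < 96, pe k * tau = tau * pe k → pe k * sg = sg * pe k →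
    (pe k * pe k = 1 ∧ (nfix (pe k) = 0 → pe k = sg)) := by decide +kernel

theorem a_count : ((List.range 96).filter fun k =>
    decide (pe k * tau = tau * pe k) && decide (pe k * sg = sg * pe k)).length = 8 := by decide +kernel

theorem b_check : ∀ b : Fin 3, nfix (mu0 * pe (4 * (b.1 + 1))) = 0 ∧
    pe (4 * (b.1 + 1)) * pe (4 * (b.1 + 1)) = 1 ∧ nfix (pe (4 * (b.1 + 1))) = 4 ∧
    gm * pe (4 * (b.1 + 1)) ≠ pe (4 * (b.1 + 1)) * gm := by decide +kernel

theorem f_check : ∀ f < 4, pe f * gm = gm * pe f ∧ pe f * bt0 = bt0 * pe f ∧ pe f * bt1 = bt1 * pe f := by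
  decide +kernel

theorem b_normal : ∀ k < 96, ∀ b : Fin 4, ∃ b' : Fin 4, pe k * pe (4 * b.1) * (pe k)⁻¹ = pe (4 * b'.1) := by
  decide +kernel

theorem gm_conj_b : ∀ b : Fin 4, ∃ b' : Fin 4, gm * pe (4 * b.1) * gm⁻¹ = pe (4 * b'.1) := by decide +kernel

theorem b_closed : ∀ a b : Fin 4, ∃ c : Fin 4, pe (4 * a.1) * pe (4 * b.1) = pe (4 * c.1) := by decide +kernel

theorem tau_facts : tau * bt0 = bt0 * tau ∧ tau * gm * tau = gm⁻¹ ∧ gm ^ 3 = 1 ∧ gm ≠ 1 ∧ tau * tau = 1 := by
  decide +kernel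

theorem fibre : ∀ k < 96, isMu (pe k) = true → 4 ≤ k →
    ((List.range 4).filter fun f => isMu (pe k * pe f)).length ≤ (if k < 16 then 1 else 2) := by decide +kernel

theorem tau_class : ∀ k < 96, isMu (pe k) = true → 16 ≤ k →
    ∃ c : Fin 96, ∃ f : Fin 4, pe k = pe c.1 * tau * (pe c.1)⁻¹ * pe f.1 := by decide +kernel

/-- The elements of the regular elementary group of order eight. -/
def e8 (v : Fin 2 × Fin 2 × Fin 2) : P8 :=
  pb (v.1.val == 1) sg * pb (v.2.1.val == 1) (mu1 * bt1) *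
    pb (v.2.2.val == 1) (swap 0 4 * swap 1 5 * swap 2 6 * swap 3 7)

theorem e8_mul : ∀ a b : Fin 2 × Fin 2 × Fin 2, e8 a * e8 b = e8 (a + b) := by decide +kernel

theorem e8_ne : ∀ a : Fin 2 × Fin 2 × Fin 2, a ≠ 0 →
    nfix (e8 a) = 0 ∧ e8 a * e8 a = 1 ∧ Equiv.Perm.sign (e8 a) = 1 := by decide +kernel

/-- The products of two transpositions commuting with `σ`. -/
def around : List ℕ :=
  [(0, 1, 2, 3), (0, 1, 4, 5), (0, 1, 6, 7), (2, 3, 4, 5), (2, 3, 6, 7), (4, 5, 6, 7),
    (0, 2, 1, 3), (0, 3, 1, 2), (0, 4, 1, 5), (0, 5, 1, 4), (0, 6, 1, 7), (0, 7, 1, 6),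
    (2, 4, 3, 5), (2, 5, 3, 4), (2, 6, 3, 7), (2, 7, 3, 6), (4, 6, 5, 7), (4, 7, 5, 6)].map
    fun q : Fin 8 × Fin 8 × Fin 8 × Fin 8 => enc (swap q.1 q.2.1 * swap q.2.2.1 q.2.2.2)

theorem around_len : around.length = 18 := by decide +kernel

theorem around_all : ∀ a b c d : Fin 8, isMu (swap a b * swap c d) = true →
    (swap a b * swap c d) * sg = sg * (swap a b * swap c d) →
    around.contains (enc (swap a b * swap c d)) = true := by decide +kernel

theorem mu_facts : isMu mu0 = true ∧ nfix sg = 0 ∧ sg * sg = 1 ∧ Equiv.Perm.sign mu0 = 1 ∧ Equiv.Perm.sign sg = 1 ∧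
    swap (0 : Fin 8) 1 * mu0 = mu0 * swap 0 1 ∧ swap (0 : Fin 8) 1 * sg = sg * swap 0 1 := by decide +kernel

theorem enc_injective : Function.Injective enc := by
  intro π ρ h
  have key : ∀ a b x y : ℕ, a < 8 → b < 8 → a + 8 * x = b + 8 * y → a = b ∧ x = y := fun a b x y ha hb e => by
    omega
  obtain ⟨e0, h1⟩ := key _ _ _ _ (π 0).isLt (ρ 0).isLt h
  obtain ⟨e1, h2⟩ := key _ _ _ _ (π 1).isLt (ρ 1).isLt h1
  obtain ⟨e2, h3⟩ := key _ _ _ _ (π 2).isLt (ρ 2).isLt h2
  obtain ⟨e3, h4⟩ := key _ _ _ _ (π 3).isLt (ρ 3).isLt h3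
  obtain ⟨e4, h5⟩ := key _ _ _ _ (π 4).isLt (ρ 4).isLt h4
  obtain ⟨e5, h6⟩ := key _ _ _ _ (π 5).isLt (ρ 5).isLt h5
  obtain ⟨e6, e7⟩ := key _ _ _ _ (π 6).isLt (ρ 6).isLt h6
  refine Equiv.ext fun i => Fin.ext ?_
  fin_cases i
  exacts [e0, e1, e2, e3, e4, e5, e6, e7]

theorem pe_inj {k l : ℕ} (hk : k < 96) (hl : l < 96) (h : pe k = pe l) : k = l :=
  List.inj_on_of_nodup_map pe_enc (List.mem_range.2 hk) (List.mem_range.2 hl) (congrArg enc h)

theorem nfix_eq (π : P8) : nfix π = 8 - π.support.card := by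
  have h2 : π.support.card + (Finset.univ.filter fun i => ¬ π i ≠ i).card = 8 := by
    simpa [Equiv.Perm.support] using
      Finset.card_filter_add_card_filter_not (s := (Finset.univ : Finset (Fin 8))) (fun i => π i ≠ i)
  have h1 : nfix π = (Finset.univ.filter fun i => ¬ π i ≠ i).card := by
    simp only [ne_eq, not_not, nfix, List.countP_eq_length_filter]
    rw [← List.toFinset_card_of_nodup ((List.nodup_finRange 8).filter _)]
    congr 1
    ext i
    simp
  omega

/-- An even involution moves four or eight points. -/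
theorem even_involution {π : P8} (h2 : π * π = 1) (h1 : π ≠ 1) (hs : Equiv.Perm.sign π = 1) :
    nfix π = 4 ∨ nfix π = 0 := by
  haveI : Fact (Nat.Prime 2) := ⟨Nat.prime_two⟩
  have hc := Equiv.Perm.cycleType_of_pow_prime_eq_one (σ := π) (p := 2) (by rw [pow_two, h2])
  set m := π.cycleType.card with hm
  have hsum : π.support.card = m * 2 := by
    rw [← Equiv.Perm.sum_cycleType, hc, Multiset.sum_replicate, smul_eq_mul]
  rw [Equiv.Perm.sign_of_cycleType', hc, Multiset.map_replicate, Multiset.prod_replicate] at hs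
  have heven : Even m := by
    by_contra hodd
    rw [Nat.not_even_iff_odd] at hodd
    rw [show (-(-1 : ℤˣ) ^ 2) = -1 by decide, hodd.neg_one_pow] at hs
    exact absurd hs (by decide)
  have hpos : 0 < m := by
    rw [hm, Equiv.Perm.card_cycleType_pos]; exact h1
  have hle : m * 2 ≤ 8 := hsum ▸ π.support.card_le_univ.trans_eq (Fintype.card_fin 8)
  obtain ⟨r, hr⟩ := heven
  rw [nfix_eq, hsum]
  omega

/-- Involutions moving equally many points are conjugate by an even permutation. -/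
theorem exists_even_conj {π ρ : P8} (hπ : π * π = 1) (hρ : ρ * ρ = 1) (hn : nfix π = nfix ρ) {δ : P8}
    (hδ : δ * π = π * δ) (hδs : Equiv.Perm.sign δ = -1) :
    ∃ h : P8, Equiv.Perm.sign h = 1 ∧ h * π * h⁻¹ = ρ := by
  haveI : Fact (Nat.Prime 2) := ⟨Nat.prime_two⟩
  have hc := Equiv.Perm.cycleType_of_pow_prime_eq_one (σ := π) (p := 2) (by rw [pow_two, hπ])
  have hc' := Equiv.Perm.cycleType_of_pow_prime_eq_one (σ := ρ) (p := 2) (by rw [pow_two, hρ])
  have h8 : ∀ ε : P8, ε.support.card ≤ 8 := fun ε => ε.support.card_le_univ.trans_eq (Fintype.card_fin 8)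
  have heq : π.cycleType.sum = ρ.cycleType.sum := by
    rw [Equiv.Perm.sum_cycleType, Equiv.Perm.sum_cycleType]
    rw [nfix_eq, nfix_eq] at hn
    have := h8 π; have := h8 ρ
    omega
  rw [hc, hc', Multiset.sum_replicate, Multiset.sum_replicate, smul_eq_mul, smul_eq_mul] at heq
  have hct : π.cycleType = ρ.cycleType := by
    rw [hc, hc', Nat.eq_of_mul_eq_mul_right (by norm_num) heq]
  obtain ⟨g, hg⟩ := isConj_iff.1 (Equiv.Perm.isConj_iff_cycleType_eq.2 hct)
  rcases Int.units_eq_one_or (Equiv.Perm.sign g) with h | h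
  · exact ⟨g, h, hg⟩
  · refine ⟨g * δ, by rw [map_mul, h, hδs]; decide, ?_⟩
    rw [mul_inv_rev, show g * δ * π * (δ⁻¹ * g⁻¹) = g * (δ * π * δ⁻¹) * g⁻¹ by group, hδ,
      mul_inv_cancel_right, hg]

theorem exists_conj_mu {π : P8} (hπ : π * π = 1) (hn : nfix π = 4) :
    ∃ h : P8, Equiv.Perm.sign h = 1 ∧ h * mu0 * h⁻¹ = π :=
  exists_even_conj (by decide +kernel) hπ (by rw [hn]; decide +kernel) (δ := swap 0 1) mu_facts.2.2.2.2.2.1
    (Equiv.Perm.sign_swap (by decide))

theorem exists_conj_sg {π : P8} (hπ : π * π = 1) (hn : nfix π = 0) :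
    ∃ h : P8, Equiv.Perm.sign h = 1 ∧ h * sg * h⁻¹ = π :=
  exists_even_conj mu_facts.2.2.1 hπ (by rw [hn, mu_facts.2.1]) (δ := swap 0 1) mu_facts.2.2.2.2.2.2
    (Equiv.Perm.sign_swap (by decide))

theorem nfix_conj (h π : P8) : nfix (h * π * h⁻¹) = nfix π := by
  rw [nfix_eq, nfix_eq, Equiv.Perm.card_support_conj]

/-- Involutions moving four points are products of two transpositions. -/
theorem exists_swaps {π : P8} (hπ : π * π = 1) (hn : nfix π = 4) :
    ∃ a b c d : Fin 8, π = swap a b * swap c d := by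
  obtain ⟨h, -, rfl⟩ := exists_conj_mu hπ hn
  refine ⟨h 0, h 1, h 2, h 3, ?_⟩
  rw [mu0, Equiv.swap_apply_apply, Equiv.swap_apply_apply]
  group

theorem mem_around {π : P8} (hπ : π * π = 1) (hn : nfix π = 4) (hc : π * sg = sg * π) : enc π ∈ around := by
  obtain ⟨a, b, c, d, rfl⟩ := exists_swaps hπ hn
  refine List.contains_iff_mem.1 (around_all a b c d ?_ hc)
  simp [isMu, hn, hπ]

/-- The elements with codes are the whole centraliser in the alternating group. -/
theorem exists_pe {π : P8} (hs : Equiv.Perm.sign π = 1) (hc : π * mu0 = mu0 * π) : ∃ k < 96, pe k = π := by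
  classical
  set C : Subgroup P8 := Subgroup.centralizer {mu0} with hC
  have hct : mu0.cycleType = Multiset.replicate 2 2 := by
    haveI : Fact (Nat.Prime 2) := ⟨Nat.prime_two⟩
    have h := Equiv.Perm.cycleType_of_pow_prime_eq_one (σ := mu0) (p := 2) (by decide +kernel)
    have hs : mu0.cycleType.sum = 4 := by rw [Equiv.Perm.sum_cycleType]; decide +kernel
    rw [h, Multiset.sum_replicate, smul_eq_mul] at hs
    rw [h, show mu0.cycleType.card = 2 by omega]
  have h192 : Nat.card C = 192 := by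
    rw [hC, Equiv.Perm.nat_card_centralizer, hct]
    decide +kernel
  let f : C →* ℤˣ := Equiv.Perm.sign.comp C.subtype
  have hswap : swap (0 : Fin 8) 1 ∈ C := Subgroup.mem_centralizer_singleton_iff.2 mu_facts.2.2.2.2.2.1
  have hrange : f.range = ⊤ := by
    refine eq_top_iff.2 fun x _ => ?_
    rcases Int.units_eq_one_or x with rfl | rfl
    · exact one_mem _
    · exact ⟨⟨_, hswap⟩, (Equiv.Perm.sign_swap (show (0 : Fin 8) ≠ 1 by decide) : _)⟩
  have h96 : Nat.card f.ker = 96 := by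
    have h := f.ker.card_mul_index
    rw [Subgroup.index_ker, hrange, Subgroup.card_top, h192, Nat.card_eq_fintype_card (α := ℤˣ),
      Fintype.card_units_int] at h
    omega
  let F : Fin 96 → f.ker := fun k =>
    ⟨⟨pe k.1, Subgroup.mem_centralizer_singleton_iff.2 (pe_comm k.1 k.2)⟩, pe_sign k.1 k.2⟩
  have hF : Function.Bijective F := (Nat.bijective_iff_injective_and_card F).2
    ⟨fun k l e => Fin.ext (pe_inj k.2 l.2 (congrArg (fun x : f.ker => ((x : C) : P8)) e)),
      by rw [Nat.card_fin, h96]⟩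
  obtain ⟨k, hk⟩ := hF.2 ⟨⟨π, Subgroup.mem_centralizer_singleton_iff.2 hc⟩, hs⟩
  exact ⟨k.1, k.2, congrArg (fun x : f.ker => ((x : C) : P8)) hk⟩

end CfsgLib.Recognition.ExtraspecialThirtyTwo.AltCase.Final
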