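import Cfsg.Agent.Lib.Recognition.ExtraspecialThirtyTwo.AltCase.Base
import Cfsg.Agent.Lib.Recognition.ExtraspecialThirtyTwo.AltCase.FinalModel

/-!
# A group with a subgroup of type `A8` containing the centraliser of `s`
-/

set_option autoImplicit false
set_option linter.unusedSectionVars false
set_option linter.style.haveILetI false
set_option maxRecDepth 20000

namespace CfsgLib.Recognition.ExtraspecialThirtyTwo.AltCase.Final

open Subgroup Equiv.Perm

attribute [local irreducible] pe nfix mu0 sg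

/-- The data: coordinates of the alternating group of degree eight inside the group. -/
structure Model {G : Type*} [Group G] (S : St G) where
  E : P8 → G
  map_mul : ∀ {π ρ : P8}, sign π = 1 → sign ρ = 1 → E (π * ρ) = E π * E ρ
  inj : ∀ {π ρ : P8}, sign π = 1 → sign ρ = 1 → E π = E ρ → π = ρ
  s_eq : E sg = S.s
  cent : ∀ x : G, Commute x S.s → ∃ π : P8, sign π = 1 ∧ E π = x
  notconj : ¬ IsConj S.s (E mu0)

variable {G : Type*} [Group G] [Finite G] {S : St G}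

/-- Coordinates exist. -/
theorem exists_model (G0 : Subgroup G) (e : G0 ≃* alternatingGroup (Fin 8))
    (hL : centralizer ({S.s} : Set G) ≤ G0) (hu : ∃ u : G, orderOf u = 2 ∧ ¬ IsConj S.s u) :
    ∃ M : Model S, ∀ x : G, x ∈ G0 ↔ ∃ π : P8, sign π = 1 ∧ M.E π = x := by
  classical
  have hsmem : S.s ∈ G0 := hL (mem_centralizer_singleton_iff.2 rfl)
  set σ0 : P8 := ((e ⟨S.s, hsmem⟩ : alternatingGroup (Fin 8)) : P8) with hσ0
  have hsign : ∀ x : G0, sign ((e x : alternatingGroup (Fin 8)) : P8) = 1 := fun x =>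
    Equiv.Perm.mem_alternatingGroup.1 (e x).2
  have hσ2 : σ0 * σ0 = 1 := by
    rw [hσ0, ← Subgroup.coe_mul, ← map_mul]
    rw [show (⟨S.s, hsmem⟩ : G0) * ⟨S.s, hsmem⟩ = 1 from Subtype.ext S.ss, map_one, Subgroup.coe_one]
  have hσ1 : σ0 ≠ 1 := fun h => S.s_ne_one (congrArg Subtype.val
    (e.injective (Subtype.ext (h.trans (by rw [map_one, Subgroup.coe_one])) : e ⟨S.s, hsmem⟩ = e 1)))
  have hσn : nfix σ0 = 0 := by
    refine (even_involution hσ2 hσ1 (hsign _)).resolve_left fun h4 => ?_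
    obtain ⟨h, hh, hconj⟩ := exists_conj_mu hσ2 h4
    have hcode : ∀ x : centralizer ({S.s} : Set G), ∃ k : Fin 96,
        pe k.1 = h⁻¹ * ((e ⟨x.1, hL x.2⟩ : alternatingGroup (Fin 8)) : P8) * h := by
      intro x
      have hc : ((e ⟨x.1, hL x.2⟩ : alternatingGroup (Fin 8)) : P8) * σ0 =
          σ0 * ((e ⟨x.1, hL x.2⟩ : alternatingGroup (Fin 8)) : P8) := by
        rw [hσ0, ← Subgroup.coe_mul, ← Subgroup.coe_mul, ← map_mul, ← map_mul]
        exact congrArg (fun y => ((e y : alternatingGroup (Fin 8)) : P8))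
          (Subtype.ext (mem_centralizer_singleton_iff.1 x.2))
      set ξ := ((e ⟨x.1, hL x.2⟩ : alternatingGroup (Fin 8)) : P8)
      obtain ⟨k, hk, hkx⟩ := exists_pe (π := h⁻¹ * ξ * h) (by simp [hh, hsign, ξ]) (by
        rw [← hconj] at hc
        calc h⁻¹ * ξ * h * mu0 = h⁻¹ * (ξ * (h * mu0 * h⁻¹)) * h := by group
          _ = h⁻¹ * (h * mu0 * h⁻¹ * ξ) * h := by rw [hc]
          _ = mu0 * (h⁻¹ * ξ * h) := by group)
      exact ⟨⟨k, hk⟩, hkx⟩
    choose f hf using hcode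
    have hfi : Function.Injective f := fun x y e' => by
      have h1 := (hf x).symm.trans (e' ▸ hf y)
      simp only [mul_left_inj, mul_right_inj] at h1
      have h2 := congrArg Subtype.val (e.injective (Subtype.ext h1))
      exact Subtype.ext h2
    have h2 := Nat.card_le_card_of_injective f hfi
    rw [S.card_cent, Nat.card_fin] at h2
    omega
  obtain ⟨h, hh, hconj⟩ := exists_conj_sg hσ2 hσn
  have hcm : ∀ π : P8, sign π = 1 → h * π * h⁻¹ ∈ alternatingGroup (Fin 8) := fun π hπ => by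
    rw [Equiv.Perm.mem_alternatingGroup]; simp [hπ]
  let E : P8 → G := fun π => if hπ : sign π = 1 then ((e.symm ⟨_, hcm π hπ⟩ : G0) : G) else 1
  have hE : ∀ (π : P8) (hπ : sign π = 1), E π = ((e.symm ⟨_, hcm π hπ⟩ : G0) : G) := fun π hπ => by
    simp only [E, dif_pos hπ]
  have hmem : ∀ x : G, x ∈ G0 ↔ ∃ π : P8, sign π = 1 ∧ E π = x := by
    intro x
    constructor
    · intro hx
      have hπ : sign (h⁻¹ * ((e ⟨x, hx⟩ : alternatingGroup (Fin 8)) : P8) * h) = 1 := by simp [hh, hsign]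
      refine ⟨_, hπ, ?_⟩
      rw [hE _ hπ]
      have h1 : (⟨_, hcm _ hπ⟩ : alternatingGroup (Fin 8)) = e ⟨x, hx⟩ := Subtype.ext (by simp [mul_assoc])
      rw [h1, MulEquiv.symm_apply_apply]
    · rintro ⟨π, hπ, rfl⟩
      rw [hE π hπ]
      exact SetLike.coe_mem _
  have hmap : ∀ {π ρ : P8}, sign π = 1 → sign ρ = 1 → E (π * ρ) = E π * E ρ := by
    intro π ρ hπ hρ
    rw [hE π hπ, hE ρ hρ, hE (π * ρ) (by simp [hπ, hρ]), ← Subgroup.coe_mul, ← map_mul e.symm]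
    refine congrArg (fun y => ((e.symm y : G0) : G)) (Subtype.ext ?_)
    simp [mul_assoc]
  have hinj : ∀ {π ρ : P8}, sign π = 1 → sign ρ = 1 → E π = E ρ → π = ρ := by
    intro π ρ hπ hρ he
    rw [hE π hπ, hE ρ hρ] at he
    have h1 := congrArg Subtype.val (e.symm.injective (Subtype.ext he))
    simpa using h1
  have hs : E sg = S.s := by
    rw [hE sg mu_facts.2.2.2.2.1]
    rw [show (⟨_, hcm sg mu_facts.2.2.2.2.1⟩ : alternatingGroup (Fin 8)) = e ⟨S.s, hsmem⟩ from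
      Subtype.ext hconj, MulEquiv.symm_apply_apply]
  refine ⟨⟨E, hmap, hinj, hs, fun x hx => (hmem x).1 (hL (mem_centralizer_singleton_iff.2 hx.eq)), ?_⟩, hmem⟩
  obtain ⟨u, hu2, hus⟩ := hu
  haveI : Fact (Nat.Prime 2) := ⟨Nat.prime_two⟩
  obtain ⟨P, hP⟩ := exists_sylow S
  obtain ⟨Q, hQ⟩ := (IsPGroup.of_card (n := 1) (by rw [Nat.card_zpowers, hu2, pow_one]) :
    IsPGroup 2 (zpowers u)).exists_le_sylow
  obtain ⟨g, hg⟩ := MulAction.exists_smul_eq G Q P
  have hv : g * u * g⁻¹ ∈ SS S := by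
    rw [← hP, ← hg]
    exact ⟨u, hQ (mem_zpowers u), rfl⟩
  obtain ⟨π, hπ, hπv⟩ := (hmem _).1 (hL (SS_le S hv))
  have hE1 : E 1 = 1 := by
    have := hmap (π := 1) (ρ := 1) (map_one _) (map_one _)
    simpa using this
  have huu : u * u = 1 := by rw [← pow_two, ← hu2, pow_orderOf_eq_one]
  have hπ2 : π * π = 1 := hinj (by simp [hπ]) (map_one _) (by
    rw [hmap hπ hπ, hπv, hE1, show g * u * g⁻¹ * (g * u * g⁻¹) = g * (u * u) * g⁻¹ by group, huu]
    group)
  have hπ1 : π ≠ 1 := fun h1 => by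
    rw [h1, hE1] at hπv
    rw [conj_eq_one_iff.1 hπv.symm, orderOf_one] at hu2
    omega
  have key : ∀ ρ a : P8, sign ρ = 1 → sign a = 1 → IsConj (E ρ) (E (a * ρ * a⁻¹)) := by
    intro ρ a hρ ha
    refine isConj_iff.2 ⟨E a, ?_⟩
    rw [mul_inv_eq_iff_eq_mul, ← hmap ha hρ, ← hmap (by simp [hρ, ha]) ha]
    simp [mul_assoc]
  intro hsu
  have hvu : IsConj (E π) u := hπv ▸ (isConj_iff.2 ⟨g, rfl⟩).symm
  rcases even_involution hπ2 hπ1 hπ with h4 | h0
  · obtain ⟨a, ha, haπ⟩ := exists_conj_mu hπ2 h4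
    exact hus ((hsu.trans (haπ ▸ key mu0 a mu_facts.2.2.2.1 ha)).trans hvu)
  · obtain ⟨a, ha, haπ⟩ := exists_conj_sg hπ2 h0
    have h5 : IsConj (E sg) (E π) := haπ ▸ key sg a mu_facts.2.2.2.2.1 ha
    rw [hs] at h5
    exact hus (h5.trans hvu)

namespace Model

variable (M : Model S)

theorem E_one : M.E 1 = 1 := by
  have := M.map_mul (π := 1) (ρ := 1) (map_one _) (map_one _)
  simpa using this

theorem E_inv {π : P8} (hπ : sign π = 1) : M.E π⁻¹ = (M.E π)⁻¹ := by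
  refine eq_inv_of_mul_eq_one_left ?_
  rw [← M.map_mul (by simp [hπ]) hπ, inv_mul_cancel, M.E_one]

theorem E_conj {h π : P8} (hh : sign h = 1) (hπ : sign π = 1) :
    M.E (h * π * h⁻¹) = M.E h * M.E π * (M.E h)⁻¹ := by
  rw [M.map_mul (by simp [hh, hπ]) (by simp [hh]), M.map_mul hh hπ, M.E_inv hh]

theorem E_commute_iff {π ρ : P8} (hπ : sign π = 1) (hρ : sign ρ = 1) :
    Commute (M.E π) (M.E ρ) ↔ π * ρ = ρ * π := by
  constructor
  · intro h
    refine M.inj (by simp [hπ, hρ]) (by simp [hπ, hρ]) ?_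
    rw [M.map_mul hπ hρ, M.map_mul hρ hπ, h.eq]
  · intro h
    show M.E π * M.E ρ = M.E ρ * M.E π
    rw [← M.map_mul hπ hρ, h, M.map_mul hρ hπ]

theorem E_eq_one {π : P8} (hπ : sign π = 1) (h : M.E π = 1) : π = 1 :=
  M.inj hπ (map_one _) (h.trans M.E_one.symm)

/-- The subgroup of type `A8`. -/
def G0 : Subgroup G where
  carrier := {x | ∃ π : P8, sign π = 1 ∧ M.E π = x}
  one_mem' := ⟨1, map_one _, M.E_one⟩
  mul_mem' := by
    rintro _ _ ⟨π, hπ, rfl⟩ ⟨ρ, hρ, rfl⟩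
    exact ⟨π * ρ, by simp [hπ, hρ], M.map_mul hπ hρ⟩
  inv_mem' := by
    rintro _ ⟨π, hπ, rfl⟩
    exact ⟨π⁻¹, by simp [hπ], M.E_inv hπ⟩

theorem E_mem {π : P8} (hπ : sign π = 1) : M.E π ∈ M.G0 := ⟨π, hπ, rfl⟩

theorem mem_G0_of_commute {x : G} (hx : Commute x S.s) : x ∈ M.G0 := M.cent x hx

theorem card_G0 : Nat.card M.G0 = 20160 := by
  have h : Nat.card (alternatingGroup (Fin 8)) = 20160 := by
    rw [nat_card_alternatingGroup, Nat.card_fin]; decide
  rw [← h]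
  refine (Nat.card_eq_of_bijective (fun a : alternatingGroup (Fin 8) =>
    (⟨M.E a.1, M.E_mem (Equiv.Perm.mem_alternatingGroup.1 a.2)⟩ : M.G0)) ⟨?_, ?_⟩).symm
  · intro a b hab
    exact Subtype.ext (M.inj (Equiv.Perm.mem_alternatingGroup.1 a.2) (Equiv.Perm.mem_alternatingGroup.1 b.2)
      (congrArg Subtype.val hab))
  · rintro ⟨_, π, hπ, rfl⟩
    exact ⟨⟨π, Equiv.Perm.mem_alternatingGroup.2 hπ⟩, rfl⟩

/-- The involution not conjugate to `s`. -/
def u : G := M.E mu0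

theorem u_mem : M.u ∈ M.G0 := M.E_mem mu_facts.2.2.2.1

theorem uu : M.u * M.u = 1 := by
  rw [u, ← M.map_mul mu_facts.2.2.2.1 mu_facts.2.2.2.1, show mu0 * mu0 = 1 by decide +kernel, M.E_one]

theorem u_ne : M.u ≠ 1 := fun h =>
  absurd (M.E_eq_one mu_facts.2.2.2.1 h) (by decide +kernel)

theorem order_u : orderOf M.u = 2 := orderOf_eq_prime (by rw [pow_two, M.uu]) M.u_ne

/-- An involution of `G0` moving eight points is conjugate to `s` there. -/
theorem exists_of_zero {π : P8} (h2 : π * π = 1) (h0 : nfix π = 0) :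
    ∃ h ∈ M.G0, h * S.s * h⁻¹ = M.E π := by
  obtain ⟨a, ha, hπ⟩ := exists_conj_sg h2 h0
  exact ⟨M.E a, M.E_mem ha, by rw [← hπ, M.E_conj ha mu_facts.2.2.2.2.1, M.s_eq]⟩

/-- An involution of `G0` moving four points is conjugate to `u` there. -/
theorem exists_of_four {π : P8} (h2 : π * π = 1) (h4 : nfix π = 4) :
    ∃ h ∈ M.G0, h * M.u * h⁻¹ = M.E π := by
  obtain ⟨a, ha, hπ⟩ := exists_conj_mu h2 h4
  exact ⟨M.E a, M.E_mem ha, by rw [← hπ, M.E_conj ha mu_facts.2.2.2.1]; rfl⟩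

theorem cases_involution {π : P8} (hπ : sign π = 1) (h2 : M.E π * M.E π = 1) (h1 : M.E π ≠ 1) :
    π * π = 1 ∧ (nfix π = 4 ∨ nfix π = 0) := by
  have h : π * π = 1 := M.E_eq_one (by simp [hπ]) (by rw [M.map_mul hπ hπ, h2])
  exact ⟨h, even_involution h (fun e => h1 (by rw [e, M.E_one])) hπ⟩

theorem nfix_of_conj_u {π : P8} (hπ : sign π = 1) {g : G} (hg : g * M.u * g⁻¹ = M.E π) :
    π * π = 1 ∧ nfix π = 4 := by
  obtain ⟨h2, h⟩ := M.cases_involution hπ
    (by rw [← hg, show g * M.u * g⁻¹ * (g * M.u * g⁻¹) = g * (M.u * M.u) * g⁻¹ by group, M.uu]; group)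
    (by rw [← hg, ne_eq, conj_eq_one_iff]; exact M.u_ne)
  refine ⟨h2, h.resolve_right fun h0 => M.notconj ?_⟩
  obtain ⟨a, -, ha⟩ := M.exists_of_zero h2 h0
  exact (isConj_iff.2 ⟨a, ha⟩).trans (isConj_iff.2 ⟨g, hg⟩).symm

/-- Elements carrying `s` into `G0` lie in `G0`. -/
theorem key {g : G} (hg : g * S.s * g⁻¹ ∈ M.G0) : g ∈ M.G0 := by
  obtain ⟨π, hπ, he⟩ := hg
  obtain ⟨h2, h⟩ := M.cases_involution hπ
    (by rw [he, show g * S.s * g⁻¹ * (g * S.s * g⁻¹) = g * (S.s * S.s) * g⁻¹ by group, S.ss]; group)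
    (by rw [he, ne_eq, conj_eq_one_iff]; exact S.s_ne_one)
  rcases h with h4 | h0
  · obtain ⟨a, -, ha⟩ := M.exists_of_four h2 h4
    exact absurd ((isConj_iff.2 ⟨g, he.symm⟩).trans (isConj_iff.2 ⟨a, ha⟩).symm) M.notconj
  · obtain ⟨a, ha, hae⟩ := M.exists_of_zero h2 h0
    have hc : Commute (a⁻¹ * g) S.s := by
      show a⁻¹ * g * S.s = S.s * (a⁻¹ * g)
      calc a⁻¹ * g * S.s = a⁻¹ * (g * S.s * g⁻¹) * g := by group
        _ = a⁻¹ * (a * S.s * a⁻¹) * g := by rw [← he, ← hae]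
        _ = S.s * (a⁻¹ * g) := by group
    have := mul_mem ha (M.mem_G0_of_commute hc)
    rwa [mul_inv_cancel_left] at this

/-- The centralisers of involutions of `G0` moving eight points lie in `G0`. -/
theorem mem_of_zero {π : P8} (h2 : π * π = 1) (h0 : nfix π = 0) {x : G} (hx : Commute x (M.E π)) :
    x ∈ M.G0 := by
  obtain ⟨a, ha, hae⟩ := M.exists_of_zero h2 h0
  have h : x * a ∈ M.G0 := M.key (by
    rw [show x * a * S.s * (x * a)⁻¹ = x * (a * S.s * a⁻¹) * x⁻¹ by group, hae, hx.eq, mul_inv_cancel_right,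
      ← hae]
    exact mul_mem (mul_mem ha (M.mem_G0_of_commute (Commute.refl S.s))) (inv_mem ha))
  have := mul_mem h (inv_mem ha)
  rwa [mul_inv_cancel_right] at this

/-- The element with a code. -/
def el (k : ℕ) : G := M.E (pe k)

theorem el_mem {k : ℕ} (hk : k < 96) : M.el k ∈ M.G0 := M.E_mem (pe_sign k hk)

theorem el_inj {k l : ℕ} (hk : k < 96) (hl : l < 96) (h : M.el k = M.el l) : k = l :=
  pe_inj hk hl (M.inj (pe_sign k hk) (pe_sign l hl) h)

theorem el_commute_u {k : ℕ} (hk : k < 96) : Commute (M.el k) M.u :=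
  (M.E_commute_iff (pe_sign k hk) mu_facts.2.2.2.1).2 (pe_comm k hk)

theorem el_commute_s {k : ℕ} (hk : k < 96) : Commute (M.el k) S.s ↔ k / 16 % 3 = 0 := by
  rw [← M.s_eq, el, M.E_commute_iff (pe_sign k hk) mu_facts.2.2.2.2.1]
  exact pe_sigma k hk

theorem exists_el {x : G} (hx : x ∈ M.G0) (hu : Commute x M.u) : ∃ k < 96, M.el k = x := by
  obtain ⟨π, hπ, rfl⟩ := hx
  obtain ⟨k, hk, rfl⟩ := exists_pe hπ ((M.E_commute_iff hπ mu_facts.2.2.2.1).1 hu)
  exact ⟨k, hk, rfl⟩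

theorem card_codes (K : Subgroup G) (f : ℕ → Bool)
    (h : ∀ x : G, x ∈ K ↔ ∃ k < 96, f k = true ∧ M.el k = x) :
    Nat.card K = ((List.range 96).filter f).length := by
  classical
  rw [← List.toFinset_card_of_nodup (List.nodup_range.filter _), ← Nat.card_eq_finsetCard]
  have hm : ∀ k : ↥((List.range 96).filter f).toFinset, k.1 < 96 ∧ f k.1 = true := fun k => by
    simpa using List.mem_toFinset.1 k.2
  refine (Nat.card_eq_of_bijective
    (fun k => (⟨M.el k.1, (h (M.el k.1)).2 ⟨k.1, (hm k).1, (hm k).2, rfl⟩⟩ : K)) ⟨?_, ?_⟩).symm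
  · intro k l e
    exact Subtype.ext (M.el_inj (hm k).1 (hm l).1 (congrArg Subtype.val e))
  · rintro ⟨x, hx⟩
    obtain ⟨k, hk, fk, rfl⟩ := (h x).1 hx
    exact ⟨⟨k, by simp [hk, fk]⟩, rfl⟩

end Model

end CfsgLib.Recognition.ExtraspecialThirtyTwo.AltCase.Final
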