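import Cfsg.Agent.Lib.Recognition.ExtraspecialThirtyTwo.AltCase.Normalizer

/-!
# The fusion of the planes

The odd part of `N(E)/E` permutes the conjugates of `s` in `E` regularly; the four-group acts on it and each
involution of the four-group fixes at most three of its elements, so that exactly one or two planes are fused.
-/

set_option autoImplicit false
set_option linter.unusedSectionVars false
set_option linter.unusedVariables false
set_option linter.style.haveILetI false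

namespace CfsgLib.Recognition.ExtraspecialThirtyTwo.AltCase

open Subgroup

namespace OddAction

variable {K : Type*} [Group K] [Finite K]

theorem ne_inv_of_odd (hodd : Odd (Nat.card K)) {a : K} (ha : a ≠ 1) : a ≠ a⁻¹ := by
  intro e
  refine ha (orderOf_eq_one_iff.1 ?_)
  have h2 : orderOf a ∣ 2 := orderOf_dvd_of_pow_eq_one (by
    rw [pow_two]; nth_rewrite 2 [e]; exact mul_inv_cancel a)
  have h3 : Odd (orderOf a) := hodd.of_dvd_nat (orderOf_dvd_natCard a)
  rcases (Nat.dvd_prime Nat.prime_two).1 h2 with h | h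
  · exact h
  · rw [h] at h3; exact absurd h3 (by decide)

/-- A fixed point free automorphism of order two inverts. -/
theorem inverts (g : K →* K) (hg : ∀ k, g (g k) = k) (h : ∀ k, g k = k → k = 1) (k : K) : g k = k⁻¹ := by
  have hinj : Function.Injective fun u : K => u⁻¹ * g u := fun u v e => by
    have e' : u⁻¹ * g u = v⁻¹ * g v := e
    have hfix : g (v * u⁻¹) = v * u⁻¹ := by
      rw [map_mul, map_inv]
      calc g v * (g u)⁻¹ = v * (v⁻¹ * g v) * (u⁻¹ * g u)⁻¹ * u⁻¹ := by group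
        _ = v * u⁻¹ := by rw [e']; group
    exact (mul_inv_eq_one.1 (h _ hfix)).symm
  obtain ⟨u, hu⟩ := (Finite.injective_iff_surjective.1 hinj) k
  rw [← hu, map_mul, map_inv, hg, mul_inv_rev, inv_inv]

variable (f g : K →* K)

/-- With two fixed points free, the third involution fixes everything. -/
theorem single (hg : ∀ k, g (g k) = k) (hfg : ∀ k, f (g k) = g (f k)) (hf : ∀ k, f (f k) = k)
    (h1 : ∀ k, g k = k → k = 1) (h2 : ∀ k, f (g k) = k → k = 1) (k : K) : f k = k := by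
  have e1 := inverts g hg h1
  have e2 := inverts (f.comp g) (fun k => by simp [hfg, hf, hg]) h2 k
  rw [MonoidHom.comp_apply, e1, map_inv, inv_inj] at e2
  exact e2

variable (hodd : Odd (Nat.card K))

include hodd in
theorem fixed_cases (hf3 : Set.ncard {k : K | f k = k} ≤ 3) {a : K} (ha : f a = a) (ha1 : a ≠ 1) {k : K}
    (hk : f k = k) : k = 1 ∨ k = a ∨ k = a⁻¹ := by
  have hne := ne_inv_of_odd hodd ha1
  have hsub : ({1, a, a⁻¹} : Set K) ⊆ {k : K | f k = k} := by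
    rintro v (rfl | rfl | rfl)
    · exact map_one f
    · exact ha
    · show f a⁻¹ = a⁻¹
      rw [map_inv, ha]
  have h3 : Set.ncard ({1, a, a⁻¹} : Set K) = 3 := by
    rw [Set.ncard_eq_three]
    exact ⟨1, a, a⁻¹, fun e => ha1 e.symm, fun e => ha1 (inv_eq_one.1 e.symm), hne, rfl⟩
  have := Set.eq_of_subset_of_ncard_le hsub (by omega) (Set.toFinite _)
  have hk' : k ∈ ({1, a, a⁻¹} : Set K) := by rw [this]; exact hk
  simpa using hk'

include hodd in
theorem order_three (hf3 : Set.ncard {k : K | f k = k} ≤ 3) {a : K} (ha : f a = a) (ha1 : a ≠ 1) :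
    orderOf a = 3 := by
  haveI : Fact (Nat.Prime 3) := ⟨Nat.prime_three⟩
  refine orderOf_eq_prime ?_ ha1
  rcases fixed_cases f hodd hf3 ha ha1 (k := a * a) (by rw [map_mul, ha]) with e | e | e
  · exact absurd (eq_inv_of_mul_eq_one_left e) (ne_inv_of_odd hodd ha1)
  · exact absurd (mul_eq_right.1 e) ha1
  · rw [pow_succ, pow_two, e, inv_mul_cancel]

include hodd in
/-- Two nontrivial fixed point groups commute and leave none for the third involution. -/
theorem pair (hle : Nat.card K ≤ 15) (hfg : ∀ k, f (g k) = g (f k)) (hf : ∀ k, f (f k) = k) (hg : ∀ k, g (g k) = k)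
    (hfix : ∀ k, f k = k → g k = k → k = 1)
    (hf3 : Set.ncard {k : K | f k = k} ≤ 3) (hg3 : Set.ncard {k : K | g k = k} ≤ 3)
    {a b : K} (ha : f a = a) (ha1 : a ≠ 1) (hb : g b = b) (hb1 : b ≠ 1) :
    Commute a b ∧ (∀ c, f (g c) = c → c = 1) ∧ zpowers a ⊔ zpowers b = ⊤ := by
  haveI : Fact (Nat.Prime 3) := ⟨Nat.prime_three⟩
  have oa := order_three f hodd hf3 ha ha1
  have ob := order_three g hodd hg3 hb hb1
  have gai : g a = a⁻¹ := by
    rcases fixed_cases f hodd hf3 ha ha1 (k := g a) (by rw [hfg, ha]) with e | e | e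
    · exact absurd (by rw [← hg a, e, map_one]) ha1
    · exact absurd (hfix a ha e) ha1
    · exact e
  have fbi : f b = b⁻¹ := by
    rcases fixed_cases g hodd hg3 hb hb1 (k := f b) (by rw [← hfg, hb]) with e | e | e
    · exact absurd (by rw [← hf b, e, map_one]) hb1
    · exact absurd (hfix b e hb) hb1
    · exact e
  have hne : zpowers a ≠ zpowers b := fun e => by
    have hbm : b ∈ zpowers a := e ▸ mem_zpowers b
    obtain ⟨i, rfl⟩ := hbm
    exact hb1 (hfix _ (by rw [map_zpow, ha]) hb)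
  have h3 : 3 ∣ Nat.card K := oa ▸ orderOf_dvd_natCard a
  have h9 : Nat.card K = 9 := by
    by_contra h9
    obtain ⟨m, hm⟩ := hodd
    have hm2 : ¬ 9 ∣ Nat.card K := fun ⟨r, hr⟩ => by omega
    have hn : ∀ {c : K}, orderOf c = 3 → ∃ P : Sylow 3 K, (P : Subgroup K) = zpowers c := fun {c} hc => by
      obtain ⟨P, hP⟩ := (IsPGroup.of_card (n := 1) (by rw [Nat.card_zpowers, hc, pow_one]) :
        IsPGroup 3 (zpowers c)).exists_le_sylow
      obtain ⟨r, hr⟩ := IsPGroup.iff_card.1 P.2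
      refine ⟨P, (Subgroup.eq_of_le_of_card_ge hP ?_).symm⟩
      have hd : 3 ^ r ∣ Nat.card K := hr ▸ Subgroup.card_subgroup_dvd_card _
      have : r ≤ 1 := by
        by_contra hr2
        exact hm2 (dvd_trans (pow_dvd_pow 3 (by omega : 2 ≤ r)) hd)
      rw [Nat.card_zpowers, hc, hr]
      exact le_trans (Nat.pow_le_pow_right (by norm_num) this) (le_of_eq (pow_one 3))
    obtain ⟨P, hP⟩ := hn oa
    obtain ⟨R, hR⟩ := hn ob
    have hone : Nat.card (Sylow 3 K) = 1 := by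
      have hd := P.card_dvd_index
      have hmod := card_sylow_modEq_one 3 K
      have hidx : (P : Subgroup K).index * 3 = Nat.card K := by
        conv_rhs => rw [← Subgroup.index_mul_card (P : Subgroup K)]
        rw [hP, Nat.card_zpowers, oa]
      have hpos : 0 < (P : Subgroup K).index := Nat.pos_of_ne_zero Subgroup.index_ne_zero_of_finite
      have := Nat.le_of_dvd hpos hd
      obtain ⟨r, hr⟩ := hd
      rw [Nat.ModEq] at hmod
      have : Nat.card (Sylow 3 K) = 1 ∨ Nat.card (Sylow 3 K) = 4 := by omega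
      rcases this with h | h
      · exact h
      · rw [h] at hr; omega
    haveI := (Nat.card_eq_one_iff_unique.1 hone).1
    exact hne (hP.symm.trans (by rw [Subsingleton.elim P R]; exact hR))
  have hcomm : ∀ u v : K, u * v = v * u :=
    (IsPGroup.isMulCommutative_of_card_eq_prime_sq (p := 3) (G := K) (by rw [h9]; norm_num)).1.1
  have hsup : zpowers a ⊔ zpowers b = ⊤ := by
    refine Subgroup.eq_top_of_card_eq _ ?_
    rw [h9]
    have hlt : zpowers a < zpowers a ⊔ zpowers b := lt_of_le_of_ne le_sup_left fun e => hne (by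
      refine (Subgroup.eq_of_le_of_card_ge (e ▸ le_sup_right) ?_).symm
      rw [Nat.card_zpowers, Nat.card_zpowers, oa, ob])
    have h := Set.ncard_lt_ncard hlt (Set.toFinite _)
    rw [← Nat.card_coe_set_eq, ← Nat.card_coe_set_eq] at h
    change Nat.card (zpowers a) < Nat.card (zpowers a ⊔ zpowers b : Subgroup K) at h
    rw [Nat.card_zpowers, oa] at h
    have hd : Nat.card (zpowers a ⊔ zpowers b : Subgroup K) ∣ 9 := h9 ▸ Subgroup.card_subgroup_dvd_card _
    have hle9 := Nat.le_of_dvd (by norm_num) hd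
    interval_cases (Nat.card (zpowers a ⊔ zpowers b : Subgroup K)) <;> first | rfl | norm_num at hd
  refine ⟨hcomm a b, fun c hc => ?_, hsup⟩
  let T : Subgroup K :=
    { carrier := {k | f (g k) = k⁻¹}
      one_mem' := by simp
      mul_mem' := fun {u v} hu hv => by
        show f (g (u * v)) = (u * v)⁻¹
        rw [map_mul, map_mul, hu, hv, mul_inv_rev, hcomm]
      inv_mem' := fun {u} hu => by
        show f (g u⁻¹) = u⁻¹⁻¹
        rw [map_inv, map_inv, hu] }
  have haT : a ∈ T := by show f (g a) = a⁻¹; rw [gai, map_inv, ha]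
  have hbT : b ∈ T := by show f (g b) = b⁻¹; rw [hb, fbi]
  have hT : T = ⊤ := eq_top_iff.2 (hsup ▸ sup_le (zpowers_le.2 haT) (zpowers_le.2 hbT))
  have hc' : f (g c) = c⁻¹ := (hT ▸ mem_top c : c ∈ T)
  by_contra hc1
  exact ne_inv_of_odd hodd hc1 (hc.symm.trans hc')

end OddAction

variable {G : Type*} [Group G] [Finite G] (S : St G)

/-- An element of the odd part, outside `E`, centralising an involution of the four-group modulo `E`. -/
def Fix (KK : Subgroup G) (i : Fin 3) : Prop :=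
  ∃ k ∈ KK, k ∉ EE S ∧ pv S i * k * (pv S i)⁻¹ * k⁻¹ ∈ EE S

variable {KK : Subgroup G} (O : OddPart S KK)
include O

theorem eq_of_same {k l : G} (hk : k ∈ KK) (hl : l ∈ KK) (h : k * S.s * k⁻¹ = l * S.s * l⁻¹) :
    l⁻¹ * k ∈ EE S := by
  refine O.cap _ (mul_mem (inv_mem hl) hk) (SS_cap_cent S (mul_mem (inv_mem (O.le hl)) (O.le hk)) ?_)
  show l⁻¹ * k * S.s = S.s * (l⁻¹ * k)
  calc l⁻¹ * k * S.s = l⁻¹ * (k * S.s * k⁻¹) * k := by group
    _ = _ := by rw [h]; group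

theorem s_of_cent {k : G} (hk : k ∈ KK) (hc : Commute k S.s) : k ∈ EE S :=
  O.cap k hk (SS_cap_cent S (O.le hk) hc)

theorem EE_norm_KK {k e : G} (hk : k ∈ KK) (he : e ∈ EE S) : k * e * k⁻¹ ∈ EE S := conj_mem_EE S (O.le hk) he

theorem conj_s_EE {k e : G} (he : e ∈ EE S) : e * (k * S.s * k⁻¹) * e⁻¹ = k * S.s * k⁻¹ ↔
    Commute e (k * S.s * k⁻¹) := mul_inv_eq_iff_eq_mul

/-- The image of `s` under such an element lies in the plane. -/
theorem image_inW {i : Fin 3} {k : G} (hk : k ∈ KK) (hc : pv S i * k * (pv S i)⁻¹ * k⁻¹ ∈ EE S) :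
    InW S i (k * S.s * k⁻¹) := by
  have hks := EE_norm_KK S O hk (s_mem_EE S)
  refine fix S i hks ?_
  set e := pv S i * k * (pv S i)⁻¹ * k⁻¹ with he
  have h1 : pv S i * (k * S.s * k⁻¹) * (pv S i)⁻¹ = e * (k * S.s * k⁻¹) * e⁻¹ := by
    have hs : (pv S i)⁻¹ * S.s = S.s * (pv S i)⁻¹ := (el_comm_s S (inv_mem (v_mem_SS S i))).eq
    calc pv S i * (k * S.s * k⁻¹) * (pv S i)⁻¹
        = e * k * (pv S i * S.s * (pv S i)⁻¹) * k⁻¹ * e⁻¹ := by rw [he]; group
      _ = _ := by rw [mul_assoc (pv S i), ← hs, mul_inv_cancel_left]; group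
  rw [(EE_comm S hc hks).eq, mul_inv_cancel_right] at h1
  exact mul_inv_eq_iff_eq_mul.1 h1

/-- A fused plane gives such an element. -/
theorem fix_of_conj {i : Fin 3} {u : G} (hu : u ∈ PP S i) (hs : u ≠ S.s) (hc : IsConj S.s u) : Fix S KK i := by
  have hu1 : u ≠ 1 := fun e => S.s_ne_one (by
    obtain ⟨g, hg⟩ := isConj_iff.1 hc
    rw [e] at hg
    exact conj_eq_one_iff.1 hg)
  obtain ⟨g, -, hg⟩ := PP_trans S i hu hu1 hs
  obtain ⟨g', hg'⟩ := isConj_iff.1 (hc.trans (isConj_iff.2 ⟨g, hg⟩).symm)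
  obtain ⟨n, hn, hns⟩ := fusion_free S (s_mem_EE S) (w_mem_EE S i) hg'
  obtain ⟨k, hk, σ, hσ, rfl⟩ := O.cover n hn
  have hks : k * S.s * k⁻¹ = pw' S i := by
    rw [← hns]
    calc k * S.s * k⁻¹ = k * (σ * S.s * σ⁻¹) * k⁻¹ := by rw [(el_comm_s S hσ).eq, mul_inv_cancel_right]
      _ = _ := by group
  refine ⟨k, hk, fun hE => (w_ne S i).2 ?_, ?_⟩
  · rw [← hks, (EE_comm S hE (s_mem_EE S)).eq, mul_inv_cancel_right]
  · have hv := v_mem_SS S i
    have hk' : pv S i * k * (pv S i)⁻¹ ∈ KK := O.conj _ hv k hk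
    have h := eq_of_same S O hk' hk (by
      rw [hks]
      calc pv S i * k * (pv S i)⁻¹ * S.s * (pv S i * k * (pv S i)⁻¹)⁻¹
          = pv S i * (k * ((pv S i)⁻¹ * S.s * pv S i) * k⁻¹) * (pv S i)⁻¹ := by group
        _ = pv S i * pw' S i * (pv S i)⁻¹ := by
            rw [(el_comm_s S (inv_mem hv)).eq, inv_mul_cancel_right, hks]
        _ = pw' S i := by rw [(PP_comm S i (v_mem_PP S i) (w_mem_PP S i)).eq, mul_inv_cancel_right])
    have h' := EE_norm_KK S O hk h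
    simpa [mul_assoc] using h'

/-- Such an element makes the plane fused. -/
theorem conj_of_fix {i : Fin 3} (h : Fix S KK i) {u : G} (hu : u ∈ PP S i) (hu1 : u ≠ 1) : IsConj S.s u := by
  by_cases hus : u = S.s
  · exact hus ▸ IsConj.refl _
  obtain ⟨k, hk, hkE, hc⟩ := h
  have hW := image_inW S O hk hc
  have hne1 : k * S.s * k⁻¹ ≠ 1 := fun e => S.s_ne_one (conj_eq_one_iff.1 e)
  have hnes : k * S.s * k⁻¹ ≠ S.s := fun e => hkE (s_of_cent S O hk (mul_inv_eq_iff_eq_mul.1 e))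
  obtain ⟨g, -, hg⟩ := PP_trans S i (InW.mem S i hW).1 hne1 hnes
  obtain ⟨g', -, hg'⟩ := PP_trans S i hu hu1 hus
  exact (isConj_iff.2 ⟨k, rfl⟩ : IsConj S.s (k * S.s * k⁻¹)).trans
    ((isConj_iff.2 ⟨g, hg⟩).symm.trans (isConj_iff.2 ⟨g', hg'⟩))

theorem card_quot : Nat.card (KK ⧸ (EE S).subgroupOf KK) ≤ 15 ∧ Odd (Nat.card (KK ⧸ (EE S).subgroupOf KK)) := by
  obtain ⟨m, hm, hcard⟩ := O.odd
  have h1 := Subgroup.card_eq_card_quotient_mul_card_subgroup ((EE S).subgroupOf KK)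
  rw [Nat.card_congr (subgroupOfEquivOfLe O.ge).toEquiv, card_EE, hcard] at h1
  have hq : Nat.card (KK ⧸ (EE S).subgroupOf KK) = m := by omega
  refine ⟨?_, hq ▸ hm⟩
  have hmem : ∀ q : KK ⧸ (EE S).subgroupOf KK,
      (q.out : G) * S.s * (q.out : G)⁻¹ ∈ ((EE S : Set G) \ {1}) := fun q =>
    ⟨EE_norm_KK S O q.out.2 (s_mem_EE S), fun e => S.s_ne_one (conj_eq_one_iff.1 e)⟩
  have h15 : Set.ncard ((EE S : Set G) \ {1}) = 15 := by
    rw [Set.ncard_sdiff (Set.singleton_subset_iff.2 (one_mem _)), Set.ncard_singleton, ← Nat.card_coe_set_eq]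
    show Nat.card (EE S) - 1 = 15
    rw [card_EE]
  rw [← h15, ← Nat.card_coe_set_eq]
  refine Nat.card_le_card_of_injective (fun q => ⟨_, hmem q⟩) fun q r e => ?_
  have := eq_of_same S O q.out.2 r.out.2 (congrArg Subtype.val e)
  rw [← QuotientGroup.out_eq' q, ← QuotientGroup.out_eq' r]
  exact (QuotientGroup.eq.2 (mem_subgroupOf.2 this)).symm

theorem EE_normal : ((EE S).subgroupOf KK).Normal :=
  ⟨fun u hu k => mem_subgroupOf.2 (EE_norm_KK S O k.2 (mem_subgroupOf.1 hu))⟩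

/-- The induced automorphism of an involution of the four-group. -/
theorem exists_act (i : Fin 3) [((EE S).subgroupOf KK).Normal] :
    ∃ φ : KK ⧸ (EE S).subgroupOf KK →* KK ⧸ (EE S).subgroupOf KK, ∀ k : KK,
      φ (QuotientGroup.mk k) = QuotientGroup.mk ⟨pv S i * k * (pv S i)⁻¹, O.conj _ (v_mem_SS S i) k k.2⟩ := by
  let c : KK →* KK :=
    { toFun := fun k => ⟨pv S i * k * (pv S i)⁻¹, O.conj _ (v_mem_SS S i) k k.2⟩
      map_one' := Subtype.ext (by simp)
      map_mul' := fun a b => Subtype.ext (by simp [mul_assoc]) }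
  exact ⟨QuotientGroup.map _ _ c fun u hu => mem_comap.2 (mem_subgroupOf.2 (SS_norm S (v_mem_SS S i) (mem_subgroupOf.1 hu))),
    fun k => rfl⟩

theorem mk_eq_iff {k l : G} (hk : k ∈ KK) (hl : l ∈ KK) :
    (QuotientGroup.mk (⟨k, hk⟩ : KK) : KK ⧸ (EE S).subgroupOf KK) = QuotientGroup.mk ⟨l, hl⟩ ↔ k⁻¹ * l ∈ EE S := by
  rw [QuotientGroup.eq, mem_subgroupOf]
  rfl

/-- The three actions with their properties. -/
theorem exists_actions [((EE S).subgroupOf KK).Normal] :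
    ∃ φ : Fin 3 → (KK ⧸ (EE S).subgroupOf KK →* KK ⧸ (EE S).subgroupOf KK),
      (∀ i q, φ i (φ i q) = q) ∧
      (∀ i j q, φ i (φ j q) = φ j (φ i q)) ∧
      (∀ i j l, i ≠ j → l ≠ i → l ≠ j → ∀ q, φ i (φ j q) = φ l q) ∧
      (∀ i j, i ≠ j → ∀ q, φ i q = q → φ j q = q → q = 1) ∧
      (∀ i, Set.ncard {q | φ i q = q} ≤ 3) ∧
      (∀ i k (hk : k ∈ KK), φ i (QuotientGroup.mk ⟨k, hk⟩) = QuotientGroup.mk ⟨k, hk⟩ ↔
        pv S i * k * (pv S i)⁻¹ * k⁻¹ ∈ EE S) ∧
      ∀ i k (hk : k ∈ KK), φ i (QuotientGroup.mk ⟨k, hk⟩) =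
        QuotientGroup.mk ⟨pv S i * k * (pv S i)⁻¹, O.conj _ (v_mem_SS S i) k hk⟩ := by
  choose φ hφ using fun i => exists_act S O i
  have hiff : ∀ i k (hk : k ∈ KK), φ i (QuotientGroup.mk ⟨k, hk⟩) = QuotientGroup.mk ⟨k, hk⟩ ↔
      pv S i * k * (pv S i)⁻¹ * k⁻¹ ∈ EE S := by
    intro i k hk
    rw [hφ, mk_eq_iff S O]
    constructor
    · intro h
      have h' := EE_norm_KK S O hk (inv_mem h)
      simpa [mul_assoc] using h'
    · intro h
      have h' := EE_norm_KK S O (inv_mem hk) (inv_mem h)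
      simpa [mul_assoc] using h'
  refine ⟨φ, ?_, ?_, ?_, ?_, ?_, hiff, fun i k hk => hφ i ⟨k, hk⟩⟩
  · intro i q
    obtain ⟨k, rfl⟩ := QuotientGroup.mk_surjective q
    rw [hφ, hφ]
    congr 1
    refine Subtype.ext ?_
    calc pv S i * (pv S i * k * (pv S i)⁻¹) * (pv S i)⁻¹
        = (pv S i * pv S i) * k * (pv S i * pv S i)⁻¹ := by group
      _ = k := by rw [v_sq]; group
  · intro i j q
    obtain ⟨⟨k, hk⟩, rfl⟩ := QuotientGroup.mk_surjective q
    rw [hφ, hφ, hφ, hφ, mk_eq_iff S O]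
    set u := pv S j * pv S i * (pv S i * pv S j)⁻¹ with hu
    have huE : u ∈ EE S := by
      obtain ⟨a, ha, fa, ea⟩ := v_mem_SS S j
      obtain ⟨b, hb, fb, eb⟩ := v_mem_SS S i
      have := (el_mem_EE S (Code.mulC_lt _ _ _ (Code.conjC_lt _ _ ha hb) _ (Code.invC_check _ _ b hb).1)).2
        (s_comm a ha fa b hb fb)
      rw [S.el_mul (Code.conjC_lt _ _ ha hb) (Code.invC_check _ _ b hb).1, S.el_conjC ha hb, S.el_invC hb,
        ea, eb] at this
      simpa [hu, mul_assoc] using this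
    set y := pv S i * (pv S j * k * (pv S j)⁻¹) * (pv S i)⁻¹ with hy
    have e2 : pv S j * (pv S i * k * (pv S i)⁻¹) * (pv S j)⁻¹ = u * y * u⁻¹ := by rw [hu, hy]; group
    have hyK : y ∈ KK := O.conj _ (v_mem_SS S i) _ (O.conj _ (v_mem_SS S j) k hk)
    show y⁻¹ * _ ∈ EE S
    rw [e2, show y⁻¹ * (u * y * u⁻¹) = y⁻¹ * u * y⁻¹⁻¹ * u⁻¹ by group]
    exact mul_mem (EE_norm_KK S O (inv_mem hyK) huE) (inv_mem huE)
  · intro i j l hij hli hlj q
    obtain ⟨⟨k, hk⟩, rfl⟩ := QuotientGroup.mk_surjective q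
    rw [hφ, hφ, hφ, mk_eq_iff S O]
    set u := pv S i * pv S j * pv S l with hu
    have huE : u ∈ EE S := prod_mem S i hij hli hlj
    set y := pv S l * k * (pv S l)⁻¹ with hy
    have e2 : pv S i * (pv S j * k * (pv S j)⁻¹) * (pv S i)⁻¹ = u * y * u⁻¹ := by
      rw [hu, hy]
      calc pv S i * (pv S j * k * (pv S j)⁻¹) * (pv S i)⁻¹
          = pv S i * pv S j * ((pv S l * pv S l) * k * (pv S l * pv S l)⁻¹) * (pv S i * pv S j)⁻¹ := by
            rw [v_sq]; group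
        _ = _ := by group
    have hyK : y ∈ KK := O.conj _ (v_mem_SS S l) k hk
    show (pv S i * (pv S j * k * (pv S j)⁻¹) * (pv S i)⁻¹)⁻¹ * y ∈ EE S
    rw [e2, show (u * y * u⁻¹)⁻¹ * y = u * (y⁻¹ * u⁻¹ * y⁻¹⁻¹) by group]
    exact mul_mem huE (EE_norm_KK S O (inv_mem hyK) (inv_mem huE))
  · intro i j hij q hi hj
    obtain ⟨⟨k, hk⟩, rfl⟩ := QuotientGroup.mk_surjective q
    have h1 := InW.mem S i (image_inW S O hk ((hiff i k hk).1 hi))
    have h2 := InW.mem S j (image_inW S O hk ((hiff j k hk).1 hj))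
    rw [QuotientGroup.eq_one_iff, mem_subgroupOf]
    rcases two_planes S i hij h1.1 h2.1 with e | e
    · exact absurd (conj_eq_one_iff.1 e) S.s_ne_one
    · exact s_of_cent S O hk (mul_inv_eq_iff_eq_mul.1 e)
  · intro i
    have hmem : ∀ q : {q | φ i q = q}, (q.1.out : G) * S.s * (q.1.out : G)⁻¹ ∈
        ({S.s, pw' S i, S.s * pw' S i} : Set G) := fun q => by
      have hq : φ i (QuotientGroup.mk q.1.out) = QuotientGroup.mk q.1.out := by
        rw [QuotientGroup.out_eq']; exact q.2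
      rcases image_inW S O q.1.out.2 ((hiff i _ _).1 hq) with e | e | e | e
      · exact absurd (conj_eq_one_iff.1 e) S.s_ne_one
      · exact Or.inl e
      · exact Or.inr (Or.inl e)
      · exact Or.inr (Or.inr e)
    rw [← Nat.card_coe_set_eq]
    refine (Nat.card_le_card_of_injective (fun q => (⟨_, hmem q⟩ : ({S.s, pw' S i, S.s * pw' S i} : Set G)))
      fun q r e => Subtype.ext ?_).trans ?_
    · have := eq_of_same S O q.1.out.2 r.1.out.2 (congrArg Subtype.val e)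
      rw [← QuotientGroup.out_eq' q.1, ← QuotientGroup.out_eq' r.1]
      exact (QuotientGroup.eq.2 (mem_subgroupOf.2 this)).symm
    · rw [Nat.card_coe_set_eq]
      exact le_trans (Set.ncard_insert_le _ _) (Nat.succ_le_succ (le_trans (Set.ncard_insert_le _ _)
        (by rw [Set.ncard_singleton])))

/-- Two fused planes: representatives commute modulo `E`, and the third plane is not fused. -/
theorem two_fix {i j : Fin 3} (hij : i ≠ j) (hi : Fix S KK i) (hj : Fix S KK j) :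
    (∃ k ∈ KK, ∃ l ∈ KK, k ∉ EE S ∧ l ∉ EE S ∧ pv S i * k * (pv S i)⁻¹ * k⁻¹ ∈ EE S ∧
      pv S j * l * (pv S j)⁻¹ * l⁻¹ ∈ EE S ∧ k * l * k⁻¹ * l⁻¹ ∈ EE S ∧
      (∀ u ∈ KK, u ∈ EE S ⊔ zpowers k ⊔ zpowers l)) ∧
      ∀ r, r ≠ i → r ≠ j → ¬ Fix S KK r := by
  haveI := EE_normal S O
  obtain ⟨φ, h2, hc, h3, hfix, hn, hiff, hform⟩ := exists_actions S O
  obtain ⟨hle, hodd⟩ := card_quot S O
  obtain ⟨k, hk, hkE, hkc⟩ := hi
  obtain ⟨l, hl, hlE, hlc⟩ := hj
  have hne : ∀ {u : G} (hu : u ∈ KK), u ∉ EE S →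
      (QuotientGroup.mk ⟨u, hu⟩ : KK ⧸ (EE S).subgroupOf KK) ≠ 1 := fun hu h e =>
    h (mem_subgroupOf.1 ((QuotientGroup.eq_one_iff _).1 e))
  obtain ⟨hcomm, hlast, hsup⟩ := OddAction.pair (φ i) (φ j) hodd hle (hc i j) (h2 i) (h2 j) (hfix i j hij) (hn i) (hn j)
    ((hiff i k hk).2 hkc) (hne hk hkE) ((hiff j l hl).2 hlc) (hne hl hlE)
  refine ⟨⟨k, hk, l, hl, hkE, hlE, hkc, hlc, ?_, ?_⟩, fun r hri hrj ⟨u, hu, huE, huc⟩ => hne hu huE
    (hlast _ (by rw [h3 i j r hij hri hrj]; exact (hiff r u hu).2 huc))⟩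
  · have := hcomm.eq
    rw [← QuotientGroup.mk_mul, ← QuotientGroup.mk_mul, QuotientGroup.eq, mem_subgroupOf] at this
    have h' := EE_norm_KK S O (mul_mem hk hl) (inv_mem this)
    simpa [mul_assoc] using h'
  intro u hu
  have hm : (QuotientGroup.mk ⟨u, hu⟩ : KK ⧸ (EE S).subgroupOf KK) ∈
      ((EE S ⊔ zpowers k ⊔ zpowers l).subgroupOf KK).map (QuotientGroup.mk' _) := by
    refine (hsup ▸ sup_le (zpowers_le.2 ?_) (zpowers_le.2 ?_) : (⊤ : Subgroup _) ≤ _) (mem_top _)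
    · exact ⟨⟨k, hk⟩, mem_subgroupOf.2 (mem_sup_left (mem_sup_right (mem_zpowers k))), rfl⟩
    · exact ⟨⟨l, hl⟩, mem_subgroupOf.2 (mem_sup_right (mem_zpowers l)), rfl⟩
  obtain ⟨⟨v, hv⟩, hvm, e⟩ := hm
  have e' : v⁻¹ * u ∈ EE S := (mk_eq_iff S O hv hu).1 e
  have := mul_mem (mem_subgroupOf.1 hvm) (mem_sup_left (mem_sup_left e') : v⁻¹ * u ∈ EE S ⊔ zpowers k ⊔ zpowers l)
  simpa using this

/-- One fused plane: its involution centralises the odd part modulo `E`, whose nontrivial cosets have order three. -/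
theorem one_fix {i : Fin 3} (hi : Fix S KK i) (h : ∀ j, j ≠ i → ¬ Fix S KK j) :
    (∀ k ∈ KK, pv S i * k * (pv S i)⁻¹ * k⁻¹ ∈ EE S ∧ k ^ 3 ∈ EE S) ∧
      ∀ j, j ≠ i → ∀ k ∈ KK, pv S j * k * (pv S j)⁻¹ * k ∈ EE S := by
  haveI := EE_normal S O
  obtain ⟨φ, h2, hc, h3, hfix, hn, hiff, hform⟩ := exists_actions S O
  obtain ⟨hle, hodd⟩ := card_quot S O
  have hfree : ∀ j, j ≠ i → ∀ q, φ j q = q → q = 1 := by
    intro j hj q hq
    obtain ⟨⟨k, hk⟩, rfl⟩ := QuotientGroup.mk_surjective q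
    by_contra hne
    exact h j hj ⟨k, hk, fun hE => hne ((QuotientGroup.eq_one_iff _).2 (mem_subgroupOf.2 hE)),
      (hiff j k hk).1 hq⟩
  obtain ⟨j, r, hji, hrj, hri⟩ := (show ∀ i : Fin 3, ∃ j r : Fin 3, j ≠ i ∧ r ≠ j ∧ r ≠ i by decide) i
  have hall : ∀ q, φ i q = q := OddAction.single (φ i) (φ j) (h2 j) (hc i j) (h2 i) (hfree j hji)
    (fun q hq => hfree r hri q (by rwa [h3 i j r (Ne.symm hji) hri hrj] at hq))
  refine ⟨fun k hk => ⟨(hiff i k hk).1 (hall _), ?_⟩, fun j hj k hk => ?_⟩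
  · by_cases hkE : k ∈ EE S
    · exact pow_mem hkE 3
    have hne : (QuotientGroup.mk ⟨k, hk⟩ : KK ⧸ (EE S).subgroupOf KK) ≠ 1 := fun e =>
      hkE (mem_subgroupOf.1 ((QuotientGroup.eq_one_iff _).1 e))
    have ho := OddAction.order_three (φ i) hodd (hn i) (hall _) hne
    have h1 := pow_orderOf_eq_one (QuotientGroup.mk ⟨k, hk⟩ : KK ⧸ (EE S).subgroupOf KK)
    rw [ho, ← QuotientGroup.mk_pow, QuotientGroup.eq_one_iff, mem_subgroupOf] at h1
    exact h1
  · have hinv := OddAction.inverts (φ j) (h2 j) (hfree j hj) (QuotientGroup.mk ⟨k⁻¹, inv_mem hk⟩)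
    rw [hform, ← QuotientGroup.mk_inv, QuotientGroup.eq, mem_subgroupOf] at hinv
    simpa [mul_assoc] using hinv

end CfsgLib.Recognition.ExtraspecialThirtyTwo.AltCase
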