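import Cfsg.Agent.Lib.Recognition.ExtraspecialThirtyTwo.AltCase.Assembly
import Cfsg.Agent.Lib.Recognition.ExtraspecialThirtyTwo.AltCase.Final

/-!
# The case of the alternating groups of degree eight and nine
-/

set_option autoImplicit false
set_option linter.unusedSectionVars false

namespace CfsgLib.Recognition.ExtraspecialThirtyTwo.AltCase

/-- A simple group with a centraliser of the first type is `A8` or `A9`. -/
theorem alt_cases {G : Type*} [Group G] [Finite G] (hsimp : IsSimpleGroup G) (S : St G) :
    Nonempty (G ≃* alternatingGroup (Fin 8)) ∨ Nonempty (G ≃* alternatingGroup (Fin 9)) := by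
  obtain ⟨B, ⟨e⟩, hL, -, hu⟩ := exists_data S
  exact final S B e hL hu

end CfsgLib.Recognition.ExtraspecialThirtyTwo.AltCase
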