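import Cfsg.Agent.Lib.Recognition.ExtraspecialThirtyTwo.AltCase.Planes
import Cfsg.Agent.Lib.Involution.Basic

/-!
# The normaliser of `E`

`E` is weakly closed, so that its normaliser controls the fusion of its elements, and that normaliser is an
extension of a group containing `E` with odd index by the Sylow subgroup.
-/

set_option autoImplicit false
set_option linter.unusedSectionVars false
set_option linter.unusedVariables false
set_option linter.style.haveILetI false
set_option maxRecDepth 40000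

namespace CfsgLib.Recognition.ExtraspecialThirtyTwo.AltCase

open Subgroup Code

theorem s_comm : ∀ k < 192, inS k = true → ∀ l < 192, inS l = true → inE (mu (cj k l) (invC false false l)) = true := by
  decide +kernel

theorem e_reach : ∀ k < 192, inE k = true → 2 ≤ k →
    ((List.range 192).any fun a => inS a && (Nat.beq (mu (cj a k) k) 1 ||
      ((List.range 192).any fun b => inS b && Nat.beq (mu (cj b (mu (cj a k) k)) (mu (cj a k) k)) 1))) = true := by
  decide +kernel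

variable {G : Type*} [Group G] [Finite G] (S : St G)

/-- The normaliser of `E`. -/
def NN : Subgroup G := normalizer (EE S : Set G)

theorem conj_mem_EE {n u : G} (hn : n ∈ NN S) (hu : u ∈ EE S) : n * u * n⁻¹ ∈ EE S :=
  (mem_normalizer_iff.1 hn u).1 hu

theorem mem_NN {n : G} (h : ∀ u ∈ EE S, n * u * n⁻¹ ∈ EE S) : n ∈ NN S := by
  have hmap : (EE S).map (MulAut.conj n).toMonoidHom = EE S := by
    refine Subgroup.eq_of_le_of_card_ge ?_ (le_of_eq (Nat.card_congr
      (Subgroup.equivMapOfInjective _ _ (MulAut.conj n).injective).toEquiv))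
    rintro _ ⟨u, hu, rfl⟩
    exact h u hu
  refine mem_normalizer_iff.2 fun u => ⟨h u, fun hu => ?_⟩
  rw [← hmap] at hu
  obtain ⟨v, hv, e⟩ := hu
  simp only [MulEquiv.coe_toMonoidHom, MulAut.conj_apply, mul_left_inj, mul_right_inj] at e
  exact e ▸ hv

theorem SS_le_NN : SS S ≤ NN S := fun u hu => mem_NN S fun v hv => SS_norm S hu hv

theorem SS_cap_cent {n : G} (hn : n ∈ NN S) (hc : Commute n S.s) : n ∈ SS S :=
  mem_SS S hc fun _ hu => conj_mem_EE S hn hu

theorem mem_NN_of_le {g : G} (h : ∀ u ∈ EE S, g * u * g⁻¹ ∈ SS S) : g ∈ NN S := by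
  have hc : Nat.card ((EE S).map (MulAut.conj g).toMonoidHom : Subgroup G) = 16 := by
    rw [← Nat.card_congr (Subgroup.equivMapOfInjective _ _ (MulAut.conj g).injective).toEquiv, card_EE]
  have he := eq_EE S (F := (EE S).map (MulAut.conj g).toMonoidHom)
    (by rintro _ ⟨u, hu, rfl⟩; exact h u hu) hc
    (by rintro _ ⟨u, hu, rfl⟩; rw [← map_mul, EE_sq S hu, map_one])
    (by rintro _ ⟨u, hu, rfl⟩ _ ⟨v, hv, rfl⟩; exact (EE_comm S hu hv).map _)
  exact mem_NN S fun u hu => he ▸ ⟨u, hu, rfl⟩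

/-- The normaliser of `E` controls the fusion of its elements, also inside the centraliser of one of them. -/
theorem fusion {u v g : G} (hu : u ∈ EE S) (hv : v ∈ EE S) (hg : g * u * g⁻¹ = v) (z : G) (hz : z ∈ EE S)
    (hgz : Commute g z) : ∃ n ∈ NN S, Commute n z ∧ n * u * n⁻¹ = v := by
  haveI : Fact (Nat.Prime 2) := ⟨Nat.prime_two⟩
  set H : Subgroup G := centralizer ({v, z} : Set G) with hH
  have memH : ∀ w, w ∈ H ↔ Commute v w ∧ Commute z w := fun w => by
    rw [hH, mem_centralizer_iff]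
    simp only [Set.mem_insert_iff, Set.mem_singleton_iff, forall_eq_or_imp, forall_eq]
    rfl
  have hp : ∀ F : Subgroup G, Nat.card F = 16 → IsPGroup 2 F := fun F hF =>
    IsPGroup.of_card (n := 4) (by rw [hF]; norm_num)
  have hE : EE S ≤ H := fun w hw => (memH w).2 ⟨EE_comm S hv hw, EE_comm S hz hw⟩
  set F := (EE S).map (MulAut.conj g).toMonoidHom with hF
  have hFc : Nat.card F = 16 := by
    rw [hF, ← Nat.card_congr (Subgroup.equivMapOfInjective _ _ (MulAut.conj g).injective).toEquiv, card_EE]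
  have hFH : F ≤ H := by
    rintro _ ⟨w, hw, rfl⟩
    refine (memH _).2 ⟨?_, ?_⟩
    · rw [← hg]
      exact (EE_comm S hu hw).map (MulAut.conj g).toMonoidHom
    · have h := (EE_comm S hz hw).map (MulAut.conj g).toMonoidHom
      have : (MulAut.conj g).toMonoidHom z = z := by
        show g * z * g⁻¹ = z
        rw [hgz.eq, mul_inv_cancel_right]
      rwa [this] at h
  obtain ⟨P, hP⟩ := ((hp _ (card_EE S)).of_equiv (subgroupOfEquivOfLe hE).symm).exists_le_sylow
  obtain ⟨h, hh⟩ := CfsgLib.Involution.Basic.exists_conj_le P ((hp _ hFc).of_equiv (subgroupOfEquivOfLe hFH).symm)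
  obtain ⟨Q, hQ⟩ := exists_sylow S
  obtain ⟨k, hk⟩ := CfsgLib.Involution.Basic.exists_conj_le Q (P.2.map H.subtype)
  have kE : k ∈ NN S := mem_NN_of_le S fun w hw => by
    rw [← hQ]
    exact hk w ⟨⟨w, hE hw⟩, hP (mem_subgroupOf.2 hw), rfl⟩
  have khg : k * (h : G) * g ∈ NN S := mem_NN_of_le S fun w hw => by
    rw [← hQ]
    have hwF : g * w * g⁻¹ ∈ F := ⟨w, hw, rfl⟩
    have := hk _ ⟨_, hh ⟨g * w * g⁻¹, hFH hwF⟩ (mem_subgroupOf.2 hwF), rfl⟩
    exact SetLike.mem_coe.1 (by simpa [mul_assoc] using this)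
  obtain ⟨hv', hz'⟩ := (memH _).1 h.2
  refine ⟨(h : G) * g, ?_, (Commute.mul_left hz'.symm hgz), ?_⟩
  · have := mul_mem (inv_mem kE) khg
    simpa [mul_assoc] using this
  · calc (h : G) * g * u * ((h : G) * g)⁻¹ = (h : G) * (g * u * g⁻¹) * (h : G)⁻¹ := by group
      _ = v := by rw [hg, ← hv'.eq, mul_inv_cancel_right]

theorem fusion_free {u v g : G} (hu : u ∈ EE S) (hv : v ∈ EE S) (hg : g * u * g⁻¹ = v) :
    ∃ n ∈ NN S, n * u * n⁻¹ = v := by
  obtain ⟨n, hn, -, h⟩ := fusion S hu hv hg 1 (one_mem _) (Commute.one_right g)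
  exact ⟨n, hn, h⟩

theorem not_two_dvd_index_SS : ¬ 2 ∣ (SS S).index := by
  haveI : Fact (Nat.Prime 2) := ⟨Nat.prime_two⟩
  obtain ⟨P, hP⟩ := exists_sylow S
  rw [← hP]
  exact P.not_dvd_index

/-- The odd part of the normaliser of `E`. -/
structure OddPart (KK : Subgroup G) : Prop where
  le : KK ≤ NN S
  ge : EE S ≤ KK
  cap : ∀ u ∈ KK, u ∈ SS S → u ∈ EE S
  cover : ∀ n ∈ NN S, ∃ k ∈ KK, ∃ σ ∈ SS S, n = k * σ
  conj : ∀ σ ∈ SS S, ∀ k ∈ KK, σ * k * σ⁻¹ ∈ KK
  odd : ∃ m, Odd m ∧ Nat.card KK = 16 * m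

theorem exists_oddPart : ∃ KK : Subgroup G, OddPart S KK := by
  haveI : Fact (Nat.Prime 2) := ⟨Nat.prime_two⟩
  let N : Subgroup G := NN S
  have hEN : EE S ≤ N := le_trans (EE_le S) (SS_le_NN S)
  let EN : Subgroup N := (EE S).subgroupOf N
  haveI hn : EN.Normal := ⟨fun u hu n => mem_subgroupOf.2 (conj_mem_EE S n.2 (mem_subgroupOf.1 hu))⟩
  let π := QuotientGroup.mk' EN
  let SN : Subgroup N := (SS S).subgroupOf N
  have hle : π.ker ≤ SN := by
    rw [show π.ker = EN from QuotientGroup.ker_mk' _]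
    exact fun u hu => mem_subgroupOf.2 (EE_le S (mem_subgroupOf.1 hu))
  have hcomap : (SN.map π).comap π = SN := by rw [comap_map_eq, sup_eq_left.2 hle]
  have hidx : ¬ 2 ∣ (SN.map π).index := by
    rw [Subgroup.index_map_eq _ (QuotientGroup.mk'_surjective EN) hle]
    intro h
    refine not_two_dvd_index_SS S (h.trans ?_)
    rw [← Subgroup.relIndex_mul_index (SS_le_NN S)]
    exact dvd_mul_right _ _
  let P : Sylow 2 (N ⧸ EN) := (((isPGroup_SS S).of_equiv
    (subgroupOfEquivOfLe (SS_le_NN S)).symm).map π).toSylow hidx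
  have hP : (P : Subgroup (N ⧸ EN)) = SN.map π := rfl
  have hN : normalizer ((P : Subgroup (N ⧸ EN)) : Set (N ⧸ EN)) ≤ centralizer ((P : Subgroup (N ⧸ EN)) : Set (N ⧸ EN)) := by
    intro x hx
    obtain ⟨n, rfl⟩ := QuotientGroup.mk'_surjective EN x
    have hconj : ∀ σ : N, σ ∈ SN → n * σ * n⁻¹ ∈ SN := fun σ hσ => by
      rw [← hcomap, mem_comap]
      have := (mem_normalizer_iff.1 hx (π σ)).1 (hP ▸ mem_map_of_mem π hσ)
      rw [hP] at this
      rw [map_mul, map_mul, map_inv]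
      exact this
    have hconj' : ∀ σ : N, σ ∈ SN → n⁻¹ * σ * n ∈ SN := fun σ hσ => by
      rw [← hcomap, mem_comap]
      have := (mem_normalizer_iff.1 (inv_mem hx) (π σ)).1 (hP ▸ mem_map_of_mem π hσ)
      rw [hP] at this
      rw [map_mul, map_mul, map_inv]
      simpa only [inv_inv] using this
    have hnS : (n : G) ∈ SS S := by
      refine SS_cap_cent S n.2 ?_
      have hs := EE_le S (s_mem_EE S)
      rcases SS_centre S (mem_subgroupOf.1 (hconj ⟨S.s, SS_le_NN S hs⟩ (mem_subgroupOf.2 hs))) (fun v hv => by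
        obtain ⟨k, hk, -, e⟩ := mem_subgroupOf.1 (hconj' ⟨v, SS_le_NN S hv⟩ (mem_subgroupOf.2 hv))
        have hc := (S.commute_el hk).symm
        rw [e] at hc
        have h2 := hc.map (MulAut.conj (n : G)).toMonoidHom
        simpa [mul_assoc] using h2) with h | h
      · exact absurd (conj_eq_one_iff.1 h) S.s_ne_one
      · exact mul_inv_eq_iff_eq_mul.1 h
    rw [mem_centralizer_iff]
    intro y hy
    rw [hP] at hy
    obtain ⟨σ, hσ, rfl⟩ := hy
    show π σ * π n = π n * π σ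
    rw [← map_mul, ← map_mul, QuotientGroup.mk'_eq_mk']
    refine ⟨(σ * n)⁻¹ * (n * σ), mem_subgroupOf.2 ?_, by group⟩
    obtain ⟨a, ha, fa, ea⟩ := inv_mem hnS
    obtain ⟨b, hb, fb, eb⟩ := inv_mem (mem_subgroupOf.1 hσ)
    have := (el_mem_EE S (mulC_lt _ _ _ (conjC_lt _ _ ha hb) _ (invC_check _ _ b hb).1)).2 (s_comm a ha fa b hb fb)
    rw [S.el_mul (conjC_lt _ _ ha hb) (invC_check _ _ b hb).1, S.el_conjC ha hb, S.el_invC hb, ea, eb,
      inv_inv, inv_inv] at this
    simpa [mul_assoc] using this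
  let f := MonoidHom.transferSylow P hN
  have hc : f.ker.IsComplement' (P : Subgroup (N ⧸ EN)) := MonoidHom.ker_transferSylow_isComplement' P hN
  let KN : Subgroup N := f.ker.comap π
  have hKcard : Nat.card KN = 16 * Nat.card f.ker := by
    have h1 := Subgroup.card_eq_card_quotient_mul_card_subgroup (EN.subgroupOf KN)
    have hEK : EN ≤ KN := fun u hu => by
      rw [mem_comap, show π u = 1 from (QuotientGroup.eq_one_iff u).2 hu]
      exact one_mem _
    rw [Nat.card_congr (subgroupOfEquivOfLe hEK).toEquiv, Nat.card_congr (subgroupOfEquivOfLe hEN).toEquiv,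
      card_EE] at h1
    rw [h1, mul_comm]
    congr 1
    have h2 := Subgroup.index_ker (π.comp KN.subtype)
    have hker : (π.comp KN.subtype).ker = EN.subgroupOf KN := by
      ext u
      rw [MonoidHom.mem_ker, mem_subgroupOf, MonoidHom.comp_apply]
      exact QuotientGroup.eq_one_iff _
    rw [hker, MonoidHom.range_comp, range_subtype, Subgroup.map_comap_eq_self_of_surjective
      (QuotientGroup.mk'_surjective EN)] at h2
    exact h2
  refine ⟨KN.map N.subtype, ⟨map_subtype_le _, ?_, ?_, ?_, ?_, ?_⟩⟩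
  · intro u hu
    exact ⟨⟨u, hEN hu⟩, by
      show π _ ∈ f.ker
      rw [show π ⟨u, hEN hu⟩ = 1 from (QuotientGroup.eq_one_iff _).2 (mem_subgroupOf.2 hu)]
      exact one_mem _, rfl⟩
  · rintro _ ⟨u, hu, rfl⟩ huS
    have h1 : π u ∈ f.ker ⊓ (P : Subgroup (N ⧸ EN)) :=
      ⟨hu, hP ▸ mem_map_of_mem π (mem_subgroupOf.2 huS)⟩
    rw [disjoint_iff.1 hc.disjoint, mem_bot] at h1
    exact mem_subgroupOf.1 ((QuotientGroup.eq_one_iff u).1 h1)
  · intro n hn'
    obtain ⟨⟨⟨k, hk⟩, ⟨σ, hσ⟩⟩, e⟩ := hc.2 (π ⟨n, hn'⟩)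
    obtain ⟨k', rfl⟩ := QuotientGroup.mk'_surjective EN k
    simp only at e
    have hσ' : k'⁻¹ * ⟨n, hn'⟩ ∈ SN := by
      rw [← hcomap, mem_comap, map_mul, map_inv, ← e, inv_mul_cancel_left]
      exact hP ▸ hσ
    exact ⟨k', ⟨k', hk, rfl⟩, _, mem_subgroupOf.1 hσ', by simp⟩
  · rintro σ hσ _ ⟨k, hk, rfl⟩
    refine ⟨⟨σ, SS_le_NN S hσ⟩ * k * ⟨σ, SS_le_NN S hσ⟩⁻¹, ?_, rfl⟩
    show π _ ∈ f.ker
    rw [map_mul, map_mul, map_inv]
    exact MonoidHom.normal_ker f |>.conj_mem _ hk _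
  · refine ⟨Nat.card f.ker, ?_, ?_⟩
    · rw [Nat.odd_iff, ← Nat.two_dvd_ne_zero]
      exact MonoidHom.not_dvd_card_ker_transferSylow P hN
    · rw [← hKcard, Nat.card_congr (Subgroup.equivMapOfInjective _ _ N.subtype_injective).toEquiv.symm]

theorem el_comm_s {u : G} (hu : u ∈ SS S) : Commute u S.s :=
  mem_centralizer_singleton_iff.1 (SS_le S hu)

/-- A nontrivial subgroup of `E` normalised by the Sylow subgroup contains `s`. -/
theorem s_mem_of_invariant (F : Subgroup G) {u : G} (hu : u ∈ F) (huE : u ∈ EE S) (hu1 : u ≠ 1)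
    (hF : ∀ σ ∈ SS S, ∀ w ∈ F, σ * w * σ⁻¹ ∈ F) : S.s ∈ F := by
  obtain ⟨k, hk, fk, rfl⟩ := huE
  by_cases h2 : k < 2
  · interval_cases k
    · exact absurd S.el_zero hu1
    · exact S.el_one ▸ hu
  obtain ⟨a, ha, h⟩ := List.any_eq_true.1 (e_reach k hk fk (by omega))
  rw [List.mem_range] at ha
  simp only [Bool.and_eq_true, Bool.or_eq_true, List.any_eq_true, List.mem_range, Nat.beq_eq] at h
  obtain ⟨fa, h⟩ := h
  have step : ∀ {c j : ℕ}, c < 192 → inS c = true → j < 192 → S.el j ∈ F → S.el (mu (cj c j) j) ∈ F :=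
    fun {c j} hc fc hj hjF => by
      rw [S.el_mul (conjC_lt _ _ hc hj) hj, S.el_conjC hc hj]
      exact mul_mem (hF _ ((el_mem_SS S hc).2 fc) _ hjF) hjF
  have h1 := step ha fa hk hu
  rcases h with e | ⟨b, hb, fb, e⟩
  · rw [← S.el_one, ← e]; exact h1
  · have h2 := step hb fb (mulC_lt _ _ _ (conjC_lt _ _ ha hk) k hk) h1
    rw [← S.el_one, ← e]; exact h2

end CfsgLib.Recognition.ExtraspecialThirtyTwo.AltCase
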