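import Cfsg.Agent.Lib.Recognition.ExtraspecialThirtyTwo.AltCase.Fusion

/-!
# One fused plane

The normaliser of the plane would contain the centraliser of each of its involutions, which is impossible in a
simple group with two classes of involutions.
-/

set_option autoImplicit false
set_option linter.unusedSectionVars false
set_option linter.unusedVariables false
set_option linter.style.haveILetI false
set_option maxRecDepth 40000

namespace CfsgLib.Recognition.ExtraspecialThirtyTwo.AltCase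

open Subgroup Code
open CfsgLib.Involution.Dihedral (ne_one mul_self orderOf_eq_two)

theorem p_three : ∀ i r j l : Fin 3, r ≠ i → j ≠ i → l ≠ i → inE (mu (mu (vC r) (vC j)) (vC l)) = false := by
  decide +kernel

theorem s_cases : ∀ k < 192, inS k = true →
    inE k = true ∨ inE (mu k (vC 0)) = true ∨ inE (mu k (vC 1)) = true ∨ inE (mu k (vC 2)) = true := by
  decide +kernel

theorem p_split : ∀ i, ∀ k < 192, inP i k = true → inW i k = true ∨ inW i (mu k (vC i)) = true := by decide +kernel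

variable {G : Type*} [Group G] [Finite G] (S : St G)

theorem SS_cases {σ : G} (h : σ ∈ SS S) : σ ∈ EE S ∨ ∃ j : Fin 3, σ * pv S j ∈ EE S := by
  obtain ⟨k, hk, fk, rfl⟩ := h
  have key : ∀ j : Fin 3, inE (mu k (vC j)) = true → S.el k * pv S j ∈ EE S := fun j hj => by
    rw [pv, ← S.el_mul hk (p_gens j).2.2.2.2.2.2.2.1]
    exact (el_mem_EE S (mulC_lt _ _ _ hk _ (p_gens j).2.2.2.2.2.2.2.1)).2 hj
  rcases s_cases k hk fk with h | h | h | h
  · exact Or.inl ((el_mem_EE S hk).2 h)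
  all_goals exact Or.inr ⟨_, key _ h⟩

theorem three_ne {i r j l : Fin 3} (hr : r ≠ i) (hj : j ≠ i) (hl : l ≠ i)
    (h : pv S r * pv S j * pv S l ∈ EE S) : False := by
  have r0 := (p_gens r).2.2.2.2.2.2.2.1
  have j0 := (p_gens j).2.2.2.2.2.2.2.1
  have l0 := (p_gens l).2.2.2.2.2.2.2.1
  rw [pv, pv, pv, ← S.el_mul r0 j0, ← S.el_mul (mulC_lt _ _ _ r0 _ j0) l0,
    el_mem_EE S (mulC_lt _ _ _ (mulC_lt _ _ _ r0 _ j0) _ l0)] at h
  have h' := p_three i r j l hr hj hl
  rw [mu, mu] at *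
  simp_all

theorem PP_cases {i : Fin 3} {u : G} (h : u ∈ PP S i) : InW S i u ∨ InW S i (u * pv S i) := by
  obtain ⟨k, hk, fk, rfl⟩ := h
  rcases p_split i k hk fk with h | h
  · exact Or.inl (inW_el S i h)
  · refine Or.inr ?_
    rw [pv, ← S.el_mul hk (p_gens i).2.2.2.2.2.2.2.1]
    exact inW_el S i h

theorem flip_pow {x y : G} (hx : x * x = 1) (hy : y * y = 1) (j : ℕ) :
    ((x * y) ^ j)⁻¹ * x = x * (x * y) ^ j ∧ (x * y) ^ j * x = x * ((x * y) ^ j)⁻¹ := by
  have hxi : x⁻¹ = x := inv_eq_of_mul_eq_one_right hx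
  have hyi : y⁻¹ = y := inv_eq_of_mul_eq_one_right hy
  have h : x * (x * y) * x⁻¹ = (x * y)⁻¹ := by rw [mul_inv_rev, hxi, hyi, ← mul_assoc, hx, one_mul]
  have h' := CfsgLib.Involution.Dihedral.conj_pow h j
  rw [hxi] at h'
  constructor
  · rw [← h', mul_assoc, hx, mul_one]
  · rw [← h']; simp only [← mul_assoc, hx, one_mul]

/-- The product with the middle power is conjugate to one of the factors. -/
theorem half_conj {x y : G} (hx : x * x = 1) (hy : y * y = 1) {m : ℕ} :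
    IsConj x (x * (x * y) ^ m) ∨ IsConj y (x * (x * y) ^ m) := by
  rcases Nat.even_or_odd' m with ⟨j, rfl | rfl⟩
  · left
    refine isConj_iff.2 ⟨((x * y) ^ j)⁻¹, ?_⟩
    rw [inv_inv, (flip_pow hx hy j).1, mul_assoc, ← pow_add, two_mul]
  · right
    refine isConj_iff.2 ⟨((x * y) ^ j)⁻¹, ?_⟩
    calc ((x * y) ^ j)⁻¹ * y * ((x * y) ^ j)⁻¹⁻¹ = ((x * y) ^ j)⁻¹ * x * (x * y) * (x * y) ^ j := by
          rw [inv_inv, mul_assoc (((x * y) ^ j)⁻¹) x, ← mul_assoc x x y, hx, one_mul]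
      _ = x * (x * y) ^ (2 * j + 1) := by
          rw [(flip_pow hx hy j).1, mul_assoc, mul_assoc, ← pow_succ', ← pow_add]; congr 2; omega

theorem conj_of_odd_prod {x y : G} (hx : x * x = 1) (hy : y * y = 1) {j : ℕ} (h : (x * y) ^ (2 * j + 1) = 1) :
    (x * y) ^ j * x * ((x * y) ^ j)⁻¹ = y := by
  rw [(flip_pow hx hy j).2, mul_assoc, ← mul_inv_rev, ← pow_add, ← two_mul,
    inv_eq_of_mul_eq_one_right (show (x * y) ^ (2 * j) * (x * y) = 1 by rw [← pow_succ]; exact h),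
    ← mul_assoc, hx, one_mul]

variable {KK : Subgroup G} (O : OddPart S KK) {i : Fin 3} (hi : Fix S KK i)
  (hone : ∀ j, j ≠ i → ¬ Fix S KK j)
include O hi hone

theorem conj_EE_inW {u : G} (hu : u ∈ EE S) (hc : IsConj S.s u) : InW S i u := by
  obtain ⟨g, hg⟩ := isConj_iff.1 hc
  obtain ⟨n, hn, hns⟩ := fusion_free S (s_mem_EE S) hu hg
  obtain ⟨k, hk, σ, hσ, rfl⟩ := O.cover n hn
  have hks : k * S.s * k⁻¹ = u := by
    rw [← hns]
    calc k * S.s * k⁻¹ = k * (σ * S.s * σ⁻¹) * k⁻¹ := by rw [(el_comm_s S hσ).eq, mul_inv_cancel_right]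
      _ = _ := by group
  exact hks ▸ image_inW S O hk ((one_fix S O hi hone).1 k hk).1

theorem clique {u : G} (hc : IsConj S.s u) (hu : Commute u S.s) : u ∈ PP S i := by
  have h2 : u * u = 1 := by
    obtain ⟨g, rfl⟩ := isConj_iff.1 hc
    rw [show g * S.s * g⁻¹ * (g * S.s * g⁻¹) = g * (S.s * S.s) * g⁻¹ by group, S.ss]; group
  obtain ⟨g, hg, hE⟩ := exists_conj_EE S hu h2
  have h := PP_conj S i hg.inv_left
    (InW.mem S i (conj_EE_inW S O hi hone hE (hc.trans (isConj_iff.2 ⟨g, rfl⟩)))).1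
  simpa [mul_assoc] using h

/-- An element carrying `s` into the plane normalises it. -/
theorem mem_M {g : G} (hg : g * S.s * g⁻¹ ∈ PP S i) : g ∈ normalizer (PP S i : Set G) := by
  set F := (PP S i).map (MulAut.conj g).toMonoidHom with hF
  have hle : PP S i ≤ F := by
    intro u hu
    refine ⟨g⁻¹ * u * g, ?_, by simp [mul_assoc]⟩
    by_cases h1 : u = 1
    · simp [h1]
    have hcu : Commute u (g * S.s * g⁻¹) := PP_comm S i hu hg
    refine clique S O hi hone ((conj_of_fix S O hi hu h1).trans (isConj_iff.2 ⟨g⁻¹, by group⟩)) ?_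
    show g⁻¹ * u * g * S.s = S.s * (g⁻¹ * u * g)
    calc g⁻¹ * u * g * S.s = g⁻¹ * (u * (g * S.s * g⁻¹)) * g := by group
      _ = g⁻¹ * (g * S.s * g⁻¹ * u) * g := by rw [hcu.eq]
      _ = _ := by group
  have heq : PP S i = F := Subgroup.eq_of_le_of_card_ge hle
    (le_of_eq (Nat.card_congr (Subgroup.equivMapOfInjective _ _ (MulAut.conj g).injective).toEquiv).symm)
  refine mem_normalizer_iff.2 fun u => ⟨fun hu => ?_, fun hu => ?_⟩
  · rw [heq]
    exact ⟨u, hu, rfl⟩
  · rw [heq] at hu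
    obtain ⟨v, hv, e⟩ := hu
    simp only [MulEquiv.coe_toMonoidHom, MulAut.conj_apply, mul_left_inj, mul_right_inj] at e
    exact e ▸ hv

theorem L_le_M {g : G} (hg : Commute g S.s) : g ∈ normalizer (PP S i : Set G) :=
  mem_M S O hi hone (by rw [hg.eq, mul_inv_cancel_right]; exact s_mem_PP S i)

theorem NN_le_M {n : G} (hn : n ∈ NN S) : n ∈ normalizer (PP S i : Set G) :=
  mem_M S O hi hone (InW.mem S i (conj_EE_inW S O hi hone (conj_mem_EE S hn (s_mem_EE S))
    (isConj_iff.2 ⟨n, rfl⟩))).1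

theorem cent_PP {p g : G} (hp : p ∈ PP S i) (hp1 : p ≠ 1) (hg : Commute g p) :
    g ∈ normalizer (PP S i : Set G) := by
  obtain ⟨h, hh⟩ := isConj_iff.1 (conj_of_fix S O hi hp hp1)
  have h1 : h ∈ normalizer (PP S i : Set G) := mem_M S O hi hone (hh ▸ hp)
  have h2 : g * h ∈ normalizer (PP S i : Set G) := mem_M S O hi hone (by
    rw [show g * h * S.s * (g * h)⁻¹ = g * (h * S.s * h⁻¹) * g⁻¹ by group, hh, hg.eq, mul_inv_cancel_right]
    exact hp)
  simpa using mul_mem h2 (inv_mem h1)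

/-- A conjugate of `s` commuting with a nontrivial element of the plane lies in it. -/
theorem clique' {p u : G} (hp : p ∈ PP S i) (hp1 : p ≠ 1) (hc : IsConj S.s u) (hu : Commute u p) :
    u ∈ PP S i := by
  obtain ⟨h, hh⟩ := isConj_iff.1 (conj_of_fix S O hi hp hp1)
  have hM : h ∈ normalizer (PP S i : Set G) := mem_M S O hi hone (hh ▸ hp)
  have := clique S O hi hone (u := h⁻¹ * u * h) (hc.trans (isConj_iff.2 ⟨h⁻¹, by group⟩)) (by
    show h⁻¹ * u * h * S.s = S.s * (h⁻¹ * u * h)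
    calc h⁻¹ * u * h * S.s = h⁻¹ * (u * (h * S.s * h⁻¹)) * h := by group
      _ = h⁻¹ * (h * S.s * h⁻¹ * u) * h := by rw [hh, hu.eq]
      _ = _ := by group)
  have h3 := (mem_normalizer_iff.1 hM _).1 this
  simpa [mul_assoc] using h3

/-- Two conjugates of `s` with product of even order commute. -/
theorem odd_of_noncomm {u : G} (hc : IsConj S.s u) (hnc : ¬ Commute u S.s) :
    ∃ j, (S.s * u) ^ (2 * j + 1) = 1 := by
  have hu : u * u = 1 := by
    obtain ⟨g, rfl⟩ := isConj_iff.1 hc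
    rw [show g * S.s * g⁻¹ * (g * S.s * g⁻¹) = g * (S.s * S.s) * g⁻¹ by group, S.ss]; group
  have hs2 : orderOf S.s = 2 := S.orderOf_s
  have hu2 : orderOf u = 2 := by
    obtain ⟨g, rfl⟩ := isConj_iff.1 hc
    rw [show g * S.s * g⁻¹ = MulAut.conj g S.s from rfl, MulEquiv.orderOf_eq, hs2]
  rcases Nat.even_or_odd (orderOf (S.s * u)) with hev | ⟨j, hj⟩
  swap
  · exact ⟨j, hj ▸ pow_orderOf_eq_one _⟩
  exfalso
  set z := (S.s * u) ^ (orderOf (S.s * u) / 2) with hz
  have hzs : Commute S.s z := (CfsgLib.Involution.Dihedral.half_commute_left hs2 hu2 hev).symm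
  have hzu : Commute u z := (CfsgLib.Involution.Dihedral.half_commute_right hs2 hu2 hev).symm
  have hsz : IsConj S.s (S.s * z) := by
    rcases half_conj S.ss hu (m := orderOf (S.s * u) / 2) with h | h
    · exact h
    · exact hc.trans h
  have hP : S.s * z ∈ PP S i := clique S O hi hone hsz ((Commute.refl S.s).mul_left hzs.symm)
  have hzP : z ∈ PP S i := by
    have := mul_mem (s_mem_PP S i) hP
    rwa [← mul_assoc, S.ss, one_mul] at this
  have hz1 : z ≠ 1 := ne_one (CfsgLib.Involution.Dihedral.half_orderOf hev)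
  exact hnc (PP_comm S i (clique' S O hi hone hzP hz1 hc hzu) (s_mem_PP S i))

/-- The normalisation of a fixed point of an element of the odd part. -/
theorem KK_free {k z : G} (hk : k ∈ KK) (hz : z ∈ EE S) (hz1 : z ≠ 1) (hc : Commute k z) : k ∈ EE S := by
  let F : Subgroup G := EE S ⊓ centralizer ({k} : Set G)
  refine s_of_cent S O hk ?_
  have hs : S.s ∈ F := by
    refine s_mem_of_invariant S F (u := z) ⟨hz, mem_centralizer_singleton_iff.2 hc.symm.eq⟩ hz hz1
      fun σ hσ w hw => ⟨SS_norm S hσ hw.1, mem_centralizer_singleton_iff.2 ?_⟩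
    have hwk : Commute w k := mem_centralizer_singleton_iff.1 hw.2
    have hσ' : σ⁻¹ ∈ SS S := inv_mem hσ
    suffices h : Commute w (σ⁻¹ * k * σ) by
      calc σ * w * σ⁻¹ * k = σ * (w * (σ⁻¹ * k * σ)) * σ⁻¹ := by group
        _ = σ * (σ⁻¹ * k * σ * w) * σ⁻¹ := by rw [h.eq]
        _ = _ := by group
    have key : ∃ e ∈ EE S, σ⁻¹ * k * σ = e * k ∨ σ⁻¹ * k * σ = e * k⁻¹ := by
      rcases SS_cases S hσ' with h | ⟨j, h⟩
      · refine ⟨σ⁻¹ * (k * σ * k⁻¹), mul_mem h (EE_norm_KK S O hk ?_), Or.inl (by group)⟩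
        simpa using inv_mem h
      · set e := σ⁻¹ * pv S j with he
        have e2 : σ⁻¹ = e * pv S j := by rw [he, mul_assoc, v_sq, mul_one]
        have e3 : σ = pv S j * e⁻¹ := by
          rw [← inv_inv σ, e2, mul_inv_rev, v_inv]
        have hform : σ⁻¹ * k * σ = e * (pv S j * k * (pv S j)⁻¹) * e⁻¹ := by
          rw [v_inv, e2, e3]; group
        by_cases hji : j = i
        · obtain ⟨f, hf, ef⟩ : ∃ f ∈ EE S, pv S j * k * (pv S j)⁻¹ = f * k :=
            ⟨_, hji ▸ ((one_fix S O hi hone).1 k hk).1, by subst hji; group⟩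
          refine ⟨e * f * (k * e⁻¹ * k⁻¹), mul_mem (mul_mem h hf) (EE_norm_KK S O hk (inv_mem h)), Or.inl ?_⟩
          rw [hform, ef]; group
        · obtain ⟨f, hf, ef⟩ : ∃ f ∈ EE S, pv S j * k * (pv S j)⁻¹ = f * k⁻¹ :=
            ⟨_, (one_fix S O hi hone).2 j hji k hk, by group⟩
          refine ⟨e * f * (k⁻¹ * e⁻¹ * k⁻¹⁻¹), mul_mem (mul_mem h hf)
            (EE_norm_KK S O (inv_mem hk) (inv_mem h)), Or.inr ?_⟩
          rw [hform, ef]; group
    obtain ⟨e, he, e' | e'⟩ := key <;> rw [e']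
    · exact (EE_comm S hw.1 he).mul_right hwk
    · exact (EE_comm S hw.1 he).mul_right hwk.inv_right
  exact (mem_centralizer_singleton_iff.1 hs.2).symm

/-- An element of `C(z) ∩ N(E)` outside the Sylow subgroup moves `z` into another plane. -/
theorem bad_form {z k σ : G} (hz : z ∈ EE S) (hz1 : z ≠ 1) (hk : k ∈ KK) (hkE : k ∉ EE S) (hσ : σ ∈ SS S)
    (hc : Commute (k * σ) z) : ∃ j, j ≠ i ∧ σ * pv S j ∈ EE S ∧ InW S j (k * z * k⁻¹) := by
  obtain ⟨h1, h2⟩ := one_fix S O hi hone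
  have cube : ∀ {u : G}, u ∈ KK → Commute (u * u) z → u ∈ EE S := fun {u} hu huc => by
    have hu2 : u * u ∈ EE S := KK_free S O hi hone (mul_mem hu hu) hz hz1 huc
    have := mul_mem (h1 u hu).2 (inv_mem hu2)
    rwa [pow_succ', pow_two, mul_inv_cancel_right] at this
  have hz' : k * (σ * z * σ⁻¹) * k⁻¹ = z := by
    rw [show k * (σ * z * σ⁻¹) * k⁻¹ = k * σ * z * (k * σ)⁻¹ by group, hc.eq, mul_inv_cancel_right]
  rcases SS_cases S hσ with hσE | ⟨j, hj⟩
  · rw [(EE_comm S hσE hz).eq, mul_inv_cancel_right] at hz'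
    exact absurd (KK_free S O hi hone hk hz hz1 (mul_inv_eq_iff_eq_mul.1 hz')) hkE
  set e := σ * pv S j with he
  have hvz : pv S j * z * (pv S j)⁻¹ ∈ EE S := SS_norm S (v_mem_SS S j) hz
  have hact : σ * z * σ⁻¹ = pv S j * z * (pv S j)⁻¹ := by
    have e2 : σ = e * pv S j := by rw [he, mul_assoc, v_sq, mul_one]
    rw [e2, show e * pv S j * z * (e * pv S j)⁻¹ = e * (pv S j * z * (pv S j)⁻¹) * e⁻¹ by group,
      (EE_comm S hj hvz).eq, mul_inv_cancel_right]
  rw [hact] at hz'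
  have hvz' : pv S j * z * (pv S j)⁻¹ = k⁻¹ * z * k := by
    conv_rhs => rw [← hz']
    group
  have hkz : k⁻¹ * z * k ∈ EE S := by simpa using EE_norm_KK S O (inv_mem hk) hz
  by_cases hji : j = i
  · exfalso
    obtain ⟨f, hf, ef⟩ : ∃ f ∈ EE S, pv S j * k * (pv S j)⁻¹ = f * k :=
      ⟨_, hji ▸ (h1 k hk).1, by subst hji; group⟩
    have e3 : pv S j * (k⁻¹ * z * k) * (pv S j)⁻¹ = k⁻¹ * (k⁻¹ * z * k) * k := by
      calc pv S j * (k⁻¹ * z * k) * (pv S j)⁻¹
          = (pv S j * k * (pv S j)⁻¹)⁻¹ * (pv S j * z * (pv S j)⁻¹) * (pv S j * k * (pv S j)⁻¹) := by group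
        _ = k⁻¹ * (f⁻¹ * (k⁻¹ * z * k) * f) * k := by rw [ef, hvz']; group
        _ = _ := by rw [mul_assoc f⁻¹, ← (EE_comm S hf hkz).eq, inv_mul_cancel_left]
    have e4 : pv S j * (k⁻¹ * z * k) * (pv S j)⁻¹ = z := by
      rw [← hvz', v_inv]
      calc pv S j * (pv S j * z * pv S j) * pv S j = pv S j * pv S j * z * (pv S j * pv S j) := by group
        _ = z := by rw [v_sq, one_mul, mul_one]
    rw [e4] at e3
    refine hkE (cube hk ?_)
    show k * k * z = z * (k * k)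
    calc k * k * z = k * k * (k⁻¹ * (k⁻¹ * z * k) * k) := by rw [← e3]
      _ = _ := by group
  refine ⟨j, hji, hj, fix S j (EE_norm_KK S O hk hz) ?_⟩
  obtain ⟨f, hf, ef⟩ : ∃ f ∈ EE S, pv S j * k * (pv S j)⁻¹ = f * k⁻¹ := ⟨_, h2 j hji k hk, by group⟩
  have hkkz : k⁻¹ * (k⁻¹ * z * k) * k ∈ EE S := by simpa using EE_norm_KK S O (inv_mem hk) hkz
  have hk3 : Commute (k ^ 3) z := EE_comm S (h1 k hk).2 hz
  refine mul_inv_eq_iff_eq_mul.1 ?_
  calc pv S j * (k * z * k⁻¹) * (pv S j)⁻¹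
      = pv S j * k * (pv S j)⁻¹ * (pv S j * z * (pv S j)⁻¹) * (pv S j * k * (pv S j)⁻¹)⁻¹ := by group
    _ = f * (k⁻¹ * (k⁻¹ * z * k) * k) * f⁻¹ := by rw [ef, hvz']; group
    _ = k⁻¹ * (k⁻¹ * z * k) * k := by rw [(EE_comm S hf hkkz).eq, mul_inv_cancel_right]
    _ = k⁻¹ * k⁻¹ * (z * k ^ 3) * k⁻¹ := by rw [pow_succ, pow_two]; group
    _ = k⁻¹ * k⁻¹ * (k ^ 3 * z) * k⁻¹ := by rw [hk3.eq]
    _ = k * z * k⁻¹ := by rw [pow_succ, pow_two]; group

/-- Some conjugate of an element of `E` outside the plane has its stabiliser in the Sylow subgroup. -/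
theorem exists_good {z : G} (hz : z ∈ EE S) (hzW : ¬ InW S i z) :
    ∃ k ∈ KK, ∀ n ∈ NN S, Commute n (k * z * k⁻¹) → n ∈ SS S := by
  have hz1 : z ≠ 1 := fun e => hzW (Or.inl e)
  by_cases hgood : ∀ n ∈ NN S, Commute n z → n ∈ SS S
  · exact ⟨1, one_mem _, by simpa using hgood⟩
  push Not at hgood
  obtain ⟨n, hn, hc, hnS⟩ := hgood
  obtain ⟨k, hk, σ, hσ, rfl⟩ := O.cover n hn
  have hkE : k ∉ EE S := fun h => hnS (mul_mem (EE_le S h) hσ)
  obtain ⟨j, hji, -, hW⟩ := bad_form S O hi hone hz hz1 hk hkE hσ hc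
  refine ⟨k, hk, fun m hm hmc => ?_⟩
  by_contra hmS
  obtain ⟨l, hl, τ, hτ, rfl⟩ := O.cover m hm
  have hlE : l ∉ EE S := fun h => hmS (mul_mem (EE_le S h) hτ)
  have hw := (InW.mem S j hW).2
  have hw1 : k * z * k⁻¹ ≠ 1 := fun e => hz1 (conj_eq_one_iff.1 e)
  obtain ⟨r, hri, hτr, -⟩ := bad_form S O hi hone hw hw1 hl hlE hτ hmc
  have hvw : Commute (pv S j) (k * z * k⁻¹) := by
    rcases hW with e | e | e | e <;> rw [e]
    · exact Commute.one_right _
    · exact el_comm_s S (v_mem_SS S j)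
    · exact PP_comm S j (v_mem_PP S j) (w_mem_PP S j)
    · exact PP_comm S j (v_mem_PP S j) (mul_mem (s_mem_PP S j) (w_mem_PP S j))
  obtain ⟨r', hr'i, hr', -⟩ := bad_form S O hi hone hw hw1 hl hlE (mul_mem hτ (v_mem_SS S j))
    (show Commute (l * (τ * pv S j)) (k * z * k⁻¹) by rw [← mul_assoc]; exact hmc.mul_left hvw)
  have h12 : (τ * pv S r)⁻¹ * (τ * pv S j * pv S r') ∈ EE S := mul_mem (inv_mem hτr) hr'
  rw [show (τ * pv S r)⁻¹ * (τ * pv S j * pv S r') = (pv S r)⁻¹ * pv S j * pv S r' by group, v_inv] at h12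
  exact three_ne S hri hji hr'i h12

/-- The centraliser of an element of `E` outside the plane with small stabiliser fixes `s`. -/
theorem cent_good {z : G} (hz : z ∈ EE S) (hzW : ¬ InW S i z)
    (hgood : ∀ n ∈ NN S, Commute n z → n ∈ SS S) {h : G} (hh : Commute h z) : Commute h S.s := by
  have hnot : ∀ p : G, InW S i p → p ≠ S.s → ∀ g : G, Commute g z → g * S.s * g⁻¹ ≠ p := by
    intro p hp hps g hg e
    obtain ⟨n, hn, hnz, hns⟩ := fusion S (s_mem_EE S) (InW.mem S i hp).2 e z hz hg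
    refine hps ?_
    rw [← hns, (el_comm_s S (hgood n hn hnz)).eq, mul_inv_cancel_right]
  have hcase : ∀ p : G, InW S i p → p ≠ 1 → p ≠ S.s →
      h * p * h⁻¹ = pw' S i ∨ h * p * h⁻¹ = S.s * pw' S i := by
    intro p hp hp1 hps
    have hpz : Commute p z := EE_comm S (InW.mem S i hp).2 hz
    have hu : IsConj S.s (h * p * h⁻¹) :=
      (conj_of_fix S O hi (InW.mem S i hp).1 hp1).trans (isConj_iff.2 ⟨h, rfl⟩)
    have huz : Commute (h * p * h⁻¹) z := (hh.mul_left hpz).mul_left hh.inv_left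
    have hcs : Commute (h * p * h⁻¹) S.s := by
      by_contra hnc
      obtain ⟨j, hj⟩ := odd_of_noncomm S O hi hone hu hnc
      have hu2 : h * p * h⁻¹ * (h * p * h⁻¹) = 1 := by
        rw [show h * p * h⁻¹ * (h * p * h⁻¹) = h * (p * p) * h⁻¹ by group, EE_sq S (InW.mem S i hp).2]; group
      have e := conj_of_odd_prod S.ss hu2 hj
      have hd : Commute ((S.s * (h * p * h⁻¹)) ^ j) z :=
        ((EE_comm S (s_mem_EE S) hz).mul_left huz).pow_left j
      refine hnot p hp hps (h⁻¹ * (S.s * (h * p * h⁻¹)) ^ j) (hh.inv_left.mul_left hd) ?_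
      calc h⁻¹ * (S.s * (h * p * h⁻¹)) ^ j * S.s * (h⁻¹ * (S.s * (h * p * h⁻¹)) ^ j)⁻¹
          = h⁻¹ * ((S.s * (h * p * h⁻¹)) ^ j * S.s * ((S.s * (h * p * h⁻¹)) ^ j)⁻¹) * h := by group
        _ = p := by rw [e]; group
    rcases PP_cases S (clique S O hi hone hu hcs) with e | e
    · rcases e with e | e | e | e
      · exact absurd (conj_eq_one_iff.1 e) hp1
      · refine absurd ?_ (hnot p hp hps h⁻¹ hh.inv_left)
        rw [← e]; group
      · exact Or.inl e
      · exact Or.inr e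
    · exfalso
      have h1 : Commute (h * p * h⁻¹ * pv S i) z := EE_comm S (InW.mem S i e).2 hz
      have h2 := huz.inv_left.mul_left h1
      rw [inv_mul_cancel_left] at h2
      exact hzW (fix S i hz h2)
  have hw := hcase _ (Or.inr (Or.inr (Or.inl rfl))) (w_ne S i).1 (w_ne S i).2
  have hsw := hcase (S.s * pw' S i) (Or.inr (Or.inr (Or.inr rfl)))
    (fun e => (w_ne S i).2 ((inv_eq_of_mul_eq_one_right e).symm.trans (inv_eq_of_mul_eq_one_right S.ss)))
    (fun e => (w_ne S i).1 (mul_eq_left.1 e))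
  have hws : Commute S.s (pw' S i) := PP_comm S i (s_mem_PP S i) (w_mem_PP S i)
  have hw2 : pw' S i * pw' S i = 1 := EE_sq S (w_mem_EE S i)
  have e : h * S.s * h⁻¹ = (h * (S.s * pw' S i) * h⁻¹) * (h * pw' S i * h⁻¹) := by
    calc h * S.s * h⁻¹ = h * (S.s * (pw' S i * pw' S i)) * h⁻¹ := by rw [hw2, mul_one]
      _ = _ := by group
  refine mul_inv_eq_iff_eq_mul.1 ?_
  rcases hw with a | a <;> rcases hsw with b | b
  · exact absurd (conj_eq_one_iff.1 (by rw [e, a, b, hw2])) S.s_ne_one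
  · rw [e, a, b, mul_assoc, hw2, mul_one]
  · rw [e, a, b, hws.eq, ← mul_assoc, hw2, one_mul]
  · refine absurd (conj_eq_one_iff.1 (by rw [e, a, b]; exact EE_sq S (mul_mem (s_mem_EE S) (w_mem_EE S i)))) S.s_ne_one

/-- The normaliser of the plane contains the centralisers of its involutions. -/
theorem cent_le_M {u g : G} (hu : u ∈ normalizer (PP S i : Set G)) (hu2 : orderOf u = 2) (hg : Commute g u) :
    g ∈ normalizer (PP S i : Set G) := by
  haveI : Fact (Nat.Prime 2) := ⟨Nat.prime_two⟩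
  set M := normalizer (PP S i : Set G) with hM
  have hSM : SS S ≤ M := fun x hx => L_le_M S O hi hone (el_comm_s S hx)
  obtain ⟨P, hP⟩ := exists_sylow S
  let PM : Sylow 2 M := P.subtype (hP ▸ hSM)
  obtain ⟨m, hm⟩ := CfsgLib.Involution.Basic.exists_conj_mem PM (x := (⟨u, hu⟩ : M))
    (by rw [← Subgroup.orderOf_coe]; exact hu2)
  have hm' : (m : G) * u * (m : G)⁻¹ ∈ SS S := hP ▸ hm
  have h2 : (m : G) * u * (m : G)⁻¹ * ((m : G) * u * (m : G)⁻¹) = 1 := by
    rw [show (m : G) * u * (m : G)⁻¹ * ((m : G) * u * (m : G)⁻¹) = (m : G) * (u * u) * (m : G)⁻¹ by group,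
      mul_self hu2]; group
  obtain ⟨l, hl, hlE⟩ := exists_conj_EE S (el_comm_s S hm') h2
  set a := l * (m : G) with ha
  have haM : a ∈ M := mul_mem (L_le_M S O hi hone hl) m.2
  have hzE : a * u * a⁻¹ ∈ EE S := by
    rw [ha, show l * (m : G) * u * (l * (m : G))⁻¹ = l * ((m : G) * u * (m : G)⁻¹) * l⁻¹ by group]
    exact hlE
  have hgz : Commute (a * g * a⁻¹) (a * u * a⁻¹) := hg.map (MulAut.conj a).toMonoidHom
  suffices h : a * g * a⁻¹ ∈ M by
    have := mul_mem (mul_mem (inv_mem haM) h) haM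
    simpa [mul_assoc] using this
  by_cases hW : InW S i (a * u * a⁻¹)
  · exact cent_PP S O hi hone (InW.mem S i hW).1 (fun e => ne_one hu2 (conj_eq_one_iff.1 e)) hgz
  obtain ⟨k, hk, hgood⟩ := exists_good S O hi hone hzE hW
  have hkM : k ∈ M := NN_le_M S O hi hone (O.le hk)
  have hkW : ¬ InW S i (k * (a * u * a⁻¹) * k⁻¹) := fun h => hW (by
    rcases PP_cases S ((mem_normalizer_iff.1 hkM _).2 (InW.mem S i h).1) with e | e
    · exact e
    · exfalso
      exact v_not_mem_EE S i (by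
        have := mul_mem (inv_mem hzE) (InW.mem S i e).2
        rwa [inv_mul_cancel_left] at this))
  have hc := cent_good S O hi hone (EE_norm_KK S O hk hzE) hkW hgood (h := k * (a * g * a⁻¹) * k⁻¹)
    (hgz.map (MulAut.conj k).toMonoidHom)
  have := mul_mem (mul_mem (inv_mem hkM) (L_le_M S O hi hone hc)) hkM
  simpa [mul_assoc] using this

/-- One fused plane is impossible in a simple group. -/
theorem one_plane_false [IsSimpleGroup G] : False := by
  obtain ⟨j, hji⟩ := (show ∀ i : Fin 3, ∃ j : Fin 3, j ≠ i by decide) i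
  set M := normalizer (PP S i : Set G) with hM
  set c := pw' S j with hc
  have hc2 : orderOf c = 2 := orderOf_eq_two (EE_sq S (w_mem_EE S j)) (w_ne S j).1
  have hall : ∀ g : G, g * c * g⁻¹ ∈ M := by
    intro g
    set v := g * c * g⁻¹ with hv
    have hv2 : orderOf v = 2 := by rw [hv, show g * c * g⁻¹ = MulAut.conj g c from rfl, MulEquiv.orderOf_eq, hc2]
    have hnc : ¬ IsConj S.s v := fun h => hone j hji (fix_of_conj S O (w_mem_PP S j) (w_ne S j).2
      (h.trans (isConj_iff.2 ⟨g⁻¹, show g⁻¹ * v * g⁻¹⁻¹ = pw' S j by rw [hv, hc]; group⟩)))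
    have hev : Even (orderOf (S.s * v)) := CfsgLib.Involution.Dihedral.even_of_not_isConj S.orderOf_s hv2 hnc
    refine cent_le_M S O hi hone (L_le_M S O hi hone ?_) (CfsgLib.Involution.Dihedral.half_orderOf hev)
      (CfsgLib.Involution.Dihedral.half_commute_right S.orderOf_s hv2 hev).symm
    exact CfsgLib.Involution.Dihedral.half_commute_left S.orderOf_s hv2 hev
  have hN : Subgroup.normalClosure ({c} : Set G) = ⊤ :=
    (IsSimpleGroup.eq_bot_or_eq_top_of_normal _ inferInstance).resolve_left fun e => (w_ne S j).1 (by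
      have h : c ∈ Subgroup.normalClosure ({c} : Set G) := Subgroup.subset_normalClosure rfl
      rw [e, mem_bot] at h
      exact h)
  have hMtop : M = ⊤ := eq_top_iff.2 (hN ▸ (closure_le _).2 fun x hx => by
    obtain ⟨a, ha, hax⟩ := Group.mem_conjugatesOfSet_iff.1 hx
    rw [Set.mem_singleton_iff] at ha
    subst ha
    obtain ⟨g, rfl⟩ := isConj_iff.1 hax
    exact hall g)
  haveI : (PP S i).Normal := normalizer_eq_top_iff.1 hMtop
  rcases IsSimpleGroup.eq_bot_or_eq_top_of_normal (PP S i) inferInstance with e | e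
  · have := card_PP S i
    rw [e, Subgroup.card_bot] at this
    omega
  · exact v_not_mem_EE S i (EE_cent S fun u _ => PP_comm S i (v_mem_PP S i) (e ▸ mem_top u))

end CfsgLib.Recognition.ExtraspecialThirtyTwo.AltCase
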