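import Cfsg.Agent.Lib.Recognition.ExtraspecialThirtyTwo.AltCase.OnePlane
import Cfsg.Agent.Lib.Recognition.ExtraspecialThirtyTwo.Reduction

/-!
# Two fused planes: the two parabolic subgroups

The normalisers of the planes have order 1344, meet in the centraliser of `s`, and the subgroup they generate
is the union of two double cosets.
-/

set_option autoImplicit false
set_option linter.unusedSectionVars false
set_option linter.unusedVariables false
set_option linter.style.haveILetI false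
set_option maxRecDepth 40000

namespace CfsgLib.Recognition.ExtraspecialThirtyTwo.AltCase

open Subgroup Code

/-- The list of codes of a plane. -/
def planeL : Fin 3 → List ℕ :=
  ![[0, 1, 2, 3, 4, 5, 6, 7], [0, 1, 8, 9, 16, 17, 24, 25], [0, 1, 10, 11, 20, 21, 30, 31]]

theorem planeL_mem : ∀ i, planeL i ∈ Code.planes := by decide +kernel

theorem planeL_ok : ∀ i, Code.okPlane false false (planeL i) = true := by decide +kernel

theorem planeL_eq : ∀ i, ∀ k < 192, inP i k = (planeL i).contains k := by decide +kernel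

theorem v_swap : ∀ i j : Fin 3, i ≠ j → cj (vC i) (wC j) = mu 1 (wC j) := by decide +kernel

theorem x_order : mu 32 (mu 32 32) = 0 := by decide +kernel

variable {G : Type*} [Group G] [Finite G] (S : St G)

/-- The normaliser of a plane. -/
def MM (i : Fin 3) : Subgroup G := normalizer (PP S i : Set G)

theorem conj_mem_PP {i : Fin 3} {g u : G} (hg : g ∈ MM S i) (hu : u ∈ PP S i) : g * u * g⁻¹ ∈ PP S i :=
  (mem_normalizer_iff.1 hg u).1 hu

theorem mem_MM {i : Fin 3} {g : G} (h : ∀ u ∈ PP S i, g * u * g⁻¹ ∈ PP S i) : g ∈ MM S i := by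
  have hmap : (PP S i).map (MulAut.conj g).toMonoidHom = PP S i := by
    refine Subgroup.eq_of_le_of_card_ge ?_ (le_of_eq (Nat.card_congr
      (Subgroup.equivMapOfInjective _ _ (MulAut.conj g).injective).toEquiv))
    rintro _ ⟨u, hu, rfl⟩
    exact h u hu
  refine mem_normalizer_iff.2 fun u => ⟨h u, fun hu => ?_⟩
  rw [← hmap] at hu
  obtain ⟨v, hv, e⟩ := hu
  simp only [MulEquiv.coe_toMonoidHom, MulAut.conj_apply, mul_left_inj, mul_right_inj] at e
  exact e ▸ hv

theorem L_le_MM (i : Fin 3) {g : G} (hg : Commute g S.s) : g ∈ MM S i := mem_MM S fun _ hu => PP_conj S i hg hu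

theorem EE_le_MM (i : Fin 3) : EE S ≤ MM S i := fun _ h => L_le_MM S i (el_comm_s S (EE_le S h))

theorem plane_eq (i : Fin 3) : PP S i = S.plane (planeL i) (planeL_mem i) := by
  ext u
  constructor
  · rintro ⟨k, hk, fk, rfl⟩
    rw [planeL_eq i k hk] at fk
    exact ⟨k, by simpa using fk, rfl⟩
  · rintro ⟨p, hp, rfl⟩
    have h := ((Code.planes_closed false false _ (planeL_mem i)).2.2.2.2.1 p hp).1
    exact (el_mem_PP S i (by omega)).2 (by rw [planeL_eq i p (by omega)]; simpa using hp)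

variable {KK : Subgroup G} (O : OddPart S KK)

/-- A representative of a fused plane in the odd part. -/
structure Rep (KK : Subgroup G) (i : Fin 3) (k : G) : Prop where
  mem : k ∈ KK
  out : k ∉ EE S
  comm : pv S i * k * (pv S i)⁻¹ * k⁻¹ ∈ EE S

variable {i : Fin 3} {k : G}

include O in
theorem sq_not_mem {u : G} (hu : u ∈ KK) (h : u * u ∈ EE S) : u ∈ EE S := by
  haveI := EE_normal S O
  by_contra hne
  refine OddAction.ne_inv_of_odd (card_quot S O).2 (a := (QuotientGroup.mk ⟨u, hu⟩ : KK ⧸ (EE S).subgroupOf KK))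
    (fun e => hne (mem_subgroupOf.1 ((QuotientGroup.eq_one_iff _).1 e))) ?_
  refine eq_inv_of_mul_eq_one_left ?_
  rw [← QuotientGroup.mk_mul, QuotientGroup.eq_one_iff, mem_subgroupOf]
  exact h

include O in
theorem Rep.cube (R : Rep S KK i k) : k ^ 3 ∈ EE S := by
  haveI := EE_normal S O
  obtain ⟨φ, h2, hc, h3, hfix, hn, hiff, hform⟩ := exists_actions S O
  have ho := OddAction.order_three (φ i) (card_quot S O).2 (hn i) ((hiff i k R.mem).2 R.comm)
    (fun e => R.out (mem_subgroupOf.1 ((QuotientGroup.eq_one_iff _).1 e)))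
  have h1 := pow_orderOf_eq_one (QuotientGroup.mk ⟨k, R.mem⟩ : KK ⧸ (EE S).subgroupOf KK)
  rw [ho, ← QuotientGroup.mk_pow, QuotientGroup.eq_one_iff, mem_subgroupOf] at h1
  exact h1

include O in
theorem Rep.mem_MM (R : Rep S KK i k) : k ∈ MM S i := by
  have hv := v_inv S i
  set f := pv S i * (k * pv S i * k⁻¹) with hf
  have hfE : f ∈ EE S := by
    have := R.comm
    rw [hv] at this
    simpa [hf, mul_assoc] using this
  have hkv : k * pv S i * k⁻¹ = pv S i * f := by rw [hf, ← mul_assoc, v_sq, one_mul]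
  have hfW : InW S i f := by
    refine fix S i hfE ?_
    have h2 : pv S i * f * (pv S i * f) = 1 := by
      rw [← hkv, show k * pv S i * k⁻¹ * (k * pv S i * k⁻¹) = k * (pv S i * pv S i) * k⁻¹ by group, v_sq]; group
    have h3 : f⁻¹ = f := inv_eq_of_mul_eq_one_right (EE_sq S hfE)
    have h4 := inv_eq_of_mul_eq_one_right h2
    rw [mul_inv_rev, h3, hv] at h4
    exact h4.symm
  have hvP : k * pv S i * k⁻¹ ∈ PP S i := hkv ▸ mul_mem (v_mem_PP S i) (InW.mem S i hfW).1
  refine AltCase.mem_MM S fun u hu => ?_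
  have hW : ∀ w, InW S i w → k * w * k⁻¹ ∈ PP S i := fun w hw => by
    have hwE := EE_norm_KK S O R.mem (InW.mem S i hw).2
    refine (InW.mem S i (fix S i hwE ?_)).1
    have h1 : Commute (k * pv S i * k⁻¹) (k * w * k⁻¹) :=
      (PP_comm S i (v_mem_PP S i) (InW.mem S i hw).1).map (MulAut.conj k).toMonoidHom
    rw [hkv] at h1
    have h2 := h1.mul_left (EE_comm S hfE hwE).inv_left
    rwa [mul_inv_cancel_right] at h2
  rcases PP_cases S hu with h | h
  · exact hW u h
  · have := mul_mem (hW _ h) hvP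
    rwa [show k * (u * pv S i) * k⁻¹ * (k * pv S i * k⁻¹) = k * (u * (pv S i * pv S i)) * k⁻¹ by group,
      v_sq, mul_one] at this

include O in
theorem Rep.sq_out (R : Rep S KK i k) : k * k ∉ EE S := fun h => R.out (sq_not_mem S O R.mem h)

include O in
theorem Rep.sq (R : Rep S KK i k) : Rep S KK i (k * k) := by
  refine ⟨mul_mem R.mem R.mem, R.sq_out S O, ?_⟩
  have h := mul_mem R.comm (EE_norm_KK S O R.mem R.comm)
  simpa [mul_assoc] using h

include O in
/-- The image of `s`. -/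
theorem Rep.image (R : Rep S KK i k) : InW S i (k * S.s * k⁻¹) ∧ k * S.s * k⁻¹ ≠ 1 ∧ k * S.s * k⁻¹ ≠ S.s :=
  ⟨image_inW S O R.mem R.comm, fun e => S.s_ne_one (conj_eq_one_iff.1 e),
    fun e => R.out (s_of_cent S O R.mem (mul_inv_eq_iff_eq_mul.1 e))⟩

include O in
theorem Rep.image_ne (R : Rep S KK i k) : k * k * S.s * (k * k)⁻¹ ≠ k * S.s * k⁻¹ := fun e => by
  refine R.out (s_of_cent S O R.mem (mul_inv_eq_iff_eq_mul.1 ?_))
  calc k * S.s * k⁻¹ = k⁻¹ * (k * k * S.s * (k * k)⁻¹) * k := by group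
    _ = S.s := by rw [e]; group

include O in
/-- The three elements of the plane in `E` are the images of `s`. -/
theorem Rep.covers (R : Rep S KK i k) {u : G} (hu : InW S i u) (hu1 : u ≠ 1) :
    u = S.s ∨ u = k * S.s * k⁻¹ ∨ u = k * k * S.s * (k * k)⁻¹ := by
  obtain ⟨hp, hp1, hps⟩ := R.image S O
  obtain ⟨hq, hq1, hqs⟩ := (R.sq S O).image S O
  have hne := R.image_ne S O
  by_cases hus : u = S.s
  · exact Or.inl hus
  right
  have key : ∀ {a : G}, InW S i a → a ≠ 1 → a ≠ S.s → a = pw' S i ∨ a = S.s * pw' S i := fun {a} h h1 h2 => by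
    rcases h with e | e | e | e
    · exact absurd e h1
    · exact absurd e h2
    · exact Or.inl e
    · exact Or.inr e
  rcases key hu hu1 hus with e | e <;> rcases key hp hp1 hps with e' | e' <;>
    rcases key hq hq1 hqs with e'' | e'' <;>
    first
      | exact Or.inl (e.trans e'.symm)
      | exact Or.inr (e.trans e''.symm)
      | exact absurd (e''.trans e'.symm) hne

include O in
/-- The normaliser is transitive on the involutions of the plane. -/
theorem Rep.orbit (R : Rep S KK i k) {u : G} (hu : u ∈ PP S i) (hu1 : u ≠ 1) :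
    ∃ g ∈ MM S i, g * S.s * g⁻¹ = u := by
  by_cases hus : u = S.s
  · exact ⟨1, one_mem _, by simp [hus]⟩
  obtain ⟨hp, hp1, hps⟩ := R.image S O
  obtain ⟨a, ha, hau⟩ := PP_trans S i hu hu1 hus
  obtain ⟨b, hb, hbp⟩ := PP_trans S i (InW.mem S i hp).1 hp1 hps
  refine ⟨a * b⁻¹ * k, mul_mem (mul_mem (L_le_MM S i ha) (inv_mem (L_le_MM S i hb))) (R.mem_MM S O), ?_⟩
  calc a * b⁻¹ * k * S.s * (a * b⁻¹ * k)⁻¹ = a * (b⁻¹ * (k * S.s * k⁻¹) * b) * a⁻¹ := by group
    _ = u := by rw [← hau, ← hbp]; group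

include O in
theorem Rep.card_MM (R : Rep S KK i k) : Nat.card (MM S i) = 1344 := by
  obtain ⟨hp, hp1, hps⟩ := R.image S O
  obtain ⟨q, hq, fq, e⟩ := (InW.mem S i hp).1
  have hq2 : 2 ≤ q := by
    by_contra h
    interval_cases q
    · exact hp1 (e.symm.trans S.el_zero)
    · exact hps (e.symm.trans S.el_one)
  have h := S.card_normalizer_plane (planeL_mem i) (planeL_ok i) (p0 := q)
    (by rw [planeL_eq i q hq] at fq; simpa using fq) hq2 (g := k) e.symm
    (fun u hu => plane_eq S i ▸ conj_mem_PP S (R.mem_MM S O) (plane_eq S i ▸ hu))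
  rw [← plane_eq S i] at h
  exact h

/-- Two planes meet in the centre. -/
theorem inter_MM {j : Fin 3} (hij : i ≠ j) {g : G} (h1 : g ∈ MM S i) (h2 : g ∈ MM S j) : Commute g S.s := by
  rcases two_planes S i hij (conj_mem_PP S h1 (s_mem_PP S i)) (conj_mem_PP S h2 (s_mem_PP S j)) with e | e
  · exact absurd (conj_eq_one_iff.1 e) S.s_ne_one
  · exact mul_inv_eq_iff_eq_mul.1 e

/-- The data of two fused planes. -/
structure Two (KK : Subgroup G) (i j : Fin 3) (k l : G) : Prop where
  ne : i ≠ j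
  left : Rep S KK i k
  right : Rep S KK j l
  comm : k * l * k⁻¹ * l⁻¹ ∈ EE S

variable {j : Fin 3} {l : G}

include O in
/-- The elements normalised by `l` modulo the plane normaliser. -/
theorem conj_into (T : Two S KK i j k l) {x h : G} (hx : x = l ∨ x = l⁻¹)
    (hh : h = 1 ∨ h = k ∨ h = k * k) : x * h * x⁻¹ ∈ MM S i := by
  have hk := T.left.mem_MM S O
  have base : ∀ x, x = l ∨ x = l⁻¹ → x * k * x⁻¹ ∈ MM S i := by
    rintro _ (rfl | rfl)
    · have h1 := mul_mem (EE_le_MM S i (inv_mem T.comm)) hk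
      simpa [mul_assoc] using h1
    · have h1 := EE_norm_KK S O (inv_mem T.right.mem) T.comm
      have h2 := mul_mem (EE_le_MM S i h1) hk
      simpa [mul_assoc] using h2
  rcases hh with rfl | rfl | rfl
  · simp [one_mem]
  · exact base x hx
  · have := mul_mem (base x hx) (base x hx)
    simpa [mul_assoc] using this

/-- The union of the two double cosets. -/
def UU (i : Fin 3) (l : G) : Set G := {g | g ∈ MM S i ∨ ∃ a ∈ MM S i, ∃ b ∈ MM S i, g = a * l * b}

theorem UU_absorb {g a b : G} (hg : g ∈ UU S i l) (ha : a ∈ MM S i) (hb : b ∈ MM S i) : a * g * b ∈ UU S i l := by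
  rcases hg with h | ⟨c, hc, d, hd, rfl⟩
  · exact Or.inl (mul_mem (mul_mem ha h) hb)
  · exact Or.inr ⟨a * c, mul_mem ha hc, d * b, mul_mem hd hb, by simp [mul_assoc]⟩

include O in
theorem MM_right_sub (T : Two S KK i j k l) {g : G} (hg : g ∈ MM S j) : g ∈ UU S i l := by
  by_cases hs : Commute g S.s
  · exact Or.inl (L_le_MM S i hs)
  obtain ⟨hp, hp1, hps⟩ := T.right.image S O
  have hu := conj_mem_PP S hg (s_mem_PP S j)
  obtain ⟨a, ha, hau⟩ := PP_trans S j hu (fun e => S.s_ne_one (conj_eq_one_iff.1 e))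
    (fun e => hs (mul_inv_eq_iff_eq_mul.1 e))
  obtain ⟨b, hb, hbp⟩ := PP_trans S j (InW.mem S j hp).1 hp1 hps
  refine Or.inr ⟨a * b⁻¹, mul_mem (L_le_MM S i ha) (inv_mem (L_le_MM S i hb)), (a * b⁻¹ * l)⁻¹ * g,
    L_le_MM S i ?_, by group⟩
  have e : a * b⁻¹ * l * S.s * (a * b⁻¹ * l)⁻¹ = g * S.s * g⁻¹ := by
    calc a * b⁻¹ * l * S.s * (a * b⁻¹ * l)⁻¹ = a * (b⁻¹ * (l * S.s * l⁻¹) * b) * a⁻¹ := by group
      _ = g * S.s * g⁻¹ := by rw [← hau, ← hbp]; group
  show (a * b⁻¹ * l)⁻¹ * g * S.s = S.s * ((a * b⁻¹ * l)⁻¹ * g)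
  calc (a * b⁻¹ * l)⁻¹ * g * S.s = (a * b⁻¹ * l)⁻¹ * (g * S.s * g⁻¹) * g := by group
    _ = _ := by rw [← e]; group

include O in
/-- The crucial step. -/
theorem step (T : Two S KK i j k l) {g x y : G} (hg : g ∈ MM S i) (hx : x = l ∨ x = l⁻¹) (hy : y = l ∨ y = l⁻¹) :
    x * g * y ∈ UU S i l := by
  have hl := T.right.mem_MM S O
  obtain ⟨hp, hp1, hps⟩ := T.left.image S O
  -- some element of the line goes into the line
  obtain ⟨u, hu, hu1, hgu⟩ : ∃ u, InW S i u ∧ u ≠ 1 ∧ InW S i (g * u * g⁻¹) := by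
    classical
    let A : Finset G := {1, S.s, pw' S i}
    have hA : A.card = 3 := Finset.card_eq_three.2 ⟨1, S.s, pw' S i, fun e => S.s_ne_one e.symm,
      fun e => (w_ne S i).1 e.symm, fun e => (w_ne S i).2 e.symm, rfl⟩
    have hAP : ∀ a ∈ A, a ∈ PP S i ⊓ EE S := by
      intro a ha
      simp only [A, Finset.mem_insert, Finset.mem_singleton] at ha
      rcases ha with rfl | rfl | rfl
      exacts [one_mem _, ⟨s_mem_PP S i, s_mem_EE S⟩, ⟨w_mem_PP S i, w_mem_EE S i⟩]
    haveI := Fintype.ofFinite G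
    obtain ⟨⟨a, b⟩, hab, ⟨a', b'⟩, hab', hne, he⟩ := Finset.exists_ne_map_eq_of_card_lt_of_maps_to
      (s := A ×ˢ A) (t := (Finset.univ : Finset G).filter fun x => x ∈ PP S i)
      (f := fun p => p.1 * (g * p.2 * g⁻¹)) (by
        rw [Finset.card_product, hA, ← Fintype.card_subtype, ← Nat.card_eq_fintype_card]
        show Nat.card (PP S i) < 3 * 3
        rw [card_PP]; norm_num) (fun p hp => by
        obtain ⟨h1, h2⟩ := Finset.mem_product.1 hp
        simp only [Finset.coe_filter, Finset.mem_univ, true_and, Set.mem_setOf_eq]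
        exact mul_mem (hAP _ h1).1 (conj_mem_PP S hg (hAP _ h2).1))
    obtain ⟨ha, hb⟩ := Finset.mem_product.1 hab
    obtain ⟨ha', hb'⟩ := Finset.mem_product.1 hab'
    simp only at he ha hb ha' hb'
    have e : g * (b' * b⁻¹) * g⁻¹ = a'⁻¹ * a := by
      calc g * (b' * b⁻¹) * g⁻¹ = a'⁻¹ * (a' * (g * b' * g⁻¹)) * (g * b * g⁻¹)⁻¹ := by group
        _ = a'⁻¹ * a := by rw [← he]; group
    have h1 := mul_mem (hAP _ hb') (inv_mem (hAP _ hb))
    have h2 := mul_mem (inv_mem (hAP _ ha')) (hAP _ ha)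
    refine ⟨b' * b⁻¹, meet S i h1.1 h1.2, fun h => hne ?_, e ▸ meet S i h2.1 h2.2⟩
    have hb'' : b' = b := mul_inv_eq_one.1 h
    subst hb''
    simp only [mul_left_inj] at he
    exact Prod.ext he rfl
  have cov : ∀ {w}, InW S i w → w ≠ 1 → ∃ h, (h = 1 ∨ h = k ∨ h = k * k) ∧ h * S.s * h⁻¹ = w := by
    intro w hw hw1
    rcases T.left.covers S O hw hw1 with e | e | e
    · exact ⟨1, Or.inl rfl, by simp [e]⟩
    · exact ⟨k, Or.inr (Or.inl rfl), e.symm⟩
    · exact ⟨k * k, Or.inr (Or.inr rfl), e.symm⟩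
  obtain ⟨a, ha, hau⟩ := cov hu hu1
  obtain ⟨b, hb, hbu⟩ := cov hgu (fun e => hu1 (conj_eq_one_iff.1 e))
  set m := b⁻¹ * g * a with hm
  have hmL : Commute m S.s := by
    show m * S.s = S.s * m
    calc m * S.s = b⁻¹ * (g * (a * S.s * a⁻¹) * g⁻¹) * g * a := by rw [hm]; group
      _ = b⁻¹ * (b * S.s * b⁻¹) * g * a := by rw [hau, hbu]
      _ = _ := by rw [hm]; group
  have hlx : x ∈ MM S j ∧ y ∈ MM S j := by
    constructor
    · rcases hx with rfl | rfl
      exacts [hl, inv_mem hl]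
    · rcases hy with rfl | rfl
      exacts [hl, inv_mem hl]
  have hmid := MM_right_sub S O T (mul_mem (mul_mem hlx.1 (L_le_MM S j hmL)) hlx.2)
  have hy' : y⁻¹ = l ∨ y⁻¹ = l⁻¹ := by
    rcases hy with rfl | rfl
    exacts [Or.inr rfl, Or.inl (inv_inv l)]
  have := UU_absorb S hmid (conj_into S O T hx hb) (inv_mem (conj_into S O T hy' ha))
  rw [hm] at this
  simpa [mul_assoc] using this

include O in
/-- The subgroup generated by the two normalisers. -/
theorem exists_gen (T : Two S KK i j k l) : ∃ B : Subgroup G, (B : Set G) = UU S i l ∧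
    MM S i ≤ B ∧ MM S j ≤ B := by
  have one_l : l⁻¹ ∈ UU S i l := MM_right_sub S O T (inv_mem (T.right.mem_MM S O))
  have hmul : ∀ {a b}, a ∈ UU S i l → b ∈ UU S i l → a * b ∈ UU S i l := by
    intro a b ha hb
    rcases ha with ha | ⟨p, hp, q, hq, rfl⟩
    · simpa using UU_absorb S hb ha (one_mem _)
    rcases hb with hb | ⟨c, hc, d, hd, rfl⟩
    · simpa using UU_absorb S (g := p * l * q) (Or.inr ⟨p, hp, q, hq, rfl⟩) (one_mem _) hb
    · have := UU_absorb S (step S O T (mul_mem hq hc) (Or.inl rfl) (Or.inl rfl)) hp hd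
      simpa [mul_assoc] using this
  refine ⟨{ carrier := UU S i l
            one_mem' := Or.inl (one_mem _)
            mul_mem' := hmul
            inv_mem' := ?_ }, rfl, fun g hg => Or.inl hg, fun g hg => MM_right_sub S O T hg⟩
  intro a ha
  rcases ha with ha | ⟨p, hp, q, hq, rfl⟩
  · exact Or.inl (inv_mem ha)
  · have := UU_absorb S one_l (inv_mem hq) (inv_mem hp)
    simpa [mul_assoc] using this

end CfsgLib.Recognition.ExtraspecialThirtyTwo.AltCase
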