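import Cfsg.Agent.Lib.Recognition.ExtraspecialThirtyTwo.AltCase.Base

/-!
# The three planes of the centraliser
-/

set_option autoImplicit false
set_option linter.unusedSectionVars false
set_option linter.unusedVariables false
set_option maxRecDepth 40000

namespace CfsgLib.Recognition.ExtraspecialThirtyTwo.AltCase

open Subgroup Code

/-- The code of a noncentral element of a plane in `E`. -/
def wC : Fin 3 → ℕ := ![2, 8, 10]

/-- The code of an element of a plane outside `E`. -/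
def vC : Fin 3 → ℕ := ![4, 16, 20]

/-- The codes of a plane. -/
def inP (i : Fin 3) (k : ℕ) : Bool :=
  Nat.blt k 32 && (if i = 0 then Nat.blt k 8 else if i = 1 then Nat.beq (k / 2 % 4) 0 else Nat.beq (k / 2 % 5) 0)

/-- The codes of the part of a plane in `E`. -/
def inW (i : Fin 3) (k : ℕ) : Bool :=
  Nat.beq k 0 || Nat.beq k 1 || Nat.beq k (wC i) || Nat.beq k (mu 1 (wC i))

theorem p_mul : ∀ i, ∀ k < 192, inP i k = true → ∀ l < 192, inP i l = true →
    inP i (mu k l) = true ∧ mu k l = mu l k := by decide +kernel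

theorem p_inv : ∀ i, ∀ k < 192, inP i k = true → inP i (invC false false k) = true ∧ mu k k = 0 := by
  decide +kernel

theorem p_gens : ∀ i, inP i 1 = true ∧ inP i (wC i) = true ∧ inP i (vC i) = true ∧ inE (wC i) = true ∧
    inE (vC i) = false ∧ inS (vC i) = true ∧ wC i < 192 ∧ vC i < 192 ∧ mu 1 (wC i) < 192 ∧ wC i ≠ 0 ∧ wC i ≠ 1 := by
  decide +kernel

theorem p_meet : ∀ i, ∀ k < 192, (inE k && inP i k) = inW i k := by decide +kernel

theorem p_fix : ∀ i, ∀ k < 192, inE k = true → commC false false (vC i) k = true → inW i k = true := by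
  decide +kernel

theorem p_moves : ∀ i, ∀ k < 192, inE k = true → inW i (mu (cj (vC i) k) k) = true := by decide +kernel

theorem p_conj : ∀ i, ∀ g < 192, ∀ k < 192, inP i k = true → inP i (cj g k) = true := by decide +kernel

theorem p_trans : ∀ i, ∀ k < 192, inP i k = true → 2 ≤ k →
    ((List.range 192).any fun g => Nat.beq (cj g (wC i)) k) = true := by decide +kernel

theorem p_self : ∀ i, ∀ k < 192,
    ((List.range 192).all fun l => !inP i l || commC false false k l) = true → inP i k = true := by decide +kernel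

theorem p_x : ∀ i, ∀ k < 192, inP i k = true → cj 32 k = k → k < 2 := by decide +kernel

theorem p_cover : ∀ k < 32, mu k k = 0 → inP 0 k = true ∨ inP 1 k = true ∨ inP 2 k = true := by decide +kernel

theorem p_prod : ∀ i j : Fin 3, i ≠ j → ∀ l : Fin 3, l ≠ i → l ≠ j →
    inE (mu (mu (vC i) (vC j)) (vC l)) = true := by decide +kernel

theorem p_two : ∀ i j : Fin 3, i ≠ j → ∀ k < 192, inP i k = true → inP j k = true → k < 2 := by decide +kernel

variable {G : Type*} [Group G] (S : St G) (i : Fin 3)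

/-- A plane. -/
def PP : Subgroup G :=
  codeSub S (inP i) (by revert i; decide) (fun k hk fk l hl fl => (p_mul i k hk fk l hl fl).1)
    (fun k hk fk => (p_inv i k hk fk).1)

/-- The element of a plane in `E`. -/
def pw' : G := S.el (wC i)

/-- The element of a plane outside `E`. -/
def pv : G := S.el (vC i)

theorem el_mem_PP {k : ℕ} (hk : k < 192) : S.el k ∈ PP S i ↔ inP i k = true := el_mem_codeSub S hk

theorem card_PP : Nat.card (PP S i) = 8 :=
  (card_codeSub S _ _ _ _).trans (by revert i; decide +kernel)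

theorem PP_comm {u v : G} (hu : u ∈ PP S i) (hv : v ∈ PP S i) : Commute u v := by
  obtain ⟨k, hk, fk, rfl⟩ := hu
  obtain ⟨l, hl, fl, rfl⟩ := hv
  show S.el k * S.el l = S.el l * S.el k
  rw [← S.el_mul hk hl, ← S.el_mul hl hk]
  exact congrArg S.el (p_mul i k hk fk l hl fl).2

theorem PP_sq {u : G} (hu : u ∈ PP S i) : u * u = 1 := by
  obtain ⟨k, hk, fk, rfl⟩ := hu
  rw [← S.el_mul hk hk, ← S.el_zero]
  exact congrArg S.el (p_inv i k hk fk).2

theorem s_mem_PP : S.s ∈ PP S i := S.el_one ▸ (el_mem_PP S i (by norm_num)).2 (p_gens i).1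

theorem w_mem_PP : pw' S i ∈ PP S i := (el_mem_PP S i (p_gens i).2.2.2.2.2.2.1).2 (p_gens i).2.1

theorem v_mem_PP : pv S i ∈ PP S i := (el_mem_PP S i (p_gens i).2.2.2.2.2.2.2.1).2 (p_gens i).2.2.1

theorem w_mem_EE : pw' S i ∈ EE S := (el_mem_EE S (p_gens i).2.2.2.2.2.2.1).2 (p_gens i).2.2.2.1

theorem v_mem_SS : pv S i ∈ SS S := (el_mem_SS S (p_gens i).2.2.2.2.2.2.2.1).2 (p_gens i).2.2.2.2.2.1

theorem v_not_mem_EE : pv S i ∉ EE S := fun h => by
  have := (el_mem_EE S (p_gens i).2.2.2.2.2.2.2.1).1 h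
  rw [(p_gens i).2.2.2.2.1] at this
  exact Bool.false_ne_true this

theorem v_sq : pv S i * pv S i = 1 := PP_sq S i (v_mem_PP S i)

theorem v_inv : (pv S i)⁻¹ = pv S i := inv_eq_of_mul_eq_one_right (v_sq S i)

theorem w_ne : pw' S i ≠ 1 ∧ pw' S i ≠ S.s := by
  obtain ⟨-, -, -, -, -, -, h, -, -, h0, h1⟩ := p_gens i
  exact ⟨fun e => h0 ((S.el_inj h (by norm_num)).1 (e.trans S.el_zero.symm)),
    fun e => h1 ((S.el_inj h (by norm_num)).1 (e.trans S.el_one.symm))⟩

/-- Membership in the part of a plane in `E`. -/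
def InW (u : G) : Prop := u = 1 ∨ u = S.s ∨ u = pw' S i ∨ u = S.s * pw' S i

theorem inW_el {k : ℕ} (h : inW i k = true) : InW S i (S.el k) := by
  obtain ⟨-, -, -, -, -, -, hw, -, -, -, -⟩ := p_gens i
  simp only [inW, Bool.or_eq_true, Nat.beq_eq] at h
  rcases h with ((rfl | rfl) | rfl) | rfl
  · exact Or.inl S.el_zero
  · exact Or.inr (Or.inl S.el_one)
  · exact Or.inr (Or.inr (Or.inl rfl))
  · refine Or.inr (Or.inr (Or.inr ?_))
    rw [S.el_mul (by norm_num) hw, S.el_one]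
    rfl

theorem meet {u : G} (hP : u ∈ PP S i) (hE : u ∈ EE S) : InW S i u := by
  obtain ⟨k, hk, fk, rfl⟩ := hP
  exact inW_el S i (by rw [← p_meet i k hk, (el_mem_EE S hk).1 hE, fk]; rfl)

theorem InW.mem {u : G} (h : InW S i u) : u ∈ PP S i ∧ u ∈ EE S := by
  rcases h with rfl | rfl | rfl | rfl
  · exact ⟨one_mem _, one_mem _⟩
  · exact ⟨s_mem_PP S i, s_mem_EE S⟩
  · exact ⟨w_mem_PP S i, w_mem_EE S i⟩
  · exact ⟨mul_mem (s_mem_PP S i) (w_mem_PP S i), mul_mem (s_mem_EE S) (w_mem_EE S i)⟩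

theorem fix {u : G} (hE : u ∈ EE S) (hc : Commute (pv S i) u) : InW S i u := by
  obtain ⟨k, hk, fk, rfl⟩ := hE
  exact inW_el S i (p_fix i k hk fk ((S.commute_el_iff (p_gens i).2.2.2.2.2.2.2.1 hk).1 hc))

theorem moves {u : G} (hE : u ∈ EE S) : InW S i (pv S i * u * (pv S i)⁻¹ * u) := by
  obtain ⟨k, hk, fk, rfl⟩ := hE
  have hv := (p_gens i).2.2.2.2.2.2.2.1
  rw [pv, ← S.el_conjC hv hk, ← S.el_mul (conjC_lt _ _ hv hk) hk]
  exact inW_el S i (p_moves i k hk fk)

theorem PP_conj {g u : G} (hg : Commute g S.s) (hu : u ∈ PP S i) : g * u * g⁻¹ ∈ PP S i := by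
  obtain ⟨k, hk, rfl⟩ := S.exists_el hg
  obtain ⟨l, hl, fl, rfl⟩ := hu
  rw [← S.el_conjC hk hl]
  exact (el_mem_PP S i (conjC_lt _ _ hk hl)).2 (p_conj i k hk l hl fl)

theorem PP_trans {u : G} (hu : u ∈ PP S i) (h1 : u ≠ 1) (hs : u ≠ S.s) :
    ∃ g, Commute g S.s ∧ g * pw' S i * g⁻¹ = u := by
  obtain ⟨k, hk, fk, rfl⟩ := hu
  have h2 : 2 ≤ k := by
    by_contra h
    interval_cases k
    · exact h1 S.el_zero
    · exact hs S.el_one
  obtain ⟨g, hg, he⟩ := List.any_eq_true.1 (p_trans i k hk fk h2)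
  rw [List.mem_range] at hg
  simp only [Nat.beq_eq] at he
  exact ⟨S.el g, S.commute_el hg, by rw [pw', ← S.el_conjC hg (p_gens i).2.2.2.2.2.2.1]; exact congrArg S.el he⟩

theorem PP_cent {g : G} (hg : ∀ u ∈ PP S i, Commute g u) : g ∈ PP S i := by
  obtain ⟨k, hk, rfl⟩ := S.exists_el (hg _ (s_mem_PP S i))
  refine (el_mem_PP S i hk).2 (p_self i k hk (List.all_eq_true.2 fun l hl => ?_))
  rw [List.mem_range] at hl
  cases fl : inP i l
  · rfl
  · simp only [Bool.not_true, Bool.false_or]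
    exact (S.commute_el_iff hk hl).1 (hg _ ((el_mem_PP S i hl).2 fl))

/-- The element of order three of the centraliser fixes only the centre in a plane. -/
theorem x_fix {u : G} (hu : u ∈ PP S i) (hc : Commute (S.el 32) u) : u = 1 ∨ u = S.s := by
  obtain ⟨k, hk, fk, rfl⟩ := hu
  have h : cj 32 k = k := (S.el_inj (conjC_lt _ _ (by norm_num) hk) hk).1 (by
    rw [S.el_conjC (by norm_num) hk, hc.eq, mul_inv_cancel_right])
  have h2 := p_x i k hk fk h
  interval_cases k
  · exact Or.inl S.el_zero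
  · exact Or.inr S.el_one

theorem prod_mem {j l : Fin 3} (hij : i ≠ j) (hli : l ≠ i) (hlj : l ≠ j) :
    pv S i * pv S j * pv S l ∈ EE S := by
  have hi := (p_gens i).2.2.2.2.2.2.2.1
  have hj := (p_gens j).2.2.2.2.2.2.2.1
  have hl := (p_gens l).2.2.2.2.2.2.2.1
  rw [pv, pv, pv, ← S.el_mul hi hj, ← S.el_mul (mulC_lt _ _ _ hi _ hj) hl]
  exact (el_mem_EE S (mulC_lt _ _ _ (mulC_lt _ _ _ hi _ hj) _ hl)).2 (p_prod i j hij l hli hlj)

theorem two_planes {j : Fin 3} (hij : i ≠ j) {u : G} (hi : u ∈ PP S i) (hj : u ∈ PP S j) :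
    u = 1 ∨ u = S.s := by
  obtain ⟨k, hk, fk, rfl⟩ := hi
  have h2 := p_two i j hij k hk fk ((el_mem_PP S j hk).1 hj)
  interval_cases k
  · exact Or.inl S.el_zero
  · exact Or.inr S.el_one

/-- The fused element lies in a plane. -/
theorem exists_fused_plane : ∃ j : Fin 3, ∃ u ∈ PP S j, u ≠ S.s ∧ IsConj S.s u := by
  obtain ⟨r, hr, ⟨q, hq, rfl⟩, hne⟩ := S.fused
  have hqq : mu q q = 0 := (S.el_inj (mulC_lt _ _ q (by omega) q (by omega)) (by norm_num)).1 (by
    rw [S.el_mul (by omega) (by omega), S.el_zero]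
    obtain ⟨g, hg⟩ := isConj_iff.1 hr
    show S.g.val q * S.g.val q = 1
    rw [← hg, show g * S.g.s * g⁻¹ * (g * S.g.s * g⁻¹) = g * (S.g.s * S.g.s) * g⁻¹ by group]
    rw [show S.g.s * S.g.s = 1 from S.ss]
    group)
  rcases p_cover q hq hqq with h | h | h <;>
    exact ⟨_, _, (el_mem_PP S _ (by omega : q < 192)).2 h, hne, hr⟩

end CfsgLib.Recognition.ExtraspecialThirtyTwo.AltCase
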